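import Cfsg.Agent.Lib.Suzuki.Ovoid
import Mathlib.GroupTheory.Sylow
import Mathlib.GroupTheory.Nilpotent
import Mathlib.GroupTheory.Solvable
import Mathlib.GroupTheory.SpecificGroups.Cyclic

/-! The Suzuki group as the stabiliser of the ovoid: order, Bruhat form, simplicity, Borel subgroup. -/

namespace Cfsg.Agent.Suzuki

open scoped Pointwise

variable {F : Type*} [Field F] [Fintype F] {m : ℕ} (h : SzField F m)

/-- `T(a,b)` as an element of the Suzuki group. -/
def T (a b : F) : Cfsg.Sz F m := ⟨tEl m a b, tEl_mem h a b⟩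

/-- The torus element as an element of the Suzuki group. -/
def H (k : Fˣ) : Cfsg.Sz F m := ⟨hEl m k, hEl_mem h k⟩

/-- The inversion as an element of the Suzuki group. -/
def W : Cfsg.Sz F m := ⟨wEl, wEl_mem h⟩

/-- The torus as a homomorphism. -/
def HHom : Fˣ →* Cfsg.Sz F m where
  toFun := H h
  map_one' := Subtype.ext hEl_one
  map_mul' k l := Subtype.ext (hEl_mul k l)

/-- The stabiliser of the point at infinity. -/
abbrev borel (F : Type*) [Field F] (m : ℕ) : Subgroup (Cfsg.Sz F m) :=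
  MulAction.stabilizer (Cfsg.Sz F m) (Cfsg.suzukiPointInfinity F)

theorem smul_mem_ovoid (g : Cfsg.Sz F m) {p : Projectivization F (Fin 4 → F)}
    (hp : p ∈ Cfsg.suzukiOvoid F m) : g • p ∈ Cfsg.suzukiOvoid F m := by
  have e := MulAction.mem_stabilizer_iff.mp g.2
  rw [← e]
  exact Set.smul_mem_smul_set hp

include h

theorem T_mul (a b c d : F) : T h a b * T h c d = T h (a + c) (b + d + θ m a * c) :=
  Subtype.ext (tEl_mul h a b c d)

theorem T_zero : T h 0 0 = 1 := Subtype.ext tEl_zero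

theorem T_inv (a b : F) : (T h a b)⁻¹ = T h a (b + θ m a * a) := Subtype.ext (tEl_inv h a b)

theorem H_mul (k l : Fˣ) : H h (k * l) = H h k * H h l := (HHom h).map_mul k l

theorem H_one : H h 1 = 1 := (HHom h).map_one

theorem H_inv (k : Fˣ) : (H h k)⁻¹ = H h k⁻¹ := ((HHom h).map_inv k).symm

theorem H_conj_T (k : Fˣ) (a b : F) :
    H h k * T h a b * (H h k)⁻¹ = T h ((k : F) * a) (θ m (k : F) * k * b) := by
  rw [H_inv]; exact Subtype.ext (hEl_conj_tEl h k a b)

theorem W_mul_self : W h * W h = 1 := Subtype.ext wEl_mul_self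

theorem W_inv : (W h)⁻¹ = W h := inv_eq_of_mul_eq_one_left (W_mul_self h)

theorem W_conj_H (k : Fˣ) : W h * H h k * W h = H h k⁻¹ := Subtype.ext (wEl_conj_hEl k)

theorem T_smul_pt (a b x y : F) : T h a b • pt m x y = pt m (x + a) (y + θ m a * x + b) :=
  tEl_smul_pt h a b x y

theorem T_smul_pt_zero (a b : F) : T h a b • pt m (0 : F) 0 = pt m a b := by
  rw [T_smul_pt]; simp

theorem T_smul_pinf (a b : F) : T h a b • Cfsg.suzukiPointInfinity F = Cfsg.suzukiPointInfinity F :=
  tEl_smul_pinf a b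

theorem H_smul_pt (k : Fˣ) (x y : F) : H h k • pt m x y = pt m ((k : F) * x) (θ m (k : F) * k * y) :=
  hEl_smul_pt h k x y

theorem H_smul_pt_zero (k : Fˣ) : H h k • pt m (0 : F) 0 = pt m 0 0 := by
  rw [H_smul_pt]; simp

theorem H_smul_pinf (k : Fˣ) : H h k • Cfsg.suzukiPointInfinity F = Cfsg.suzukiPointInfinity F :=
  hEl_smul_pinf k

theorem W_smul_pinf : W h • Cfsg.suzukiPointInfinity F = pt m 0 0 := wEl_smul_pinf

theorem W_smul_pt_zero : W h • pt m (0 : F) 0 = Cfsg.suzukiPointInfinity F := wEl_smul_pt_zero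

theorem T_mem_borel (a b : F) : T h a b ∈ borel F m := T_smul_pinf h a b

theorem H_mem_borel (k : Fˣ) : H h k ∈ borel F m := H_smul_pinf h k

theorem fix_two {g : Cfsg.Sz F m} (h1 : g • Cfsg.suzukiPointInfinity F = Cfsg.suzukiPointInfinity F)
    (h0 : g • pt m (0 : F) 0 = pt m 0 0) : ∃ k : Fˣ, g = H h k := by
  obtain ⟨k, hk⟩ := eq_hEl_of_fix h g.2 h1 h0
  exact ⟨k, Subtype.ext hk⟩

theorem borel_form {g : Cfsg.Sz F m} (hg : g ∈ borel F m) :
    ∃ (a b : F) (k : Fˣ), g = T h a b * H h k := by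
  rcases mem_ovoid.mp (smul_mem_ovoid g (pt_mem (m := m) (0 : F) 0)) with e | ⟨a, b, e⟩
  · exfalso
    have : g • pt m (0 : F) 0 = g • Cfsg.suzukiPointInfinity F := e.trans hg.symm
    exact pt_ne_pinf 0 0 (smul_left_cancel g this)
  · have hinf : ((T h a b)⁻¹ * g) • Cfsg.suzukiPointInfinity F = Cfsg.suzukiPointInfinity F :=
      (borel F m).mul_mem ((borel F m).inv_mem (T_mem_borel h a b)) hg
    have hzero : ((T h a b)⁻¹ * g) • pt m (0 : F) 0 = pt m 0 0 := by
      rw [mul_smul, e, inv_smul_eq_iff, T_smul_pt_zero]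
    obtain ⟨k, hk⟩ := fix_two h hinf hzero
    exact ⟨a, b, k, by rw [← hk, mul_inv_cancel_left]⟩

theorem H_injective : Function.Injective (H h) := fun k l e => by
  have := congrArg (fun g : Cfsg.Sz F m => (g : Matrix.SpecialLinearGroup (Fin 4) F).1 1 1) e
  have e' : hθ m (k : F) = hθ m (l : F) := this
  apply Units.ext
  have := congrArg (θ m) e'
  rwa [h.θ_hθ, h.θ_hθ] at this

theorem T_injective {a b c d : F} (e : T h a b = T h c d) : a = c ∧ b = d := by
  have := congrArg (fun g : Cfsg.Sz F m => g • pt m (0 : F) 0) e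
  simp only [T_smul_pt_zero] at this
  exact pt_inj this

theorem TH_unique {a b c d : F} {k l : Fˣ} (e : T h a b * H h k = T h c d * H h l) :
    a = c ∧ b = d ∧ k = l := by
  have := congrArg (fun g : Cfsg.Sz F m => g • pt m (0 : F) 0) e
  simp only [mul_smul, H_smul_pt_zero, T_smul_pt_zero] at this
  obtain ⟨rfl, rfl⟩ := pt_inj this
  exact ⟨rfl, rfl, H_injective h (mul_left_cancel e)⟩

/-- Bruhat decomposition. -/
theorem bruhat {g : Cfsg.Sz F m} (hg : g ∉ borel F m) :
    ∃ (x y a b : F) (k : Fˣ), g = T h x y * W h * (T h a b * H h k) := by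
  rcases mem_ovoid.mp (smul_mem_ovoid g (pinf_mem (F := F) (m := m))) with e | ⟨x, y, e⟩
  · exact absurd e hg
  · have : (W h * (T h x y)⁻¹ * g) ∈ borel F m := by
      rw [MulAction.mem_stabilizer_iff, mul_smul, mul_smul]
      rw [show g • Cfsg.suzukiPointInfinity F = pt m x y from e]
      rw [show (T h x y)⁻¹ • pt m x y = pt m (0 : F) 0 by rw [inv_smul_eq_iff, T_smul_pt_zero],
        W_smul_pt_zero]
    obtain ⟨a, b, k, hk⟩ := borel_form h this
    refine ⟨x, y, a, b, k, ?_⟩
    rw [← hk, show T h x y * W h * (W h * (T h x y)⁻¹ * g) = T h x y * (W h * W h) * (T h x y)⁻¹ * g by group,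
      W_mul_self]
    group

theorem exists_smul_pinf {p : Projectivization F (Fin 4 → F)} (hp : p ∈ Cfsg.suzukiOvoid F m) :
    ∃ g : Cfsg.Sz F m, g • Cfsg.suzukiPointInfinity F = p := by
  rcases mem_ovoid.mp hp with rfl | ⟨x, y, rfl⟩
  · exact ⟨1, one_smul _ _⟩
  · exact ⟨T h x y * W h, by rw [mul_smul, W_smul_pinf, T_smul_pt_zero]⟩

/-- Double transitivity in point form. -/
theorem exists_smul_pair {p q : Projectivization F (Fin 4 → F)} (hp : p ∈ Cfsg.suzukiOvoid F m)
    (hq : q ∈ Cfsg.suzukiOvoid F m) (hne : p ≠ q) :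
    ∃ g : Cfsg.Sz F m, g • Cfsg.suzukiPointInfinity F = p ∧ g • pt m (0 : F) 0 = q := by
  obtain ⟨g, rfl⟩ := exists_smul_pinf h hp
  rcases mem_ovoid.mp (smul_mem_ovoid g⁻¹ hq) with e | ⟨x, y, e⟩
  · exact absurd (inv_smul_eq_iff.mp e).symm hne
  · refine ⟨g * T h x y, by rw [mul_smul, T_smul_pinf], ?_⟩
    rw [mul_smul, T_smul_pt_zero, ← e, smul_inv_smul]

/-- An element fixing three points of the ovoid is the identity. -/
theorem fix_three {g : Cfsg.Sz F m} {p q r : Projectivization F (Fin 4 → F)}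
    (hp : p ∈ Cfsg.suzukiOvoid F m) (hq : q ∈ Cfsg.suzukiOvoid F m) (hr : r ∈ Cfsg.suzukiOvoid F m)
    (hpq : p ≠ q) (hqr : q ≠ r) (hpr : p ≠ r) (gp : g • p = p) (gq : g • q = q) (gr : g • r = r) :
    g = 1 := by
  obtain ⟨u, rfl, rfl⟩ := exists_smul_pair h hp hq hpq
  have hfix : ∀ s : Projectivization F (Fin 4 → F), g • u • s = u • s → (u⁻¹ * g * u) • s = s := fun s e => by
    rw [mul_smul, mul_smul, e, inv_smul_smul]
  obtain ⟨k, hk⟩ := fix_two h (hfix _ gp) (hfix _ gq)
  have hk1 : k = 1 := by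
    rcases mem_ovoid.mp (smul_mem_ovoid u⁻¹ hr) with e | ⟨x, y, e⟩
    · exact absurd (inv_smul_eq_iff.mp e).symm hpr
    · have hfr : H h k • pt m x y = pt m x y := by
        rw [← hk, ← e]; exact hfix _ (by rwa [smul_inv_smul])
      rw [H_smul_pt] at hfr
      obtain ⟨hx, hy⟩ := pt_inj hfr
      by_cases hx0 : x = 0
      · have hy0 : y ≠ 0 := by
          rintro rfl
          subst hx0
          exact hqr (inv_smul_eq_iff.mp e).symm
        have h1 : θ m (k : F) * k = θ m (1 : F) * 1 := by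
          rw [θ_one, mul_one]; exact mul_right_cancel₀ hy0 (hy.trans (one_mul y).symm)
        exact Units.ext (h.θ_mul_self_injective k.ne_zero one_ne_zero h1)
      · exact Units.ext (mul_right_cancel₀ hx0 (hx.trans (one_mul x).symm))
  rw [hk1, H_one] at hk
  calc g = u * (u⁻¹ * g * u) * u⁻¹ := by group
    _ = 1 := by rw [hk]; group

omit h in
theorem card_ovoid_eq : Nat.card (Cfsg.suzukiOvoid F m) = Fintype.card F ^ 2 + 1 := by
  let f : Option (F × F) → Cfsg.suzukiOvoid F m := fun o =>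
    o.elim ⟨_, pinf_mem⟩ (fun p => ⟨pt m p.1 p.2, pt_mem _ _⟩)
  have hf : Function.Bijective f := by
    constructor
    · rintro (_ | ⟨a, b⟩) (_ | ⟨c, d⟩) e
      · rfl
      · exact absurd (congrArg Subtype.val e).symm (pt_ne_pinf c d)
      · exact absurd (congrArg Subtype.val e) (pt_ne_pinf a b)
      · obtain ⟨rfl, rfl⟩ := pt_inj (congrArg Subtype.val e)
        rfl
    · rintro ⟨p, hp⟩
      rcases mem_ovoid.mp hp with rfl | ⟨x, y, rfl⟩
      · exact ⟨none, rfl⟩
      · exact ⟨some (x, y), rfl⟩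
  rw [← Nat.card_eq_of_bijective f hf, Nat.card_eq_fintype_card, Fintype.card_option, Fintype.card_prod, sq]

include h in
theorem card_borel : Nat.card (borel F m) =
    (2 ^ (2 * m + 1)) ^ 2 * (2 ^ (2 * m + 1) - 1) := by
  let f : F × F × Fˣ → borel F m := fun p =>
    ⟨T h p.1 p.2.1 * H h p.2.2, (borel F m).mul_mem (T_mem_borel h _ _) (H_mem_borel h _)⟩
  have hf : Function.Bijective f := by
    constructor
    · rintro ⟨a, b, k⟩ ⟨c, d, l⟩ e
      obtain ⟨rfl, rfl, rfl⟩ := TH_unique h (congrArg Subtype.val e)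
      rfl
    · rintro ⟨g, hg⟩
      obtain ⟨a, b, k, rfl⟩ := borel_form h hg
      exact ⟨(a, b, k), rfl⟩
  rw [← Nat.card_eq_of_bijective f hf, Nat.card_prod, Nat.card_prod, h.card_units_natCard,
    Nat.card_eq_fintype_card, h.card]
  ring

include h in
theorem orbit_pinf : MulAction.orbit (Cfsg.Sz F m) (Cfsg.suzukiPointInfinity F) = Cfsg.suzukiOvoid F m :=
  Set.ext fun _ => ⟨fun ⟨g, hg⟩ => hg ▸ smul_mem_ovoid g pinf_mem, fun hp => exists_smul_pinf h hp⟩

include h in
theorem index_borel : (borel F m).index = (2 ^ (2 * m + 1)) ^ 2 + 1 := by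
  rw [MulAction.index_stabilizer, ← Nat.card_coe_set_eq, orbit_pinf h, card_ovoid_eq, h.card]

include h in
theorem card_Sz : Nat.card (Cfsg.Sz F m) =
    (2 ^ (2 * m + 1)) ^ 2 * ((2 ^ (2 * m + 1)) ^ 2 + 1) * (2 ^ (2 * m + 1) - 1) := by
  rw [← (borel F m).card_mul_index, card_borel h, index_borel h]
  ring

/-- The root group. -/
def rootGroup : Subgroup (Cfsg.Sz F m) where
  carrier := {g | ∃ a b, g = T h a b}
  one_mem' := ⟨0, 0, (T_zero h).symm⟩
  mul_mem' := by rintro _ _ ⟨a, b, rfl⟩ ⟨c, d, rfl⟩; exact ⟨_, _, T_mul h a b c d⟩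
  inv_mem' := by rintro _ ⟨a, b, rfl⟩; exact ⟨_, _, T_inv h a b⟩

theorem card_rootGroup : Nat.card (rootGroup h) = (2 ^ (2 * m + 1)) ^ 2 := by
  let f : F × F → rootGroup h := fun p => ⟨T h p.1 p.2, p.1, p.2, rfl⟩
  have hf : Function.Bijective f := by
    constructor
    · rintro ⟨a, b⟩ ⟨c, d⟩ e
      obtain ⟨rfl, rfl⟩ := T_injective h (congrArg Subtype.val e)
      rfl
    · rintro ⟨_, a, b, rfl⟩
      exact ⟨(a, b), rfl⟩
  rw [← Nat.card_eq_of_bijective f hf, Nat.card_prod, Nat.card_eq_fintype_card, h.card, sq]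

theorem rootGroup_le_borel : rootGroup h ≤ borel F m := by
  rintro _ ⟨a, b, rfl⟩; exact T_mem_borel h a b

theorem borel_le_normalizer : borel F m ≤ Subgroup.normalizer (rootGroup h : Set (Cfsg.Sz F m)) := by
  intro g hg
  obtain ⟨a, b, k, rfl⟩ := borel_form h hg
  refine Subgroup.mul_mem _ (Subgroup.le_normalizer ⟨a, b, rfl⟩) ?_
  rw [Subgroup.mem_normalizer_iff]
  intro t
  constructor
  · rintro ⟨c, d, rfl⟩
    exact ⟨_, _, H_conj_T h k c d⟩
  · rintro ⟨c, d, e⟩
    refine ⟨((k⁻¹ : Fˣ) : F) * c, θ m ((k⁻¹ : Fˣ) : F) * ((k⁻¹ : Fˣ) : F) * d, ?_⟩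
    rw [← H_conj_T h k⁻¹ c d, ← e, ← H_inv]
    group

/-- A non-identity root element fixes only the point at infinity. -/
theorem T_fix_eq {a b : F} {p : Projectivization F (Fin 4 → F)} (hne : T h a b ≠ 1)
    (hp : p ∈ Cfsg.suzukiOvoid F m) (e : T h a b • p = p) : p = Cfsg.suzukiPointInfinity F := by
  rcases mem_ovoid.mp hp with rfl | ⟨x, y, rfl⟩
  · rfl
  · exfalso
    rw [T_smul_pt] at e
    obtain ⟨hx, hy⟩ := pt_inj e
    have ha : a = 0 := by simpa using hx
    subst ha
    have hb : b = 0 := by simpa using hy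
    subst hb
    exact hne (T_zero h)

include h in
theorem exists_factor_not_borel : W h ∉ borel F m := fun e => pt_ne_pinf (m := m) (0 : F) 0
  ((W_smul_pinf h).symm.trans e)

theorem T_mem_commutator (a b : F) : T h a b ∈ commutator (Cfsg.Sz F m) := by
  have h8 := h.eight_le_card
  obtain ⟨k, hk1⟩ : ∃ k : Fˣ, k ≠ 1 := by
    by_contra hall
    push Not at hall
    have : Subsingleton Fˣ := ⟨fun x y => (hall x).trans (hall y).symm⟩
    have h1 := h.card_units_natCard
    rw [Nat.card_unique, ← h.card] at h1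
    omega
  have hk : (k : F) + 1 ≠ 0 := fun e => hk1 (Units.ext ((h.eq_iff_add_eq_zero _ _).mpr e))
  have hk' : θ m (k : F) * k + 1 ≠ 0 := by
    intro e
    have e' : θ m (k : F) * k = θ m (1 : F) * 1 := by
      rw [θ_one, mul_one]; exact (h.eq_iff_add_eq_zero _ _).mpr e
    exact hk1 (Units.ext (h.θ_mul_self_injective k.ne_zero one_ne_zero e'))
  have hcomm : ∀ c d, T h ((k : F) * c) (θ m (k : F) * k * d) * (T h c d)⁻¹ ∈ commutator (Cfsg.Sz F m) := by
    intro c d
    rw [← H_conj_T h k c d, commutator_def]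
    exact Subgroup.commutator_mem_commutator (Subgroup.mem_top _) (Subgroup.mem_top _)
  have hzero : ∀ d, T h 0 d ∈ commutator (Cfsg.Sz F m) := by
    intro d
    have := hcomm 0 (d / (θ m (k : F) * k + 1))
    rw [T_inv, T_mul] at this
    convert! this using 2
    · simp
    · simp only [θ_zero, mul_zero, add_zero, zero_mul]
      field_simp
  obtain ⟨d, hd⟩ : ∃ d, T h a d ∈ commutator (Cfsg.Sz F m) := by
    have := hcomm (a / ((k : F) + 1)) 0
    rw [T_inv, T_mul] at this
    rw [show (k : F) * (a / ((k : F) + 1)) + a / ((k : F) + 1) = a by field_simp] at this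
    exact ⟨_, this⟩
  have := Subgroup.mul_mem _ hd (hzero (b + d))
  rw [T_mul] at this
  convert! this using 2
  · simp
  · simp only [mul_zero, add_zero]
    linear_combination (-d) * h.two_eq_zero

include h in
theorem isSimple : IsSimpleGroup (Cfsg.Sz F m) := by
  have : Nontrivial (Cfsg.Sz F m) := ⟨W h, 1, fun e => exists_factor_not_borel h (e ▸ (borel F m).one_mem)⟩
  refine ⟨fun N hN => ?_⟩
  by_cases hNB : N ≤ borel F m
  · left
    rw [eq_bot_iff]
    intro n hn
    have hall : ∀ p ∈ Cfsg.suzukiOvoid F m, n • p = p := by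
      intro p hp
      obtain ⟨g, rfl⟩ := exists_smul_pinf h hp
      have : (g⁻¹ * n * g) • Cfsg.suzukiPointInfinity F = Cfsg.suzukiPointInfinity F :=
        hNB (by simpa using hN.conj_mem n hn g⁻¹)
      rw [mul_smul, mul_smul, inv_smul_eq_iff] at this
      exact this
    exact (Subgroup.mem_bot).mpr (fix_three h pinf_mem (pt_mem (m := m) (0 : F) 0) (pt_mem (m := m) (1 : F) 0)
      (pt_ne_pinf _ _).symm (fun e => zero_ne_one (pt_inj e).1) (pt_ne_pinf _ _).symm
      (hall _ pinf_mem) (hall _ (pt_mem _ _)) (hall _ (pt_mem _ _)))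
  · right
    obtain ⟨n, hn, hnB⟩ := SetLike.not_le_iff_exists.mp hNB
    -- N is transitive on the ovoid
    have htrans : ∀ g : Cfsg.Sz F m, ∃ u ∈ N, u⁻¹ * g ∈ borel F m := by
      intro g
      by_cases hg : g ∈ borel F m
      · exact ⟨1, N.one_mem, by simpa using hg⟩
      · obtain ⟨x, y, e⟩ : ∃ x y, g • Cfsg.suzukiPointInfinity F = pt m x y := by
          rcases mem_ovoid.mp (smul_mem_ovoid g (pinf_mem (F := F) (m := m))) with e | e
          · exact absurd e hg
          · exact e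
        obtain ⟨x', y', e'⟩ : ∃ x y, n • Cfsg.suzukiPointInfinity F = pt m x y := by
          rcases mem_ovoid.mp (smul_mem_ovoid n (pinf_mem (F := F) (m := m))) with e | e
          · exact absurd e hnB
          · exact e
        set t := T h x y * (T h x' y')⁻¹ with ht
        refine ⟨t * n * t⁻¹, hN.conj_mem n hn t, ?_⟩
        have htb : t⁻¹ • Cfsg.suzukiPointInfinity F = Cfsg.suzukiPointInfinity F :=
          (borel F m).inv_mem ((borel F m).mul_mem (T_mem_borel h x y) ((borel F m).inv_mem (T_mem_borel h x' y')))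
        rw [MulAction.mem_stabilizer_iff, mul_smul, inv_smul_eq_iff, e, mul_smul, mul_smul, htb, e', ht,
          mul_smul, ← T_smul_pt_zero h x' y', inv_smul_smul, T_smul_pt_zero]
    set M := N ⊔ rootGroup h with hM
    have hMn : M.Normal := by
      refine ⟨fun x hx g => ?_⟩
      have key : M ≤ M.comap (MulAut.conj g).toMonoidHom := by
        refine sup_le (fun z hz => Subgroup.mem_sup_left (hN.conj_mem z hz g)) (fun z hz => ?_)
        obtain ⟨u, hu, hub⟩ := htrans g
        have h1 : (u⁻¹ * g) * z * (u⁻¹ * g)⁻¹ ∈ M := Subgroup.mem_sup_right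
          ((Subgroup.mem_normalizer_iff.mp (borel_le_normalizer h hub) z).mp hz)
        show g * z * g⁻¹ ∈ M
        have h2 := M.mul_mem (M.mul_mem (Subgroup.mem_sup_left hu) h1) (M.inv_mem (Subgroup.mem_sup_left hu))
        convert! h2 using 1
        group
      exact key hx
    have hTM : ∀ a b, T h a b ∈ M := fun a b => Subgroup.mem_sup_right ⟨a, b, rfl⟩
    -- the torus lies in M
    have hgen : ∀ g, ∃ k, (QuotientGroup.mk g : Cfsg.Sz F m ⧸ M) = QuotientGroup.mk (H h k) := by
      intro g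
      obtain ⟨u, hu, hub⟩ := htrans g
      obtain ⟨a, b, k, hk⟩ := borel_form h hub
      refine ⟨k, ?_⟩
      have : g = (u * T h a b) * H h k := by rw [mul_assoc, ← hk, mul_inv_cancel_left]
      rw [this, QuotientGroup.mk_mul, (QuotientGroup.eq_one_iff (u * T h a b)).mpr
        (M.mul_mem (Subgroup.mem_sup_left hu) (hTM a b)), one_mul]
    have hH : ∀ k, H h k ∈ M := by
      intro k
      obtain ⟨kw, hkw⟩ := hgen (W h)
      have h1 : (QuotientGroup.mk (W h * H h k * W h) : Cfsg.Sz F m ⧸ M) = QuotientGroup.mk (H h k) := by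
        simp only [QuotientGroup.mk_mul, hkw]
        rw [← QuotientGroup.mk_mul, ← QuotientGroup.mk_mul, ← H_mul, ← H_mul, mul_right_comm, H_mul,
          QuotientGroup.mk_mul, H_mul, QuotientGroup.mk_mul, ← hkw, ← QuotientGroup.mk_mul, W_mul_self,
          QuotientGroup.mk_one, one_mul]
      rw [W_conj_H, QuotientGroup.eq] at h1
      have h2 : H h (k * k) ∈ M := by rwa [H_inv, inv_inv, ← H_mul] at h1
      have hodd : Odd (Nat.card Fˣ) := by
        rw [h.card_units_natCard]
        exact Nat.Even.sub_odd (Nat.one_le_two_pow) ((Nat.even_pow).mpr ⟨even_two, by omega⟩) odd_one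
      obtain ⟨j, hj⟩ := hodd
      have h3 : (k * k) ^ (j + 1) = k := by
        rw [← sq, ← pow_mul, show 2 * (j + 1) = Nat.card Fˣ + 1 by omega, pow_succ, pow_card_eq_one', one_mul]
      rw [← h3, show H h ((k * k) ^ (j + 1)) = H h (k * k) ^ (j + 1) from (HHom h).map_pow _ _]
      exact M.pow_mem h2 _
    have hMtop : M = ⊤ := by
      refine eq_top_iff.mpr fun g _ => ?_
      obtain ⟨k, hk⟩ := hgen g
      rw [← QuotientGroup.eq_one_iff, hk, QuotientGroup.eq_one_iff]
      exact hH k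
    -- the quotient by N is a perfect 2-group
    let φ := QuotientGroup.mk' N
    have hmap : (rootGroup h).map φ = ⊤ := by
      rw [eq_top_iff, ← Subgroup.map_top_of_surjective φ (QuotientGroup.mk'_surjective N), ← hMtop, hM,
        Subgroup.map_sup, QuotientGroup.map_mk'_self, bot_sup_eq]
    have hp : IsPGroup 2 (Cfsg.Sz F m ⧸ N) := by
      have h1 : IsPGroup 2 (rootGroup h) :=
        IsPGroup.of_card (n := (2 * m + 1) * 2) (by rw [card_rootGroup, ← pow_mul])
      have h2 := h1.map φ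
      rw [hmap] at h2
      exact h2.of_equiv Subgroup.topEquiv
    have hperf : commutator (Cfsg.Sz F m ⧸ N) = ⊤ := by
      rw [eq_top_iff, ← hmap]
      rintro _ ⟨_, ⟨a, b, rfl⟩, rfl⟩
      have h1 := Subgroup.mem_map_of_mem φ (T_mem_commutator h a b)
      rw [commutator_def, Subgroup.map_commutator] at h1
      exact (Subgroup.commutator_mono le_top le_top) h1
    have : Fact (Nat.Prime 2) := ⟨Nat.prime_two⟩
    have := hp.isNilpotent
    by_contra hne
    have : Nontrivial (Cfsg.Sz F m ⧸ N) :=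
      QuotientGroup.nontrivial_iff.mpr hne
    exact (Group.IsSolvable.commutator_lt_top_of_nontrivial (Cfsg.Sz F m ⧸ N)).ne hperf

end Cfsg.Agent.Suzuki
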