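import Cfsg.Prelude.Def_Sz
import Cfsg.Agent.Lib.Suzuki.Group

/-! The minor model `Cfsg.Lie.Sz` coincides with the ovoid model `Cfsg.Sz`. -/

namespace Cfsg.Agent.Suzuki

open scoped Pointwise Matrix

variable {F : Type*} [Field F] {m : ℕ}

/-- Two by two minor of two vectors. -/
def minor2 (v u : Fin 4 → F) (p : Fin 4) : F :=
  v (Cfsg.Lie.pairOf p).1 * u (Cfsg.Lie.pairOf p).2 + v (Cfsg.Lie.pairOf p).2 * u (Cfsg.Lie.pairOf p).1

/-- The criterion for lying on the ovoid. -/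
def MinorCrit (m : ℕ) (v : Fin 4 → F) : Prop :=
  ∃ u, Cfsg.Lie.altForm4 v u = 0 ∧ ∀ p, minor2 v u p = θ m (v p)

/-- The defining condition of the minor model. -/
def MinorGen (m : ℕ) (g : Matrix (Fin 4) (Fin 4) F) : Prop :=
  (∀ u v, Cfsg.Lie.altForm4 (g *ᵥ u) (g *ᵥ v) = Cfsg.Lie.altForm4 u v) ∧
    Cfsg.Lie.star4 g = g.map (θ m)

variable [Fintype F] (h : SzField F m)

include h

omit [Fintype F] h in
theorem minorCrit_pinf : MinorCrit m (![1, 0, 0, 0] : Fin 4 → F) := by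
  refine ⟨![0, 1, 0, 0], by simp [Cfsg.Lie.altForm4], fun p => ?_⟩
  fin_cases p <;> simp [minor2, Cfsg.Lie.pairOf]

theorem minorCrit_ptVec (x y : F) : MinorCrit m (ptVec m x y) := by
  refine ⟨![y + θ m x * x, θ m x, 1, 0], ?_, fun p => ?_⟩
  · simp [Cfsg.Lie.altForm4, ptVec]
    linear_combination (y + θ m x * x) * h.two_eq_zero
  · fin_cases p <;> simp [minor2, Cfsg.Lie.pairOf, ptVec, fz_eq, h.θ_add, θ_mul, θ_pow, h.θ_θ]
    · linear_combination (x * y * θ m x) * h.two_eq_zero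
    · linear_combination (x * y + θ m x * x ^ 2) * h.two_eq_zero

theorem mk_mem_ovoid_of_minorCrit {v : Fin 4 → F} (hv : v ≠ 0) (hc : MinorCrit m v) :
    Projectivization.mk F v hv ∈ Cfsg.suzukiOvoid F m := by
  obtain ⟨u, hB, hm⟩ := hc
  have h0 : v 0 * u 1 + v 1 * u 0 = θ m (v 0) := hm 0
  have h1 : v 0 * u 2 + v 2 * u 0 = θ m (v 1) := hm 1
  have h2 : v 1 * u 3 + v 3 * u 1 = θ m (v 2) := hm 2
  have h3 : v 2 * u 3 + v 3 * u 2 = θ m (v 3) := hm 3
  simp only [Cfsg.Lie.altForm4] at hB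
  set w := v 1 * u 2 + v 2 * u 1 with hw
  have e012 : v 0 * w + v 1 * θ m (v 1) + v 2 * θ m (v 0) = 0 := by
    rw [← h0, ← h1, hw]
    linear_combination (v 0 * v 1 * u 2 + v 0 * v 2 * u 1 + v 1 * v 2 * u 0) * h.two_eq_zero
  have e013 : v 0 * θ m (v 2) + v 1 * w + v 3 * θ m (v 0) = 0 := by
    rw [← h0, ← h2, hw]
    linear_combination (v 1) * hB + (v 0 * v 3 * u 1) * h.two_eq_zero
  have e023 : v 0 * θ m (v 3) + v 2 * w + v 3 * θ m (v 1) = 0 := by
    rw [← h1, ← h3, hw]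
    linear_combination (v 2) * hB + (v 0 * v 3 * u 2) * h.two_eq_zero
  have e123 : v 1 * θ m (v 3) + v 2 * θ m (v 2) + v 3 * w = 0 := by
    rw [← h2, ← h3, hw]
    linear_combination (v 1 * v 2 * u 3 + v 2 * v 3 * u 1 + v 1 * v 3 * u 2) * h.two_eq_zero
  by_cases hd : v 3 = 0
  · have hc2 : v 2 = 0 := by
      simp only [hd, θ_zero, mul_zero, zero_mul, zero_add, add_zero] at e123
      rcases mul_eq_zero.mp e123 with e | e
      · exact e
      · exact h.θ_eq_zero.mp e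
    have hb : v 1 = 0 := by
      by_contra hb
      simp only [hd, hc2, θ_zero, mul_zero, zero_mul, zero_add, add_zero] at e013 e012
      have hw0 : w = 0 := (mul_eq_zero.mp e013).resolve_left hb
      rw [hw0, mul_zero, zero_add] at e012
      exact mul_ne_zero hb (θ_ne_zero m hb) e012
    refine mem_ovoid.mpr (Or.inl ?_)
    rw [pinf, Cfsg.suzukiPointInfinity, Projectivization.mk_eq_mk_iff']
    refine ⟨v 0, ?_⟩
    funext i
    fin_cases i <;> simp [hd, hc2, hb]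
  · have hθd := θ_ne_zero m hd
    have key : fz m (v 2 / v 3) (v 1 / v 3) = v 0 / v 3 := by
      rw [fz_eq, θ_div, θ_div]
      field_simp
      linear_combination (v 3) * e023 + (v 2) * e123 - (v 0 * v 3 * θ m (v 3) + v 2 * v 3 * w) * h.two_eq_zero
    refine mem_ovoid.mpr (Or.inr ⟨v 2 / v 3, v 1 / v 3, ?_⟩)
    rw [pt, Projectivization.mk_eq_mk_iff']
    refine ⟨v 3, ?_⟩
    funext i
    fin_cases i <;> simp [ptVec, key] <;> field_simp

omit h in
theorem MinorGen.rows {g : Matrix (Fin 4) (Fin 4) F} (hg : MinorGen m g) (i j : Fin 4) :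
    Cfsg.Lie.altForm4 (g i) (g j) = if (i : ℕ) + j = 3 then 1 else 0 := by
  let g' : Matrix (Fin 4) (Fin 4) F := Matrix.of fun a b => g b.rev a.rev
  have hleft : g' * g = 1 := by
    ext a b
    have := hg.1 (Pi.single a.rev 1) (Pi.single b 1)
    rw [Matrix.mul_apply]
    simp only [g', Cfsg.Lie.altForm4, Matrix.mulVec_single_one, Matrix.col_apply, Fin.sum_univ_four] at this ⊢
    simp only [Matrix.of_apply]
    fin_cases a <;> fin_cases b <;> simp [Fin.rev] at this ⊢ <;> linear_combination this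
  have hright : g * g' = 1 := mul_eq_one_comm.mp hleft
  have := congrFun (congrFun hright i) j.rev
  simp only [Matrix.mul_apply, Fin.sum_univ_four, g', Matrix.of_apply, Fin.rev_rev] at this
  simp only [Cfsg.Lie.altForm4]
  fin_cases i <;> fin_cases j <;> simp [Fin.rev, Matrix.one_apply] at this ⊢ <;> linear_combination this

theorem MinorGen.det_eq_one {g : Matrix (Fin 4) (Fin 4) F} (hg : MinorGen m g) : g.det = 1 := by
  let J : Matrix (Fin 4) (Fin 4) F := !![0, 0, 0, 1; 0, 0, 1, 0; 0, 1, 0, 0; 1, 0, 0, 0]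
  have hJ : g * J * g.transpose = J := by
    ext i j
    have := hg.rows i j
    simp only [Cfsg.Lie.altForm4] at this
    simp only [Matrix.mul_apply, Fin.sum_univ_four, Matrix.transpose_apply]
    fin_cases i <;> fin_cases j <;> simp [J] at this ⊢ <;> linear_combination this
  have hJd : J.det * J.det = 1 := by
    rw [← Matrix.det_mul]
    have : J * J = 1 := by
      ext i j
      fin_cases i <;> fin_cases j <;> simp [J, Matrix.mul_apply, Fin.sum_univ_four]
    rw [this, Matrix.det_one]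
  have hd := congrArg Matrix.det hJ
  rw [Matrix.det_mul, Matrix.det_mul, Matrix.det_transpose] at hd
  have h2 : g.det * g.det = 1 := by linear_combination J.det * hd + (1 - g.det * g.det) * hJd
  have h3 : (g.det + 1) * (g.det + 1) = 0 := by linear_combination h2 + (g.det + 1) * h.two_eq_zero
  exact (h.eq_iff_add_eq_zero _ _).mpr (mul_self_eq_zero.mp h3)

theorem MinorGen.crit {g : Matrix (Fin 4) (Fin 4) F} (hg : MinorGen m g) {v : Fin 4 → F}
    (hv : MinorCrit m v) : MinorCrit m (g *ᵥ v) := by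
  obtain ⟨u, hB, hm⟩ := hv
  refine ⟨g *ᵥ u, by rw [hg.1, hB], fun p => ?_⟩
  set k := (Cfsg.Lie.pairOf p).1 with hk
  set l := (Cfsg.Lie.pairOf p).2 with hl
  have hrow : Cfsg.Lie.altForm4 (g k) (g l) = 0 := by
    rw [hg.rows]
    fin_cases p <;> simp [hk, hl, Cfsg.Lie.pairOf]
  have hs : ∀ r, θ m (g p r) =
      g k (Cfsg.Lie.pairOf r).1 * g l (Cfsg.Lie.pairOf r).2 - g l (Cfsg.Lie.pairOf r).1 * g k (Cfsg.Lie.pairOf r).2 :=
    fun r => ((congrFun (congrFun hg.2 p) r).trans rfl).symm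
  show (g *ᵥ v) k * (g *ᵥ u) l + (g *ᵥ v) l * (g *ᵥ u) k = _
  have hθ : θ m ((g *ᵥ v) p) = θ m (g p 0) * θ m (v 0) + θ m (g p 1) * θ m (v 1) +
      θ m (g p 2) * θ m (v 2) + θ m (g p 3) * θ m (v 3) := by
    simp only [Matrix.mulVec, dotProduct, Fin.sum_univ_four, h.θ_add, θ_mul]
  rw [hθ, hs, hs, hs, hs, ← hm 0, ← hm 1, ← hm 2, ← hm 3]
  simp only [Cfsg.Lie.altForm4] at hB hrow
  simp only [minor2, Cfsg.Lie.pairOf, Matrix.cons_val_zero, Matrix.cons_val_one, Matrix.cons_val, Matrix.mulVec,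
    dotProduct, Fin.sum_univ_four]
  linear_combination (g k 0 * g l 3 + g l 0 * g k 3) * hB + (v 1 * u 2 + v 2 * u 1) * hrow +
    (g k 0 * g l 0 * v 0 * u 0 + g k 1 * g l 1 * v 1 * u 1 + g k 2 * g l 2 * v 2 * u 2 + g k 3 * g l 3 * v 3 * u 3
      + g l 0 * g k 1 * (v 0 * u 1 + v 1 * u 0) + g l 0 * g k 2 * (v 0 * u 2 + v 2 * u 0)
      + g l 1 * g k 3 * (v 1 * u 3 + v 3 * u 1) + g l 2 * g k 3 * (v 2 * u 3 + v 3 * u 2)
      - g k 0 * g l 3 * (v 1 * u 2 + v 2 * u 1) - g k 3 * g l 0 * (v 1 * u 2 + v 2 * u 1)) * h.two_eq_zero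

theorem minorGen_mem_Sz (g : Matrix.SpecialLinearGroup (Fin 4) F)
    (hg : MinorGen m (g : Matrix (Fin 4) (Fin 4) F)) : g ∈ Cfsg.Sz F m := by
  refine mem_Sz_of_mapsTo h g fun p hp => ?_
  have key : ∀ (v : Fin 4 → F) (hv : v ≠ 0), MinorCrit m v →
      g • Projectivization.mk F v hv ∈ Cfsg.suzukiOvoid F m := fun v hv hc => by
    rw [smul_proj g v hv (mulVec_ne_zero g hv)]
    exact mk_mem_ovoid_of_minorCrit h _ (hg.crit h hc)
  rcases mem_ovoid.mp hp with rfl | ⟨x, y, rfl⟩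
  · exact key _ _ minorCrit_pinf
  · exact key _ _ (minorCrit_ptVec h x y)

theorem minorGen_tEl (a b : F) : MinorGen m (tEl m a b : Matrix (Fin 4) (Fin 4) F) := by
  have := h.charP
  constructor
  · intro u v
    simp [Cfsg.Lie.altForm4, tEl_coe, Matrix.mulVec, dotProduct, Fin.sum_univ_four]
    linear_combination (a * (u 1 * v 3 + v 1 * u 3) + (b + θ m a * a) * (u 2 * v 3 + v 2 * u 3)
      + (fz m a b + a * b) * (u 3 * v 3) + θ m a * u 2 * v 2) * h.two_eq_zero
  · ext i j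
    rw [tEl_coe]
    fin_cases i <;> fin_cases j <;>
      simp [Cfsg.Lie.star4, Cfsg.Lie.pairOf, CharTwo.sub_eq_add, fz_eq, h.θ_add, θ_mul, θ_pow, h.θ_θ] <;>
      ring_nf <;> simp [h.two_eq_zero]

theorem minorGen_hEl (k : Fˣ) : MinorGen m (hEl m k : Matrix (Fin 4) (Fin 4) F) := by
  have h1 := hθ_ne_zero m k.ne_zero
  have h2 := k.ne_zero
  have h3 : θ m (k : F) = hθ m (k : F) * hθ m (k : F) := (hθ_sq m _).symm
  constructor
  · intro u v
    simp [Cfsg.Lie.altForm4, hEl_coe, Matrix.mulVec, dotProduct, Fin.sum_univ_four]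
    field_simp
  · ext i j
    rw [hEl_coe]
    fin_cases i <;> fin_cases j <;>
      simp [Cfsg.Lie.star4, Cfsg.Lie.pairOf, θ_mul, θ_inv, h.θ_hθ] <;>
      (try rw [h3]) <;> field_simp

theorem minorGen_wEl : MinorGen m (wEl : Matrix.SpecialLinearGroup (Fin 4) F).1 := by
  have := h.charP
  constructor
  · intro u v
    simp [Cfsg.Lie.altForm4, wEl_coe, Matrix.mulVec, dotProduct, Fin.sum_univ_four]
    ring
  · ext i j
    rw [wEl_coe]
    fin_cases i <;> fin_cases j <;> simp [Cfsg.Lie.star4, Cfsg.Lie.pairOf, CharTwo.neg_eq]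

/-- The embedding of the ovoid model into `GL₄`. -/
def toMinorHom : Cfsg.Sz F m →* GL (Fin 4) F :=
  Matrix.SpecialLinearGroup.toGL.comp (Cfsg.Sz F m).subtype

omit [Fintype F] h in
theorem toMinorHom_coe (g : Cfsg.Sz F m) :
    ((toMinorHom g : GL (Fin 4) F) : Matrix (Fin 4) (Fin 4) F) = (g : Matrix.SpecialLinearGroup (Fin 4) F).1 := rfl

omit [Fintype F] h in
theorem toMinorHom_injective : Function.Injective (toMinorHom (F := F) (m := m)) := fun a b e => by
  apply Subtype.ext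
  apply Subtype.ext
  have := congrArg (fun z : GL (Fin 4) F => (z : Matrix (Fin 4) (Fin 4) F)) e
  simpa only [toMinorHom_coe] using this

theorem range_toMinorHom : (toMinorHom (F := F) (m := m)).range = Cfsg.Lie.Sz F (2 ^ (m + 1)) := by
  apply le_antisymm
  · rintro _ ⟨g, rfl⟩
    have hgen : ∀ x : Cfsg.Sz F m, MinorGen m (x : Matrix.SpecialLinearGroup (Fin 4) F).1 →
        toMinorHom x ∈ Cfsg.Lie.Sz F (2 ^ (m + 1)) := fun x hx =>
      Subgroup.subset_closure ⟨fun u v => hx.1 u v, hx.2⟩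
    have hT : ∀ a b, toMinorHom (T h a b) ∈ Cfsg.Lie.Sz F (2 ^ (m + 1)) := fun a b =>
      hgen _ (minorGen_tEl h a b)
    have hH : ∀ k, toMinorHom (H h k) ∈ Cfsg.Lie.Sz F (2 ^ (m + 1)) := fun k => hgen _ (minorGen_hEl h k)
    by_cases hg : g ∈ borel F m
    · obtain ⟨a, b, k, rfl⟩ := borel_form h hg
      rw [map_mul]
      exact Subgroup.mul_mem _ (hT a b) (hH k)
    · obtain ⟨x, y, a, b, k, rfl⟩ := bruhat h hg
      simp only [map_mul]
      exact Subgroup.mul_mem _ (Subgroup.mul_mem _ (hT x y) (hgen (W h) (minorGen_wEl h)))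
        (Subgroup.mul_mem _ (hT a b) (hH k))
  · rw [Cfsg.Lie.Sz, Subgroup.closure_le]
    rintro g ⟨hsp, hstar⟩
    have hG : MinorGen m (g : Matrix (Fin 4) (Fin 4) F) := ⟨fun u v => hsp u v, hstar⟩
    let s : Matrix.SpecialLinearGroup (Fin 4) F := ⟨(g : Matrix (Fin 4) (Fin 4) F), hG.det_eq_one h⟩
    exact ⟨⟨s, minorGen_mem_Sz h s hG⟩, Units.ext rfl⟩

/-- The two models of the Suzuki group are isomorphic. -/
noncomputable def minorEquiv : Cfsg.Sz F m ≃* Cfsg.Lie.Sz F (2 ^ (m + 1)) :=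
  (MonoidHom.ofInjective toMinorHom_injective).trans (MulEquiv.subgroupCongr (range_toMinorHom h))

theorem minorEquiv_coe (g : Cfsg.Sz F m) :
    ((minorEquiv h g : GL (Fin 4) F) : Matrix (Fin 4) (Fin 4) F) = (g : Matrix.SpecialLinearGroup (Fin 4) F).1 := rfl

end Cfsg.Agent.Suzuki
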