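import Cfsg.Prelude.Def_LieExceptional
import Mathlib.RingTheory.LittleWedderburn
import Mathlib.RingTheory.IntegralDomain
import Mathlib.FieldTheory.Minpoly.Finite
import Mathlib.GroupTheory.Perm.Cycle.Type
import Mathlib.Tactic

/-! Commutant of a matrix of prime order without small invariant subspaces. -/

namespace Cfsg.Agent.Suzuki.Commutant

open Matrix

variable {F : Type*} [Field F] [Fintype F] {p : ℕ} [Fact p.Prime] {n : Type*} [Fintype n] [DecidableEq n]
  {X : Matrix n n F}

/-- An invariant subspace has size congruent to that of its fixed space modulo `p`. -/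
theorem card_modEq (hX : X ^ p = 1) (U : Submodule F (n → F)) (hU : ∀ v ∈ U, X *ᵥ v ∈ U) :
    Nat.card U ≡ Nat.card {v : U // X *ᵥ (v : n → F) = (v : n → F)} [MOD p] := by
  classical
  have hpos : 0 < p := (Fact.out : p.Prime).pos
  let f : U → U := fun v => ⟨X *ᵥ (v : n → F), hU _ v.2⟩
  have hiter : ∀ j, ∀ v : U, ((f^[j]) v : n → F) = (X ^ j) *ᵥ (v : n → F) := by
    intro j
    induction j with
    | zero => intro v; simp
    | succ j ih =>
      intro v
      rw [Function.iterate_succ_apply', pow_succ', ← Matrix.mulVec_mulVec, ← ih]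
  have hper : ∀ v, (f^[p]) v = v := fun v => Subtype.ext (by rw [hiter, hX, Matrix.one_mulVec])
  have hbij : Function.Bijective f := by
    obtain ⟨k, rfl⟩ : ∃ k, p = k + 1 := ⟨p - 1, by omega⟩
    refine ⟨fun a b e => ?_, fun b => ⟨(f^[k]) b, ?_⟩⟩
    · rw [← hper a, ← hper b, Function.iterate_succ_apply, Function.iterate_succ_apply, e]
    · rw [← Function.iterate_succ_apply' f, hper]
  let σ : Equiv.Perm U := Equiv.ofBijective f hbij
  have hσ : σ ^ p ^ 1 = 1 := by
    rw [pow_one]
    refine Equiv.ext fun v => ?_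
    rw [Equiv.Perm.coe_pow]
    exact hper v
  have : Fintype U := Fintype.ofFinite U
  have h := Equiv.Perm.card_compl_support_modEq hσ
  have e : Nat.card {v : U // X *ᵥ (v : n → F) = (v : n → F)} = σ.supportᶜ.card := by
    rw [Nat.card_eq_fintype_card, Fintype.card_subtype]
    refine congrArg Finset.card (Finset.ext fun v => ?_)
    simp [σ, f, Subtype.ext_iff]
  rw [Nat.card_eq_fintype_card, e]
  exact h.symm

/-- A matrix of order `p` fixes no non-zero vector and is irreducible, when `p` divides no `q^d - 1`, `0 < d < #n`. -/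
theorem irreducible (hX : X ^ p = 1) (hX1 : X ≠ 1) (hq : ¬ p ∣ Fintype.card F)
    (hd : ∀ d, 0 < d → d < Fintype.card n → ¬ Fintype.card F ^ d ≡ 1 [MOD p])
    (U : Submodule F (n → F)) (hU : ∀ v ∈ U, X *ᵥ v ∈ U) : U = ⊥ ∨ U = ⊤ := by
  classical
  have hqp : Nat.Coprime p (Fintype.card F) := (Nat.Prime.coprime_iff_not_dvd Fact.out).mpr hq
  -- no non-zero fixed vector
  let W : Submodule F (n → F) := LinearMap.ker (Matrix.mulVecLin X - LinearMap.id)
  have hW : ∀ v, v ∈ W ↔ X *ᵥ v = v := fun v => by
    simp [W, LinearMap.mem_ker, sub_eq_zero]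
  have hfix : W = ⊥ := by
    by_contra hne
    have h1 := card_modEq hX ⊤ (fun v _ => Submodule.mem_top)
    have e1 : Nat.card (⊤ : Submodule F (n → F)) = Fintype.card F ^ Fintype.card n := by
      rw [Module.natCard_eq_pow_finrank (K := F), Nat.card_eq_fintype_card, finrank_top,
        Module.finrank_fintype_fun_eq_card]
    have e2 : Nat.card {v : (⊤ : Submodule F (n → F)) // X *ᵥ (v : n → F) = (v : n → F)} =
        Fintype.card F ^ Module.finrank F W := by
      rw [← Nat.card_eq_fintype_card (α := F), ← Module.natCard_eq_pow_finrank]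
      exact Nat.card_congr
        { toFun := fun v => ⟨v.1.1, (hW _).mpr v.2⟩
          invFun := fun w => ⟨⟨w.1, Submodule.mem_top⟩, (hW _).mp w.2⟩
          left_inv := fun v => rfl
          right_inv := fun w => rfl }
    rw [e1, e2] at h1
    have hWpos : 0 < Module.finrank F W :=
      Nat.pos_of_ne_zero fun e => hne (Submodule.finrank_eq_zero.mp e)
    have hWlt : Module.finrank F W < Fintype.card n := by
      rw [← Module.finrank_fintype_fun_eq_card F]
      refine Submodule.finrank_lt fun e => hX1 ?_
      refine Matrix.ext_of_mulVec_single fun i => ?_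
      rw [(hW _).mp (e ▸ Submodule.mem_top), Matrix.one_mulVec]
    refine hd (Fintype.card n - Module.finrank F W) (by omega) (by omega) ?_
    refine Nat.ModEq.cancel_left_of_coprime (c := Fintype.card F ^ Module.finrank F W)
      (Nat.Coprime.pow_right _ hqp) ?_
    rw [mul_one, ← pow_add, show Module.finrank F W + (Fintype.card n - Module.finrank F W) = Fintype.card n by omega]
    exact h1
  by_contra hne
  push Not at hne
  have h1 := card_modEq hX U hU
  have e1 : Nat.card U = Fintype.card F ^ Module.finrank F U := by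
    rw [Module.natCard_eq_pow_finrank (K := F), Nat.card_eq_fintype_card]
  have e2 : Nat.card {v : U // X *ᵥ (v : n → F) = (v : n → F)} = 1 := by
    rw [Nat.card_eq_one_iff_exists]
    refine ⟨⟨0, by simp⟩, fun v => ?_⟩
    have : (v.1 : n → F) ∈ W := (hW _).mpr v.2
    rw [hfix, Submodule.mem_bot] at this
    exact Subtype.ext (Subtype.ext this)
  rw [e1, e2] at h1
  refine hd _ (Nat.pos_of_ne_zero fun e => hne.1 (Submodule.finrank_eq_zero.mp e)) ?_ h1
  rw [← Module.finrank_fintype_fun_eq_card F]
  exact Submodule.finrank_lt hne.2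

variable (hirr : ∀ U : Submodule F (n → F), (∀ v ∈ U, X *ᵥ v ∈ U) → U = ⊥ ∨ U = ⊤)

include hirr

omit [Fintype F] in
theorem eq_zero_of_mulVec_eq_zero {A : Matrix n n F} (hA : A * X = X * A) {v : n → F}
    (hv : v ≠ 0) (e : A *ᵥ v = 0) : A = 0 := by
  rcases hirr (LinearMap.ker (Matrix.mulVecLin A)) (fun w hw => by
    rw [LinearMap.mem_ker, Matrix.mulVecLin_apply] at hw ⊢
    rw [Matrix.mulVec_mulVec, hA, ← Matrix.mulVec_mulVec, hw, Matrix.mulVec_zero]) with hb | ht
  · exact absurd ((Submodule.mem_bot F).mp (hb ▸ (LinearMap.mem_ker.mpr e))) hv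
  · refine Matrix.ext_of_mulVec_single fun i => ?_
    rw [Matrix.zero_mulVec]
    have : Pi.single i (1 : F) ∈ LinearMap.ker (Matrix.mulVecLin A) := ht ▸ Submodule.mem_top
    simpa using this

omit [Fintype F] in
theorem no_zero_divisors [Nonempty n] {A B : Matrix n n F} (hA : A * X = X * A) (e : A * B = 0) :
    A = 0 ∨ B = 0 := by
  by_cases hB : B = 0
  · exact Or.inr hB
  left
  obtain ⟨i, hi⟩ : ∃ i, B *ᵥ Pi.single i 1 ≠ 0 := by
    by_contra hall
    push Not at hall
    exact hB (Matrix.ext_of_mulVec_single fun i => by rw [hall, Matrix.zero_mulVec])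
  exact eq_zero_of_mulVec_eq_zero hirr hA hi (by rw [Matrix.mulVec_mulVec, e, Matrix.zero_mulVec])

omit hirr in
omit [Fintype F] in
theorem mem_commutant {A : Matrix n n F} :
    A ∈ Subalgebra.centralizer F ({X} : Set (Matrix n n F)) ↔ X * A = A * X := by
  simp [Subalgebra.mem_centralizer_iff]

theorem isDomain [Nonempty n] : IsDomain (Subalgebra.centralizer F ({X} : Set (Matrix n n F))) := by
  have : NoZeroDivisors (Subalgebra.centralizer F ({X} : Set (Matrix n n F))) := ⟨fun {a b} e => by
    rcases no_zero_divisors hirr (mem_commutant.mp a.2).symm (congrArg Subtype.val e) with h | h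
    · exact Or.inl (Subtype.ext h)
    · exact Or.inr (Subtype.ext h)⟩
  exact NoZeroDivisors.to_isDomain _

theorem commute [Nonempty n] {A B : Matrix n n F} (hA : X * A = A * X) (hB : X * B = B * X) :
    A * B = B * A := by
  have := isDomain hirr
  have := (Finite.isDomain_to_isField (Subalgebra.centralizer F ({X} : Set (Matrix n n F)))).mul_comm
    ⟨A, mem_commutant.mpr hA⟩ ⟨B, mem_commutant.mpr hB⟩
  exact congrArg Subtype.val this

/-- A finite group of matrices commuting with an irreducible `X` is cyclic. -/
theorem isCyclic [Nonempty n] {C : Type*} [Group C] [Finite C] (f : C →* Matrix n n F)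
    (hf : Function.Injective f) (hc : ∀ c, X * f c = f c * X) : IsCyclic C := by
  have := isDomain hirr
  let R := Subalgebra.centralizer F ({X} : Set (Matrix n n F))
  let : CommRing R :=
    { (inferInstance : Ring R) with
      mul_comm := (Finite.isDomain_to_isField R).mul_comm }
  let g : C →* R :=
    { toFun := fun c => ⟨f c, mem_commutant.mpr (hc c)⟩
      map_one' := Subtype.ext f.map_one
      map_mul' := fun a b => Subtype.ext (f.map_mul a b) }
  exact isCyclic_of_injective_ringHom g fun a b e => hf (congrArg Subtype.val e)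

/-- Conjugates of `X` commuting with it: at most `#n` of them. -/
theorem card_conjugates_le [Nonempty n] {ι : Type*} [Finite ι] (Y : ι → Matrix n n F)
    (hY : Function.Injective Y) (hc : ∀ i, X * Y i = Y i * X)
    (φ : ι → (Matrix n n F →ₐ[F] Matrix n n F)) (hφ : ∀ i, φ i X = Y i) :
    Nat.card ι ≤ Fintype.card n := by
  classical
  have := isDomain hirr
  let R := Subalgebra.centralizer F ({X} : Set (Matrix n n F))
  let : CommRing R :=
    { (inferInstance : Ring R) with
      mul_comm := (Finite.isDomain_to_isField R).mul_comm }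
  let x : R := ⟨X, mem_commutant.mpr rfl⟩
  have hrank : Module.finrank F R ≤ Fintype.card n := by
    rw [← Module.finrank_fintype_fun_eq_card F]
    obtain ⟨i⟩ := ‹Nonempty n›
    let ev : R →ₗ[F] (n → F) :=
      { toFun := fun A => (A : Matrix n n F) *ᵥ Pi.single i 1
        map_add' := fun A B => Matrix.add_mulVec _ _ _
        map_smul' := fun c A => Matrix.smul_mulVec _ _ _ }
    refine LinearMap.finrank_le_finrank_of_injective (f := ev) ?_
    rw [← LinearMap.ker_eq_bot, Submodule.eq_bot_iff]
    intro A hA
    exact Subtype.ext (eq_zero_of_mulVec_eq_zero hirr (mem_commutant.mp A.2).symm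
      (by simp) (LinearMap.mem_ker.mp hA))
  let μ := (minpoly F x).map (algebraMap F R)
  have hint : IsIntegral F x := IsIntegral.of_finite F x
  have hμ : μ ≠ 0 := (Polynomial.map_monic_ne_zero (minpoly.monic hint))
  have hroot : ∀ i, (⟨Y i, mem_commutant.mpr (hc i)⟩ : R) ∈ μ.roots.toFinset := by
    intro i
    rw [Multiset.mem_toFinset, Polynomial.mem_roots hμ, Polynomial.IsRoot.def, Polynomial.eval_map,
      ← Polynomial.aeval_def]
    apply Subtype.ext
    show R.val (Polynomial.aeval _ (minpoly F x)) = 0
    rw [← Polynomial.aeval_algHom_apply]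
    show Polynomial.aeval (Y i) (minpoly F x) = 0
    rw [← hφ i, Polynomial.aeval_algHom_apply, show X = R.val x from rfl, Polynomial.aeval_algHom_apply,
      minpoly.aeval, map_zero, map_zero]
  let g : ι → μ.roots.toFinset := fun i => ⟨_, hroot i⟩
  calc Nat.card ι ≤ Nat.card μ.roots.toFinset :=
        Nat.card_le_card_of_injective g fun a b e =>
          hY (congrArg (fun z : μ.roots.toFinset => ((z : R) : Matrix n n F)) e)
    _ = μ.roots.toFinset.card := Nat.card_eq_finsetCard _
    _ ≤ Multiset.card μ.roots := Multiset.toFinset_card_le _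
    _ ≤ μ.natDegree := Polynomial.card_roots' _
    _ ≤ (minpoly F x).natDegree := Polynomial.natDegree_map_le
    _ ≤ Fintype.card n := (minpoly.natDegree_le x).trans hrank

end Cfsg.Agent.Suzuki.Commutant
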