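import Mathlib.GroupTheory.Subgroup.Centralizer
import Mathlib.GroupTheory.Index
import Mathlib.Tactic

/-! Subgroups equal to the centralizer of each of their non-identity elements. -/

namespace Cfsg.Agent.Suzuki.TI

variable {G : Type*} [Group G] {C : Subgroup G} (hC : ∀ c ∈ C, c ≠ 1 → Subgroup.centralizer {c} = C)

include hC

theorem mem_normalizer_of_conj {n c : G} (hc : c ∈ C) (hc1 : c ≠ 1) (hn : n * c * n⁻¹ ∈ C) :
    n ∈ Subgroup.normalizer (C : Set G) := by
  have e1 := hC c hc hc1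
  have e2 := hC _ hn (fun e => hc1 (conj_eq_one_iff.mp e))
  rw [Subgroup.mem_normalizer_iff]
  intro y
  nth_rw 1 [← e1]
  nth_rw 1 [← e2]
  rw [Subgroup.mem_centralizer_singleton_iff, Subgroup.mem_centralizer_singleton_iff]
  constructor
  · intro e
    calc n * y * n⁻¹ * (n * c * n⁻¹) = n * (y * c) * n⁻¹ := by group
      _ = n * (c * y) * n⁻¹ := by rw [e]
      _ = n * c * n⁻¹ * (n * y * n⁻¹) := by group
  · intro e
    calc y * c = n⁻¹ * (n * y * n⁻¹ * (n * c * n⁻¹)) * n := by group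
      _ = n⁻¹ * (n * c * n⁻¹ * (n * y * n⁻¹)) * n := by rw [e]
      _ = c * y := by group

/-- The non-identity elements conjugate into `C`. -/
theorem card_conjugates [Finite G] :
    Nat.card {g : G // g ≠ 1 ∧ ∃ u, u⁻¹ * g * u ∈ C} * Nat.card (Subgroup.normalizer (C : Set G)) =
      Nat.card G * (Nat.card C - 1) := by
  classical
  have : Fintype C := Fintype.ofFinite C
  have hC' : Nat.card {c : C // c ≠ 1} = Nat.card C - 1 := by
    rw [Nat.card_eq_fintype_card, Nat.card_eq_fintype_card, Fintype.card_subtype_compl,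
      Fintype.card_subtype_eq]
  rw [← hC', ← Nat.card_prod, ← Nat.card_prod]
  let u : {g : G // g ≠ 1 ∧ ∃ u, u⁻¹ * g * u ∈ C} → G := fun g => g.2.2.choose
  have hu : ∀ g, (u g)⁻¹ * g.1 * u g ∈ C := fun g => g.2.2.choose_spec
  refine Nat.card_eq_of_bijective (fun (p : {g : G // g ≠ 1 ∧ ∃ u, u⁻¹ * g * u ∈ C} ×
      Subgroup.normalizer (C : Set G)) =>
    ((u p.1 * p.2.1, ⟨⟨(u p.1 * p.2.1)⁻¹ * p.1.1 * (u p.1 * p.2.1), ?_⟩, ?_⟩) : G × {c : C // c ≠ 1})) ⟨?_, ?_⟩
  · have h1 := (Subgroup.mem_normalizer_iff.mp (Subgroup.inv_mem _ p.2.2) _).mp (hu p.1)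
    convert! h1 using 1
    group
  · intro e
    have e' : (u p.1 * p.2.1)⁻¹ * p.1.1 * (u p.1 * p.2.1) = 1 := congrArg Subtype.val e
    apply p.1.2.1
    calc p.1.1 = (u p.1 * p.2.1) * ((u p.1 * p.2.1)⁻¹ * p.1.1 * (u p.1 * p.2.1)) * (u p.1 * p.2.1)⁻¹ := by group
      _ = 1 := by rw [e']; group
  · rintro ⟨g, n⟩ ⟨g', n'⟩ e
    simp only [Prod.mk.injEq, Subtype.mk.injEq] at e
    obtain ⟨e1, e2⟩ := e
    rw [e1] at e2
    have hg : g = g' := Subtype.ext (mul_left_cancel (mul_right_cancel e2))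
    subst hg
    exact congrArg (Prod.mk g) (Subtype.ext (mul_left_cancel e1))
  · rintro ⟨v, ⟨⟨c, hc⟩, hc1⟩⟩
    have hc1' : c ≠ 1 := fun e => hc1 (Subtype.ext e)
    let g : {g : G // g ≠ 1 ∧ ∃ u, u⁻¹ * g * u ∈ C} :=
      ⟨v * c * v⁻¹, fun e => hc1' (conj_eq_one_iff.mp e), v, by simpa [mul_assoc] using hc⟩
    have hn : (u g)⁻¹ * v ∈ Subgroup.normalizer (C : Set G) := by
      refine mem_normalizer_of_conj hC hc hc1' ?_
      have := hu g
      convert! this using 1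
      simp only [g]
      group
    refine ⟨(g, ⟨_, hn⟩), ?_⟩
    simp only [Prod.mk.injEq, Subtype.mk.injEq]
    constructor
    · group
    · simp only [g]; group

end Cfsg.Agent.Suzuki.TI
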