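import Cfsg.Agent.Lib.Suzuki.Structure
import Cfsg.Agent.Lib.Suzuki.Commutant
import Cfsg.Agent.Lib.Suzuki.TI
import Mathlib.GroupTheory.Perm.Cycle.Type

/-! The cyclic tori of the Suzuki group and the partition it gives. -/

namespace Cfsg.Agent.Suzuki

open scoped Pointwise

set_option linter.unusedSectionVars false
set_option linter.unusedVariables false

variable {F : Type*} [Field F] [Fintype F] {m : ℕ} (h : SzField F m)

include h

theorem card_eq_q : Fintype.card F = 2 ^ (2 * m + 1) := h.card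

theorem prime_dvd_card_cases {p : ℕ} (hp : p.Prime) (hd : p ∣ Nat.card (Cfsg.Sz F m)) :
    p = 2 ∨ p ∣ 2 ^ (2 * m + 1) - 1 ∨ p ∣ (2 ^ (2 * m + 1)) ^ 2 + 1 := by
  rw [card_Sz h] at hd
  rcases hp.dvd_mul.mp hd with hd | hd
  · rcases hp.dvd_mul.mp hd with hd | hd
    · exact Or.inl ((Nat.prime_dvd_prime_iff_eq hp Nat.prime_two).mp (hp.dvd_of_dvd_pow (hp.dvd_of_dvd_pow hd)))
    · exact Or.inr (Or.inr hd)
  · exact Or.inr (Or.inl hd)

omit h in
theorem q_even : 2 ∣ 2 ^ (2 * m + 1) := dvd_pow_self 2 (by omega)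

omit h in
/-- Arithmetic of a prime dividing `q² + 1`. -/
theorem prime_q_sq_facts {p : ℕ} (hp : p.Prime) (hd : p ∣ (2 ^ (2 * m + 1)) ^ 2 + 1) :
    p ≠ 2 ∧ p ≠ 3 ∧ ¬ p ∣ 2 ^ (2 * m + 1) ∧
      ∀ d, 0 < d → d < 4 → ¬ (2 ^ (2 * m + 1)) ^ d ≡ 1 [MOD p] := by
  have : Fact p.Prime := ⟨hp⟩
  set q := 2 ^ (2 * m + 1) with hq
  have hQ : (q : ZMod p) ^ 2 + 1 = 0 := by
    have := (ZMod.natCast_eq_zero_iff (q ^ 2 + 1) p).mpr hd
    exact_mod_cast this
  have hp2 : p ≠ 2 := by
    rintro rfl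
    have h1 : 2 ∣ q ^ 2 := dvd_pow q_even two_ne_zero
    have := (Nat.dvd_add_right h1).mp hd
    omega
  have hp3 : p ≠ 3 := by
    rintro rfl
    have h1 : q % 3 = 2 := by
      rw [hq, pow_succ, pow_mul, Nat.mul_mod, Nat.pow_mod]
      norm_num
    have h2 : (q ^ 2 + 1) % 3 = 2 := by
      rw [Nat.add_mod, Nat.pow_mod, h1]
    omega
  have h2ne : (2 : ZMod p) ≠ 0 := by
    intro e
    have : p ∣ 2 := (ZMod.natCast_eq_zero_iff 2 p).mp (by exact_mod_cast e)
    exact hp2 ((Nat.prime_dvd_prime_iff_eq hp Nat.prime_two).mp this)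
  refine ⟨hp2, hp3, ?_, ?_⟩
  · intro hdq
    rw [(ZMod.natCast_eq_zero_iff q p).mpr hdq] at hQ
    simp at hQ
  · intro d hd0 hd4 he
    have he' : (q : ZMod p) ^ d = 1 := by
      have := (ZMod.natCast_eq_natCast_iff _ _ _).mpr he
      exact_mod_cast this
    obtain rfl | rfl | rfl : d = 1 ∨ d = 2 ∨ d = 3 := by omega
    · rw [pow_one] at he'
      rw [he'] at hQ
      exact h2ne (by linear_combination hQ)
    · rw [he'] at hQ
      exact h2ne (by linear_combination hQ)
    · have h1 : (q : ZMod p) = -1 := by linear_combination (q : ZMod p) * hQ - he'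
      rw [h1] at hQ
      exact h2ne (by linear_combination hQ)

/-! ### Where elements live -/

theorem mem_rootGroup_of_commute_involution {x z : Cfsg.Sz F m} (hz : orderOf z = 2) (hc : x * z = z * x) :
    ∃ u, u * x * u⁻¹ ∈ rootGroup h := by
  obtain ⟨u, hu⟩ := exists_conj_mem_rootGroup h (x := z) (n := 1) (by rw [pow_one, ← hz, pow_orderOf_eq_one])
  refine ⟨u, centralizer_le h hu (fun e => ?_) ?_⟩
  · rw [conj_eq_one_iff.mp e, orderOf_one] at hz
    omega
  · rw [Subgroup.mem_centralizer_singleton_iff]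
    calc u * x * u⁻¹ * (u * z * u⁻¹) = u * (x * z) * u⁻¹ := by group
      _ = u * (z * x) * u⁻¹ := by rw [hc]
      _ = u * z * u⁻¹ * (u * x * u⁻¹) := by group

/-- For `p` dividing `q - 1` the torus contains a Sylow `p`-subgroup. -/
theorem exists_torus_sylow {p : ℕ} [hp : Fact p.Prime] (hd : p ∣ 2 ^ (2 * m + 1) - 1) :
    ¬ p ∣ (torus h).index := by
  have hc := (torus h).card_mul_index
  rw [card_torus, card_Sz h, mul_comm _ (2 ^ (2 * m + 1) - 1)] at hc
  have h8 : 2 ≤ 2 ^ (2 * m + 1) := Nat.le_self_pow (by omega) 2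
  rw [Nat.eq_of_mul_eq_mul_left (by omega) hc]
  intro hdvd
  have hp2 : p ≠ 2 := by
    rintro rfl
    have := q_even (m := m)
    omega
  rcases hp.out.dvd_mul.mp hdvd with e | e
  · exact hp2 ((Nat.prime_dvd_prime_iff_eq hp.out Nat.prime_two).mp
      (hp.out.dvd_of_dvd_pow (hp.out.dvd_of_dvd_pow e)))
  · have h1 := prime_q_sq_facts hp.out e
    refine h1.2.2.2 1 one_pos (by norm_num) ?_
    rw [pow_one]
    exact ((Nat.modEq_iff_dvd' (by omega)).mpr hd).symm

theorem exists_conj_mem_torus {p : ℕ} [hp : Fact p.Prime] (hd : p ∣ 2 ^ (2 * m + 1) - 1)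
    {z : Cfsg.Sz F m} (hz : orderOf z = p) : ∃ u, u * z * u⁻¹ ∈ torus h := by
  classical
  have hQ : IsPGroup p (Subgroup.zpowers z) := IsPGroup.of_card (n := 1) (by rw [Nat.card_zpowers, hz, pow_one])
  obtain ⟨P, hP⟩ := hQ.exists_le_sylow
  let S : Sylow p (torus h) := default
  have hS : IsPGroup p ((S : Subgroup (torus h)).map (torus h).subtype) := S.isPGroup'.map _
  have hidx : ¬ p ∣ ((S : Subgroup (torus h)).map (torus h).subtype).index := by
    rw [Subgroup.index_map_subtype]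
    intro e
    rcases hp.out.dvd_mul.mp e with e | e
    · exact S.not_dvd_index e
    · exact exists_torus_sylow h hd e
  obtain ⟨u, hu⟩ := MulAction.exists_smul_eq (Cfsg.Sz F m) P (hS.toSylow hidx)
  refine ⟨u, ?_⟩
  have h1 : u * z * u⁻¹ ∈ (u • P : Sylow p (Cfsg.Sz F m)) :=
    Subgroup.mem_map_of_mem (MulAut.conj u).toMonoidHom (hP (Subgroup.mem_zpowers z))
  rw [hu] at h1
  exact Subgroup.map_subtype_le _ h1

theorem mem_torus_of_commute {p : ℕ} [hp : Fact p.Prime] (hd : p ∣ 2 ^ (2 * m + 1) - 1)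
    {x z : Cfsg.Sz F m} (hz : orderOf z = p) (hc : x * z = z * x) : ∃ u, u * x * u⁻¹ ∈ torus h := by
  obtain ⟨u, hu⟩ := exists_conj_mem_torus h hd hz
  obtain ⟨k, hk⟩ := (mem_torus h).mp hu
  have hk1 : k ≠ 1 := by
    rintro rfl
    rw [H_one] at hk
    rw [conj_eq_one_iff.mp hk, orderOf_one] at hz
    exact hp.out.one_lt.ne hz
  refine ⟨u, ?_⟩
  rw [← centralizer_H h hk1, Subgroup.mem_centralizer_singleton_iff, ← hk]
  calc u * x * u⁻¹ * (u * z * u⁻¹) = u * (x * z) * u⁻¹ := by group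
    _ = u * (z * x) * u⁻¹ := by rw [hc]
    _ = u * z * u⁻¹ * (u * x * u⁻¹) := by group

theorem orderOf_dvd_torus {x : Cfsg.Sz F m} (hx : x ∈ torus h) : orderOf x ∣ 2 ^ (2 * m + 1) - 1 := by
  rw [← card_torus h, ← Subgroup.orderOf_mk x hx]
  exact orderOf_dvd_natCard _

theorem orderOf_dvd_root {x : Cfsg.Sz F m} (hx : x ∈ rootGroup h) : orderOf x ∣ (2 ^ (2 * m + 1)) ^ 2 := by
  rw [← card_rootGroup h, ← Subgroup.orderOf_mk x hx]
  exact orderOf_dvd_natCard _

omit h in
theorem orderOf_conj_eq {G : Type*} [Group G] (u x : G) : orderOf (u * x * u⁻¹) = orderOf x :=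
  orderOf_injective (MulAut.conj u).toMonoidHom (MulAut.conj u).injective x

omit h in
theorem coprime_three : Nat.Coprime ((2 ^ (2 * m + 1)) ^ 2) (2 ^ (2 * m + 1) - 1) ∧
    Nat.Coprime ((2 ^ (2 * m + 1)) ^ 2) ((2 ^ (2 * m + 1)) ^ 2 + 1) ∧
    Nat.Coprime (2 ^ (2 * m + 1) - 1) ((2 ^ (2 * m + 1)) ^ 2 + 1) := by
  have h1 : 1 ≤ 2 ^ (2 * m + 1) := Nat.one_le_two_pow
  refine ⟨?_, by simp, Nat.coprime_of_dvd fun k hk ha hb => ?_⟩
  · apply Nat.Coprime.pow_left
    exact Nat.coprime_of_dvd fun k hk ha hb => hk.one_lt.ne' (Nat.dvd_one.mp (by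
      have := Nat.dvd_sub ha hb
      rwa [show 2 ^ (2 * m + 1) - (2 ^ (2 * m + 1) - 1) = 1 by omega] at this))
  · refine (prime_q_sq_facts hk hb).2.2.2 1 one_pos (by norm_num) ?_
    rw [pow_one]
    exact ((Nat.modEq_iff_dvd' h1).mpr ha).symm

/-! ### Centralisers of elements of prime order dividing `q² + 1` -/

section irred

variable {p : ℕ} [hp : Fact p.Prime] (hd : p ∣ (2 ^ (2 * m + 1)) ^ 2 + 1) {x : Cfsg.Sz F m} (hx : orderOf x = p)

include hd hx

theorem irreducible_of_order :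
    ∀ U : Submodule F (Fin 4 → F),
      (∀ v ∈ U, Matrix.mulVec (x : Matrix.SpecialLinearGroup (Fin 4) F).1 v ∈ U) → U = ⊥ ∨ U = ⊤ := by
  obtain ⟨-, -, hq, hdd⟩ := prime_q_sq_facts hp.out hd
  refine Commutant.irreducible (p := p) ?_ ?_ (by rwa [h.card]) (fun d h0 h4 => by
    rw [h.card]; exact hdd d h0 (by simpa using h4))
  · rw [← Matrix.SpecialLinearGroup.coe_pow, ← SubmonoidClass.coe_pow, ← hx, pow_orderOf_eq_one]
    simp
  · intro e
    have : x = 1 := Subtype.ext (Subtype.ext e)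
    rw [this, orderOf_one] at hx
    exact hp.out.one_lt.ne hx

theorem coe_commute {g : Cfsg.Sz F m} (hg : g ∈ Subgroup.centralizer {x}) :
    (x : Matrix.SpecialLinearGroup (Fin 4) F).1 * (g : Matrix.SpecialLinearGroup (Fin 4) F).1 =
      (g : Matrix.SpecialLinearGroup (Fin 4) F).1 * (x : Matrix.SpecialLinearGroup (Fin 4) F).1 := by
  rw [Subgroup.mem_centralizer_singleton_iff] at hg
  exact (congrArg (fun z : Cfsg.Sz F m => (z : Matrix.SpecialLinearGroup (Fin 4) F).1) hg).symm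

/-- The map of the centraliser to matrices. -/
theorem isCyclic_centralizer : IsCyclic (Subgroup.centralizer {x}) := by
  let f : Subgroup.centralizer {x} →* Matrix (Fin 4) (Fin 4) F :=
    { toFun := fun g => ((g : Cfsg.Sz F m) : Matrix.SpecialLinearGroup (Fin 4) F).1
      map_one' := rfl
      map_mul' := fun a b => rfl }
  exact Commutant.isCyclic (irreducible_of_order h hd hx) f
    (fun a b e => Subtype.ext (Subtype.ext (Subtype.ext e))) (fun g => coe_commute h hd hx g.2)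

theorem orderOf_not_dvd_borel {g : Cfsg.Sz F m} (hg : g ∈ borel F m) : ¬ p ∣ orderOf g := fun e => by
  have h1 : orderOf g ∣ Nat.card (borel F m) := by
    rw [← Subgroup.orderOf_mk g hg]; exact orderOf_dvd_natCard _
  rw [card_borel h] at h1
  have h2 := Nat.dvd_gcd (e.trans h1) hd
  rw [Nat.Coprime.gcd_eq_one (Nat.Coprime.mul_left coprime_three.2.1 coprime_three.2.2)] at h2
  exact hp.out.one_lt.ne' (Nat.dvd_one.mp h2)

theorem card_centralizer_dvd : Nat.card (Subgroup.centralizer {x}) ∣ (2 ^ (2 * m + 1)) ^ 2 + 1 := by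
  have hdvd := (Subgroup.centralizer {x}).card_subgroup_dvd_card
  rw [card_Sz h, mul_comm _ ((2 ^ (2 * m + 1)) ^ 2 + 1), mul_assoc] at hdvd
  refine Nat.Coprime.dvd_of_dvd_mul_right ?_ hdvd
  refine Nat.coprime_of_dvd fun r hr hrc hrq => ?_
  have : Fact r.Prime := ⟨hr⟩
  obtain ⟨z, hz⟩ := exists_prime_orderOf_dvd_card' r hrc
  rw [← Subgroup.orderOf_coe] at hz
  have hcomm : x * z.1 = z.1 * x := (Subgroup.mem_centralizer_singleton_iff.mp z.2).symm
  rcases hr.dvd_mul.mp hrq with e | e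
  · have hr2 : r = 2 := (Nat.prime_dvd_prime_iff_eq hr Nat.prime_two).mp
      (hr.dvd_of_dvd_pow (hr.dvd_of_dvd_pow e))
    subst hr2
    obtain ⟨u, hu⟩ := mem_rootGroup_of_commute_involution h hz hcomm
    exact orderOf_not_dvd_borel h hd hx (rootGroup_le_borel h hu) (by rw [orderOf_conj_eq, hx])
  · obtain ⟨u, hu⟩ := mem_torus_of_commute h e hz hcomm
    obtain ⟨k, hk⟩ := (mem_torus h).mp hu
    exact orderOf_not_dvd_borel h hd hx (g := u * x * u⁻¹) (hk ▸ H_mem_borel h k) (by rw [orderOf_conj_eq, hx])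

end irred

/-- A cyclic torus in the non-split part. -/
def IsMember (C : Subgroup (Cfsg.Sz F m)) : Prop :=
  ∃ p x, p.Prime ∧ p ∣ (2 ^ (2 * m + 1)) ^ 2 + 1 ∧ orderOf x = p ∧ C = Subgroup.centralizer {x}

omit h in
theorem exists_prime_pow {G : Type*} [Group G] [Finite G] {g : G} {p : ℕ} (hp : p.Prime)
    (hd : p ∣ orderOf g) : ∃ k, orderOf (g ^ k) = p :=
  ⟨orderOf g / p, orderOf_pow_orderOf_div (orderOf_pos g).ne' hd⟩

theorem member_isCyclic {C : Subgroup (Cfsg.Sz F m)} (hC : IsMember C) : IsCyclic C := by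
  obtain ⟨p, x, hp, hd, hx, rfl⟩ := hC
  have : Fact p.Prime := ⟨hp⟩
  exact isCyclic_centralizer h hd hx

theorem member_card_dvd {C : Subgroup (Cfsg.Sz F m)} (hC : IsMember C) :
    Nat.card C ∣ (2 ^ (2 * m + 1)) ^ 2 + 1 := by
  obtain ⟨p, x, hp, hd, hx, rfl⟩ := hC
  have : Fact p.Prime := ⟨hp⟩
  exact card_centralizer_dvd h hd hx

theorem member_comm {C : Subgroup (Cfsg.Sz F m)} (hC : IsMember C) {a b : Cfsg.Sz F m} (ha : a ∈ C) (hb : b ∈ C) :
    a * b = b * a := by
  have := member_isCyclic h hC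
  let : CommGroup C := IsCyclic.commGroup
  exact congrArg Subtype.val (mul_comm (⟨a, ha⟩ : C) ⟨b, hb⟩)

theorem member_orderOf_dvd {C : Subgroup (Cfsg.Sz F m)} (hC : IsMember C) {g : Cfsg.Sz F m} (hg : g ∈ C) :
    orderOf g ∣ Nat.card C := by
  rw [← Subgroup.orderOf_mk g hg]; exact orderOf_dvd_natCard _

theorem member_ti {C : Subgroup (Cfsg.Sz F m)} (hC : IsMember C) :
    ∀ y ∈ C, y ≠ 1 → Subgroup.centralizer {y} = C := by
  intro y hy hy1
  obtain ⟨r, hr, hry⟩ := Nat.exists_prime_and_dvd (fun e => hy1 (orderOf_eq_one_iff.mp e))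
  obtain ⟨k, hk⟩ := exists_prime_pow hr hry
  have hrn : r ∣ (2 ^ (2 * m + 1)) ^ 2 + 1 :=
    (hry.trans (member_orderOf_dvd h hC hy)).trans (member_card_dvd h hC)
  have hD : IsMember (Subgroup.centralizer {y ^ k}) := ⟨r, _, hr, hrn, hk, rfl⟩
  obtain ⟨p, x, hp, hd, hx, rfl⟩ := id hC
  have hyD : y ∈ Subgroup.centralizer {y ^ k} :=
    Subgroup.mem_centralizer_singleton_iff.mpr (pow_mul_comm' y k).symm
  have hxD : x ∈ Subgroup.centralizer {y ^ k} := by
    have h1 := Subgroup.mem_centralizer_singleton_iff.mp ((Subgroup.centralizer {x}).pow_mem hy k)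
    exact Subgroup.mem_centralizer_singleton_iff.mpr h1.symm
  apply le_antisymm
  · intro w hw
    rw [Subgroup.mem_centralizer_singleton_iff] at hw ⊢
    have hwD : w ∈ Subgroup.centralizer {y ^ k} :=
      Subgroup.mem_centralizer_singleton_iff.mpr (Commute.pow_right hw k)
    exact member_comm h hD hwD hxD
  · intro w hw
    exact Subgroup.mem_centralizer_singleton_iff.mpr (member_comm h hC hw hy)

/-- Elements without fixed points on the ovoid. -/
def FixFree (g : Cfsg.Sz F m) : Prop :=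
  ∀ p ∈ Cfsg.suzukiOvoid F m, g • p ≠ p

theorem not_fixFree_of_conj_borel {g u : Cfsg.Sz F m} (hg : u * g * u⁻¹ ∈ borel F m) : ¬ FixFree g := fun hf => by
  refine hf (u⁻¹ • Cfsg.suzukiPointInfinity F) (smul_mem_ovoid _ pinf_mem) ?_
  have h1 : (u * g * u⁻¹) • Cfsg.suzukiPointInfinity F = Cfsg.suzukiPointInfinity F := hg
  rwa [mul_smul, mul_smul, ← eq_inv_smul_iff] at h1

/-- The trichotomy. -/
theorem classify {g : Cfsg.Sz F m} (hg : g ≠ 1) :
    (∃ u, u * g * u⁻¹ ∈ rootGroup h) ∨ (∃ u, u * g * u⁻¹ ∈ torus h) ∨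
      ∃ C, IsMember C ∧ g ∈ C := by
  obtain ⟨r, hr, hrg⟩ := Nat.exists_prime_and_dvd (fun e => hg (orderOf_eq_one_iff.mp e))
  have : Fact r.Prime := ⟨hr⟩
  obtain ⟨k, hk⟩ := exists_prime_pow hr hrg
  rcases prime_dvd_card_cases h hr (hrg.trans (orderOf_dvd_natCard g)) with e | e | e
  · subst e
    exact Or.inl (mem_rootGroup_of_commute_involution h hk (pow_mul_comm' g k).symm)
  · exact Or.inr (Or.inl (mem_torus_of_commute h e hk (pow_mul_comm' g k).symm))
  · exact Or.inr (Or.inr ⟨_, ⟨r, _, hr, e, hk, rfl⟩,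
      Subgroup.mem_centralizer_singleton_iff.mpr (pow_mul_comm' g k).symm⟩)

theorem fixFree_of_mem_member {C : Subgroup (Cfsg.Sz F m)} (hC : IsMember C) {g : Cfsg.Sz F m} (hg : g ∈ C)
    (hg1 : g ≠ 1) : FixFree g := by
  intro p hp e
  obtain ⟨u, rfl⟩ := exists_smul_pinf h hp
  have hb : u⁻¹ * g * u ∈ borel F m := by
    rw [MulAction.mem_stabilizer_iff, mul_smul, mul_smul, e, inv_smul_smul]
  have h1 : orderOf g ∣ Nat.card (borel F m) := by
    have h2 := orderOf_conj_eq u⁻¹ g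
    rw [inv_inv] at h2
    rw [← h2, ← Subgroup.orderOf_mk _ hb]
    exact orderOf_dvd_natCard _
  rw [card_borel h] at h1
  have h2 := Nat.dvd_gcd h1 ((member_orderOf_dvd h hC hg).trans (member_card_dvd h hC))
  rw [Nat.Coprime.gcd_eq_one (Nat.Coprime.mul_left coprime_three.2.1 coprime_three.2.2)] at h2
  exact hg1 (orderOf_eq_one_iff.mp (Nat.dvd_one.mp h2))

/-! ### Counting fixed-point-free elements -/

theorem card_stabilizer {p : Projectivization F (Fin 4 → F)} (hp : p ∈ Cfsg.suzukiOvoid F m) :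
    Nat.card (MulAction.stabilizer (Cfsg.Sz F m) p) = Nat.card (borel F m) := by
  obtain ⟨u, rfl⟩ := exists_smul_pinf h hp
  rw [MulAction.stabilizer_smul_eq_stabilizer_map_conj, Subgroup.card_map_of_injective (MulAut.conj u).injective]

theorem card_fix_pair {p r : Projectivization F (Fin 4 → F)} (hp : p ∈ Cfsg.suzukiOvoid F m)
    (hr : r ∈ Cfsg.suzukiOvoid F m) (hne : p ≠ r) :
    Nat.card {g : Cfsg.Sz F m // g • p = p ∧ g • r = r} = 2 ^ (2 * m + 1) - 1 := by
  obtain ⟨u, rfl, rfl⟩ := exists_smul_pair h hp hr hne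
  rw [← h.card_units_natCard]
  let f : Fˣ → {g : Cfsg.Sz F m // g • u • Cfsg.suzukiPointInfinity F = u • Cfsg.suzukiPointInfinity F ∧
      g • u • pt m (0 : F) 0 = u • pt m 0 0} := fun k => ⟨u * H h k * u⁻¹,
    by rw [mul_smul, mul_smul, inv_smul_smul, H_smul_pinf], by rw [mul_smul, mul_smul, inv_smul_smul, H_smul_pt_zero]⟩
  refine (Nat.card_eq_of_bijective f ⟨fun k l e => ?_, fun ⟨g, g1, g2⟩ => ?_⟩).symm
  · exact H_injective h (mul_left_cancel (mul_right_cancel (congrArg Subtype.val e)))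
  · obtain ⟨k, hk⟩ := fix_two h (g := u⁻¹ * g * u) (by rw [mul_smul, mul_smul, g1, inv_smul_smul])
      (by rw [mul_smul, mul_smul, g2, inv_smul_smul])
    exact ⟨k, Subtype.ext (show u * H h k * u⁻¹ = g by rw [← hk]; group)⟩

theorem card_fixFree :
    2 * Nat.card {g : Cfsg.Sz F m // FixFree g} = (2 ^ (2 * m + 1)) ^ 3 * (2 ^ (2 * m + 1) - 1) ^ 2 := by
  classical
  let G := Cfsg.Sz F m
  have : Fintype G := Fintype.ofFinite _
  let Ω := {p // p ∈ Cfsg.suzukiOvoid F m}
  have : Finite Ω := Subtype.finite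
  have : Fintype Ω := Fintype.ofFinite _
  set q := 2 ^ (2 * m + 1) with hq
  have h8 : 8 ≤ q := by
    have := h.eight_le_card
    rw [h.card] at this
    exact this
  have hΩ : Fintype.card Ω = q ^ 2 + 1 := by
    rw [← Nat.card_eq_fintype_card]
    exact (card_ovoid_eq (F := F) (m := m)).trans (by rw [h.card])
  let fix : G → Finset Ω := fun g => Finset.univ.filter fun p => g • p.1 = p.1
  have hone : (fix 1).card = q ^ 2 + 1 := by
    rw [← hΩ, ← Finset.card_univ]
    congr 1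
    exact Finset.filter_true_of_mem fun p _ => one_smul _ _
  have hle : ∀ g : G, g ≠ 1 → (fix g).card ≤ 2 := by
    intro g hg
    by_contra hlt
    obtain ⟨a, b, c, ha, hb, hc, hab, hac, hbc⟩ := Finset.two_lt_card_iff.mp (not_le.mp hlt)
    simp only [fix, Finset.mem_filter] at ha hb hc
    exact hg (fix_three h a.2 b.2 c.2 (fun e => hab (Subtype.ext e)) (fun e => hbc (Subtype.ext e))
      (fun e => hac (Subtype.ext e)) ha.2 hb.2 hc.2)
  have hfree : ∀ g : G, FixFree g ↔ (fix g).card = 0 := fun g => by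
    simp only [fix, Finset.card_eq_zero, Finset.filter_eq_empty_iff, FixFree]
    exact ⟨fun hf p _ => hf p.1 p.2, fun hf p hp => hf (x := ⟨p, hp⟩) (Finset.mem_univ _)⟩
  have hdiag : ∀ p : Ω, (Finset.univ.filter fun g : G => g • p.1 = p.1).card = q ^ 2 * (q - 1) := fun p => by
    rw [← Fintype.card_subtype, ← Nat.card_eq_fintype_card, hq, ← card_borel h, ← card_stabilizer h p.2]
    rfl
  have hG : Fintype.card G = q ^ 2 * (q ^ 2 + 1) * (q - 1) := by
    rw [← Nat.card_eq_fintype_card]; exact card_Sz h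
  have hsum1 : ∑ g : G, (fix g).card = Fintype.card G := by
    calc ∑ g : G, (fix g).card = ∑ p : Ω, (Finset.univ.filter fun g : G => g • p.1 = p.1).card := by
          simp only [fix, Finset.card_filter]
          exact Finset.sum_comm
      _ = Fintype.card G := by
          rw [Finset.sum_congr rfl (fun p _ => hdiag p), Finset.sum_const, Finset.card_univ, hΩ, hG, smul_eq_mul]
          ring
  have hsum2 : ∑ g : G, (fix g).card ^ 2 = 2 * Fintype.card G := by
    calc ∑ g : G, (fix g).card ^ 2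
        = ∑ p : Ω, ∑ r : Ω, (Finset.univ.filter fun g : G => g • p.1 = p.1 ∧ g • r.1 = r.1).card := by
          simp only [fix, Finset.card_filter, sq, Finset.sum_mul_sum, ite_mul, zero_mul, one_mul]
          rw [Finset.sum_comm]
          refine Finset.sum_congr rfl fun p _ => ?_
          rw [Finset.sum_comm]
          refine Finset.sum_congr rfl fun r _ => Finset.sum_congr rfl fun g _ => ?_
          rw [← ite_and]
      _ = ∑ p : Ω, (q ^ 2 * (q - 1) + q ^ 2 * (q - 1)) := by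
          refine Finset.sum_congr rfl fun p _ => ?_
          rw [← Finset.add_sum_erase _ _ (Finset.mem_univ p)]
          congr 1
          · simp only [and_self]; exact hdiag p
          · rw [Finset.sum_congr rfl (g := fun _ => q - 1) (fun r hr => ?_), Finset.sum_const,
              Finset.card_erase_of_mem (Finset.mem_univ p), Finset.card_univ, hΩ, Nat.add_sub_cancel, smul_eq_mul]
            rw [← Fintype.card_subtype, ← Nat.card_eq_fintype_card]
            exact card_fix_pair h p.2 r.2 fun e => (Finset.ne_of_mem_erase hr) (Subtype.ext e.symm)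
      _ = 2 * Fintype.card G := by
          rw [Finset.sum_const, Finset.card_univ, hΩ, hG, smul_eq_mul]; ring
  have hpoint : ∀ g : G, (((fix g).card : ℤ) - 1) * (((fix g).card : ℤ) - 2) =
      (if FixFree g then 2 else 0) + (if g = 1 then (q : ℤ) ^ 2 * ((q : ℤ) ^ 2 - 1) else 0) := by
    intro g
    by_cases hg : g = 1
    · subst hg
      have : ¬ FixFree (1 : G) := fun hf => hf _ pinf_mem (one_smul _ _)
      rw [if_neg this, if_pos rfl, hone]
      push_cast; ring
    · rw [if_neg hg, add_zero]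
      by_cases hf : FixFree g
      · rw [if_pos hf, (hfree g).mp hf]; norm_num
      · rw [if_neg hf]
        have h1 := hle g hg
        have h2 : (fix g).card ≠ 0 := fun e => hf ((hfree g).mpr e)
        obtain e | e : (fix g).card = 1 ∨ (fix g).card = 2 := by omega
        all_goals rw [e]; norm_num
  have htot := Finset.sum_congr (rfl : (Finset.univ : Finset G) = Finset.univ) fun g _ => hpoint g
  rw [Finset.sum_add_distrib, Finset.sum_ite_eq' Finset.univ (1 : G), if_pos (Finset.mem_univ _),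
    ← Finset.sum_filter, Finset.sum_const, ← Fintype.card_subtype, ← Nat.card_eq_fintype_card] at htot
  rw [show ∑ g : G, (((fix g).card : ℤ) - 1) * (((fix g).card : ℤ) - 2)
      = ∑ g : G, (((fix g).card : ℤ) ^ 2 - 3 * ((fix g).card : ℤ) + 2) from
    Finset.sum_congr rfl fun g _ => by ring, Finset.sum_add_distrib, Finset.sum_sub_distrib, ← Finset.mul_sum,
    Finset.sum_const, Finset.card_univ] at htot
  have e1 : ∑ g : G, ((fix g).card : ℤ) = Fintype.card G := by exact_mod_cast hsum1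
  have e2 : ∑ g : G, ((fix g).card : ℤ) ^ 2 = 2 * Fintype.card G := by exact_mod_cast hsum2
  rw [e1, e2, hG] at htot
  simp only [nsmul_eq_mul] at htot
  zify [show 1 ≤ q by omega] at htot ⊢
  linear_combination -htot

/-! ### The two classes of tori -/

/-- `C'` is a conjugate of `C`. -/
def ConjTo (C C' : Subgroup (Cfsg.Sz F m)) : Prop :=
  ∃ u, ∀ g, g ∈ C' ↔ u * g * u⁻¹ ∈ C

theorem exists_member {p : ℕ} (hp : p.Prime) (hd : p ∣ (2 ^ (2 * m + 1)) ^ 2 + 1) :
    ∃ C : Subgroup (Cfsg.Sz F m), IsMember C ∧ p ∣ Nat.card C := by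
  have : Fact p.Prime := ⟨hp⟩
  obtain ⟨x, hx⟩ := exists_prime_orderOf_dvd_card' (G := Cfsg.Sz F m) p
    (by rw [card_Sz h]; exact (hd.trans (dvd_mul_left _ _)).trans (dvd_mul_right _ _))
  refine ⟨_, ⟨p, x, hp, hd, hx, rfl⟩, ?_⟩
  rw [← hx, ← Subgroup.orderOf_mk x (Subgroup.mem_centralizer_singleton_iff.mpr rfl : x ∈ Subgroup.centralizer {x})]
  exact orderOf_dvd_natCard _

theorem sylow_isCyclic {p : ℕ} [hp : Fact p.Prime] (hd : p ∣ (2 ^ (2 * m + 1)) ^ 2 + 1)
    (P : Sylow p (Cfsg.Sz F m)) : IsCyclic (P : Subgroup (Cfsg.Sz F m)) := by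
  have hnt : Nontrivial (P : Subgroup (Cfsg.Sz F m)) := by
    rw [Subgroup.nontrivial_iff_ne_bot]
    refine P.ne_bot_of_dvd_card ?_
    rw [card_Sz h]; exact (hd.trans (dvd_mul_left _ _)).trans (dvd_mul_right _ _)
  have := P.isPGroup'.center_nontrivial
  obtain ⟨k, hk, hkc⟩ := (IsPGroup.iff_card.mp (P.isPGroup'.to_subgroup (Subgroup.center _))).imp
    fun k hk => And.intro (show k ≠ 0 by
      rintro rfl
      rw [pow_zero] at hk
      exact (Finite.one_lt_card (α := Subgroup.center (P : Subgroup (Cfsg.Sz F m)))).ne' hk) hk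
  obtain ⟨z, hz⟩ := exists_prime_orderOf_dvd_card' (G := Subgroup.center (P : Subgroup (Cfsg.Sz F m))) p
    (hkc ▸ dvd_pow_self p hk)
  have hzo : orderOf ((z : (P : Subgroup (Cfsg.Sz F m))) : Cfsg.Sz F m) = p := by
    rw [Subgroup.orderOf_coe, Subgroup.orderOf_coe, hz]
  have hle : (P : Subgroup (Cfsg.Sz F m)) ≤
      Subgroup.centralizer {((z : (P : Subgroup (Cfsg.Sz F m))) : Cfsg.Sz F m)} := fun w hw =>
    Subgroup.mem_centralizer_singleton_iff.mpr (congrArg Subtype.val (Subgroup.mem_center_iff.mp z.2 ⟨w, hw⟩))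
  have hm := member_isCyclic h (C := Subgroup.centralizer {((z : (P : Subgroup (Cfsg.Sz F m))) : Cfsg.Sz F m)})
    ⟨p, _, hp.out, hd, hzo, rfl⟩
  exact isCyclic_of_injective (Subgroup.inclusion hle) (Subgroup.inclusion_injective hle)

theorem member_sylow {C : Subgroup (Cfsg.Sz F m)} (hC : IsMember C) {p : ℕ} [hp : Fact p.Prime]
    (hd : p ∣ Nat.card C) :
    ∃ (P : Sylow p (Cfsg.Sz F m)), (P : Subgroup (Cfsg.Sz F m)) ≤ C ∧ ∃ z ∈ P, orderOf z = p ∧ z ∈ C := by
  obtain ⟨z, hz⟩ := exists_prime_orderOf_dvd_card' (G := C) p hd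
  rw [← Subgroup.orderOf_coe] at hz
  have hQ : IsPGroup p (Subgroup.zpowers z.1) := IsPGroup.of_card (n := 1) (by rw [Nat.card_zpowers, hz, pow_one])
  obtain ⟨P, hP⟩ := hQ.exists_le_sylow
  have := sylow_isCyclic h (hd.trans (member_card_dvd h hC)) P
  let : CommGroup (P : Subgroup (Cfsg.Sz F m)) := IsCyclic.commGroup
  have hzP : z.1 ∈ P := hP (Subgroup.mem_zpowers _)
  refine ⟨P, fun w hw => ?_, z, hzP, hz, z.2⟩
  rw [← member_ti h hC z z.2 (fun e => by rw [e, orderOf_one] at hz; exact hp.out.one_lt.ne hz)]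
  exact Subgroup.mem_centralizer_singleton_iff.mpr
    (congrArg Subtype.val (mul_comm (⟨w, hw⟩ : (P : Subgroup (Cfsg.Sz F m))) ⟨z, hzP⟩))

theorem conjTo_of_common_prime {C C' : Subgroup (Cfsg.Sz F m)} (hC : IsMember C) (hC' : IsMember C')
    {p : ℕ} (hp : p.Prime) (h1 : p ∣ Nat.card C) (h2 : p ∣ Nat.card C') : ConjTo C C' := by
  have : Fact p.Prime := ⟨hp⟩
  obtain ⟨P, hP, -⟩ := member_sylow h hC h1
  obtain ⟨P', -, z, hzP, hz, hzC⟩ := member_sylow h hC' h2
  obtain ⟨u, hu⟩ := MulAction.exists_smul_eq (Cfsg.Sz F m) P' P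
  have hw : u * z * u⁻¹ ∈ C := hP (by
    rw [← hu]; exact Subgroup.mem_map_of_mem (MulAut.conj u).toMonoidHom hzP)
  have hz1 : z ≠ 1 := fun e => by rw [e, orderOf_one] at hz; exact hp.one_lt.ne hz
  refine ⟨u, fun g => ?_⟩
  rw [← member_ti h hC' z hzC hz1, ← member_ti h hC _ hw (fun e => hz1 (conj_eq_one_iff.mp e)),
    Subgroup.mem_centralizer_singleton_iff, Subgroup.mem_centralizer_singleton_iff]
  constructor
  · intro e
    calc u * g * u⁻¹ * (u * z * u⁻¹) = u * (g * z) * u⁻¹ := by group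
      _ = u * (z * g) * u⁻¹ := by rw [e]
      _ = u * z * u⁻¹ * (u * g * u⁻¹) := by group
  · intro e
    calc g * z = u⁻¹ * (u * g * u⁻¹ * (u * z * u⁻¹)) * u := by group
      _ = u⁻¹ * (u * z * u⁻¹ * (u * g * u⁻¹)) * u := by rw [e]
      _ = z * g := by group

theorem ConjTo.card_eq {C C' : Subgroup (Cfsg.Sz F m)} (hcj : ConjTo C C') : Nat.card C' = Nat.card C := by
  obtain ⟨u, hu⟩ := hcj
  refine Nat.card_congr ((MulAut.conj u).toEquiv.subtypeEquiv fun g => ?_)
  exact hu g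

theorem member_not_dvd_cofactor {C : Subgroup (Cfsg.Sz F m)} (hC : IsMember C) {p : ℕ} (hp : p.Prime)
    (hd : p ∣ Nat.card C) : ¬ p ∣ ((2 ^ (2 * m + 1)) ^ 2 + 1) / Nat.card C := by
  have : Fact p.Prime := ⟨hp⟩
  obtain ⟨P, hP, -⟩ := member_sylow h hC hd
  intro e
  apply P.not_dvd_index
  refine e.trans (dvd_trans ?_ (Subgroup.index_dvd_of_le hP))
  have hc := C.card_mul_index
  obtain ⟨j, hj⟩ := member_card_dvd h hC
  rw [card_Sz h, hj, show (2 ^ (2 * m + 1)) ^ 2 * (Nat.card C * j) * (2 ^ (2 * m + 1) - 1) =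
    Nat.card C * (j * ((2 ^ (2 * m + 1)) ^ 2 * (2 ^ (2 * m + 1) - 1))) by ring] at hc
  rw [Nat.eq_of_mul_eq_mul_left Nat.card_pos hc, hj, Nat.mul_div_cancel_left _ Nat.card_pos]
  exact dvd_mul_right _ _

theorem five_le_card {C : Subgroup (Cfsg.Sz F m)} (hC : IsMember C) : 5 ≤ Nat.card C := by
  obtain ⟨p, x, hp, hd, hx, rfl⟩ := hC
  obtain ⟨h2, h3, -, -⟩ := prime_q_sq_facts hp hd
  have hp5 : 5 ≤ p := by
    have := hp.two_le
    have h4 : p ≠ 4 := fun e => by norm_num [e] at hp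
    omega
  refine hp5.trans (Nat.le_of_dvd Nat.card_pos ?_)
  rw [← hx, ← Subgroup.orderOf_mk x (Subgroup.mem_centralizer_singleton_iff.mpr rfl : x ∈ Subgroup.centralizer {x})]
  exact orderOf_dvd_natCard _

theorem three_not_dvd : ¬ 3 ∣ Nat.card (Cfsg.Sz F m) := fun hd => by
  have h3 : (2 ^ (2 * m + 1)) % 3 = 2 := by
    rw [pow_succ, pow_mul, Nat.mul_mod, Nat.pow_mod]; norm_num
  rcases prime_dvd_card_cases h Nat.prime_three hd with e | e | e
  · omega
  · revert e
    generalize 2 ^ (2 * m + 1) = r at h3 ⊢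
    omega
  · exact (prime_q_sq_facts Nat.prime_three e).2.1 rfl

/-- The normaliser index of a member. -/
theorem card_normalizer_member {C : Subgroup (Cfsg.Sz F m)} (hC : IsMember C) :
    ∃ e ∈ ({1, 2, 4} : Set ℕ), Nat.card (Subgroup.normalizer (C : Set (Cfsg.Sz F m))) = e * Nat.card C := by
  set N := Subgroup.normalizer (C : Set (Cfsg.Sz F m)) with hN
  have hle : C ≤ N := Subgroup.le_normalizer
  have hcard := Subgroup.card_eq_card_quotient_mul_card_subgroup (C.subgroupOf N)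
  rw [Nat.card_congr (Subgroup.subgroupOfEquivOfLe hle).toEquiv] at hcard
  refine ⟨_, ?_, hcard⟩
  set e := Nat.card (N ⧸ C.subgroupOf N)
  have hepos : 0 < e := Nat.card_pos
  have he3 : ¬ 3 ∣ e := fun e3 =>
    three_not_dvd h ((e3.trans (dvd_mul_right _ _)).trans (hcard ▸ N.card_subgroup_dvd_card))
  suffices hle4 : e ≤ 4 by
    simp only [Set.mem_insert_iff, Set.mem_singleton_iff]
    have : e ≠ 3 := fun e' => he3 (e' ▸ dvd_rfl)
    omega
  obtain ⟨p, x, hp, hd, hx, rfl⟩ := id hC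
  have : Fact p.Prime := ⟨hp⟩
  have hxC : x ∈ Subgroup.centralizer {x} := Subgroup.mem_centralizer_singleton_iff.mpr rfl
  let M : Cfsg.Sz F m → Matrix (Fin 4) (Fin 4) F := fun g => (g : Matrix.SpecialLinearGroup (Fin 4) F).1
  have hM : ∀ g, M g * M g⁻¹ = 1 := fun g => by
    show M (g * g⁻¹) = 1
    rw [mul_inv_cancel]; rfl
  have hM' : ∀ g, M g⁻¹ * M g = 1 := fun g => by
    show M (g⁻¹ * g) = 1
    rw [inv_mul_cancel]; rfl
  let φ : Cfsg.Sz F m → (Matrix (Fin 4) (Fin 4) F →ₐ[F] Matrix (Fin 4) (Fin 4) F) := fun g =>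
    { toFun := fun A => M g * A * M g⁻¹
      map_one' := by rw [mul_one, hM]
      map_mul' := fun A B => by
        rw [show M g * A * M g⁻¹ * (M g * B * M g⁻¹) = M g * A * (M g⁻¹ * M g) * B * M g⁻¹ by
          simp only [mul_assoc], hM', mul_one]
        simp only [mul_assoc]
      map_zero' := by rw [mul_zero, zero_mul]
      map_add' := fun A B => by rw [mul_add, add_mul]
      commutes' := fun c => by
        rw [← Algebra.commutes, mul_assoc, hM, mul_one] }
  let r : N ⧸ Subgroup.subgroupOf (Subgroup.centralizer {x}) N → Cfsg.Sz F m := fun i => (i.out : N).1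
  have := Commutant.card_conjugates_le (irreducible_of_order h hd hx)
    (fun i => M (r i * x * (r i)⁻¹)) ?_ ?_ (fun i => φ (r i)) (fun i => rfl)
  · simpa using this
  · intro i j eij
    have e' : r i * x * (r i)⁻¹ = r j * x * (r j)⁻¹ := Subtype.ext (Subtype.ext eij)
    rw [← Quotient.out_eq i, ← Quotient.out_eq j]
    refine QuotientGroup.eq.mpr ?_
    rw [Subgroup.mem_subgroupOf]
    refine Subgroup.mem_centralizer_singleton_iff.mpr ?_
    simp only [Subgroup.coe_mul, Subgroup.coe_inv]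
    show (r i)⁻¹ * r j * x = x * ((r i)⁻¹ * r j)
    calc (r i)⁻¹ * r j * x = (r i)⁻¹ * (r j * x * (r j)⁻¹) * r j := by group
      _ = (r i)⁻¹ * (r i * x * (r i)⁻¹) * r j := by rw [e']
      _ = x * ((r i)⁻¹ * r j) := by group
  · intro i
    exact coe_commute h hd hx ((Subgroup.mem_normalizer_iff.mp (i.out).2 x).mp hxC)

theorem exists_tori :
    ∃ A B : Subgroup (Cfsg.Sz F m), IsMember A ∧ IsMember B ∧
      Nat.card A = 2 ^ (2 * m + 1) + 2 ^ (m + 1) + 1 ∧ Nat.card B = 2 ^ (2 * m + 1) - 2 ^ (m + 1) + 1 ∧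
      Nat.card (Subgroup.normalizer (A : Set (Cfsg.Sz F m))) = 4 * Nat.card A ∧
      Nat.card (Subgroup.normalizer (B : Set (Cfsg.Sz F m))) = 4 * Nat.card B ∧
      ∀ C, IsMember C → ConjTo A C ∨ ConjTo B C := by
  classical
  set q := 2 ^ (2 * m + 1) with hq
  set n := q ^ 2 + 1 with hn
  set D := Nat.card {g : Cfsg.Sz F m // FixFree g} with hDdef
  have hD : 2 * D = q ^ 3 * (q - 1) ^ 2 := card_fixFree h
  have hG : Nat.card (Cfsg.Sz F m) = q ^ 2 * n * (q - 1) := card_Sz h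
  have h8 : 8 ≤ q := by
    have := h.eight_le_card
    rw [h.card] at this
    exact this
  obtain ⟨Q, hQ, hqQ⟩ : ∃ Q, 7 ≤ Q ∧ q = Q + 1 := ⟨q - 1, by omega, by omega⟩
  let U : Subgroup (Cfsg.Sz F m) → Finset (Cfsg.Sz F m) := fun C =>
    (Set.toFinite {g : Cfsg.Sz F m | g ≠ 1 ∧ ∃ u, u⁻¹ * g * u ∈ C}).toFinset
  have hU : ∀ C, IsMember C → ∃ e ∈ ({1, 2, 4} : Set ℕ),
      Nat.card (Subgroup.normalizer (C : Set (Cfsg.Sz F m))) = e * Nat.card C ∧
      (U C).card * (e * Nat.card C) = q ^ 2 * n * (q - 1) * (Nat.card C - 1) := by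
    intro C hC
    obtain ⟨e, he, hcard⟩ := card_normalizer_member h hC
    refine ⟨e, he, hcard, ?_⟩
    rw [← hG, ← TI.card_conjugates (member_ti h hC), hcard, ← Nat.card_eq_finsetCard]
    congr 1
    exact Nat.card_congr (Equiv.subtypeEquivRight fun g => by simp [U])
  let Df : Finset (Cfsg.Sz F m) := (Set.toFinite {g : Cfsg.Sz F m | FixFree g}).toFinset
  have hDf : Df.card = D := by
    rw [hDdef, ← Nat.card_eq_finsetCard]
    exact Nat.card_congr (Equiv.subtypeEquivRight fun g => by simp [Df])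
  have hsub : ∀ C, IsMember C → U C ⊆ Df := by
    intro C hC g hg
    simp only [U, Df, Set.Finite.mem_toFinset, Set.mem_ofPred_eq] at hg ⊢
    obtain ⟨hg1, u, hu⟩ := hg
    have hne : u⁻¹ * g * u ≠ 1 := fun e => hg1 (by
      calc g = u * (u⁻¹ * g * u) * u⁻¹ := by group
        _ = 1 := by rw [e]; group)
    intro p hp ep
    refine fixFree_of_mem_member h hC hu hne (u⁻¹ • p) (smul_mem_ovoid _ hp) ?_
    rw [mul_smul, mul_smul, smul_inv_smul, ep]
  have hdisj : ∀ C C' : Subgroup (Cfsg.Sz F m), IsMember C → IsMember C' → Nat.Coprime (Nat.card C) (Nat.card C') →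
      Disjoint (U C) (U C') := by
    intro C C' hC hC' hcop
    rw [Finset.disjoint_left]
    intro g hg hg'
    simp only [U, Set.Finite.mem_toFinset, Set.mem_ofPred_eq] at hg hg'
    obtain ⟨hg1, u, hu⟩ := hg
    obtain ⟨-, v, hv⟩ := hg'
    have e1 := member_orderOf_dvd h hC hu
    have e2 := member_orderOf_dvd h hC' hv
    have e3 : orderOf (u⁻¹ * g * u) = orderOf g := by
      simpa using orderOf_conj_eq u⁻¹ g
    have e4 : orderOf (v⁻¹ * g * v) = orderOf g := by
      simpa using orderOf_conj_eq v⁻¹ g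
    rw [e3] at e1
    rw [e4] at e2
    exact hg1 (orderOf_eq_one_iff.mp (Nat.eq_one_of_dvd_coprimes hcop e1 e2))
  have hcover : ∀ s : Finset (Subgroup (Cfsg.Sz F m)),
      (∀ C, IsMember C → ∃ A ∈ s, ConjTo A C) → Df ⊆ s.biUnion U := by
    intro s hs g hg
    simp only [Df, Set.Finite.mem_toFinset, Set.mem_ofPred_eq] at hg
    have hg1 : g ≠ 1 := fun e => hg _ pinf_mem (by rw [e, one_smul])
    rcases classify h hg1 with ⟨u, hu⟩ | ⟨u, hu⟩ | ⟨C, hC, hgC⟩
    · exact absurd hg (not_fixFree_of_conj_borel h (rootGroup_le_borel h hu))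
    · obtain ⟨k, hk⟩ := (mem_torus h).mp hu
      exact absurd hg (not_fixFree_of_conj_borel h (hk ▸ H_mem_borel h k))
    · obtain ⟨A, hA, u, hu⟩ := hs C hC
      refine Finset.mem_biUnion.mpr ⟨A, hA, ?_⟩
      simp only [U, Set.Finite.mem_toFinset, Set.mem_ofPred_eq]
      exact ⟨hg1, u⁻¹, by simpa using (hu g).mp hgC⟩
  have hcop : ∀ C C' : Subgroup (Cfsg.Sz F m), IsMember C → IsMember C' → ∀ p : ℕ, p.Prime → p ∣ Nat.card C' → ¬ p ∣ Nat.card C →
      Nat.Coprime (Nat.card C) (Nat.card C') := by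
    intro C C' hC hC' p hp h1 h2
    refine Nat.coprime_of_dvd fun r hr ha hb => h2 ?_
    rwa [← ConjTo.card_eq h (conjTo_of_common_prime h hC hC' hr ha hb)]
  have hlow : ∀ C, IsMember C → Nat.card (Subgroup.normalizer (C : Set (Cfsg.Sz F m))) = 4 * Nat.card C ∨
      2 * (q ^ 2 * n * (q - 1)) ≤ 5 * (U C).card := by
    intro C hC
    obtain ⟨e, he, hcard, heq⟩ := hU C hC
    have h5 := five_le_card h hC
    simp only [Set.mem_insert_iff, Set.mem_singleton_iff] at he
    rcases he with rfl | rfl | rfl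
    · right
      obtain ⟨a, ha⟩ : ∃ a, Nat.card C = a + 1 := ⟨Nat.card C - 1, by omega⟩
      rw [ha, Nat.add_sub_cancel] at heq
      have ha4 : 4 ≤ a := by omega
      nlinarith
    · right
      obtain ⟨a, ha⟩ : ∃ a, Nat.card C = a + 1 := ⟨Nat.card C - 1, by omega⟩
      rw [ha, Nat.add_sub_cancel] at heq
      have ha4 : 4 ≤ a := by omega
      nlinarith
    · exact Or.inl hcard
  have hlow1 : ∀ C : Subgroup (Cfsg.Sz F m), IsMember C → q ^ 2 * n * (q - 1) ≤ 5 * (U C).card := by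
    intro C hC
    obtain ⟨e, he, hcard, heq⟩ := hU C hC
    have h5 := five_le_card h hC
    obtain ⟨a, ha⟩ : ∃ a, Nat.card C = a + 1 := ⟨Nat.card C - 1, by omega⟩
    rw [ha, Nat.add_sub_cancel] at heq
    have ha4 : 4 ≤ a := by omega
    have he4 : e ≤ 4 := by
      simp only [Set.mem_insert_iff, Set.mem_singleton_iff] at he; omega
    nlinarith [Nat.mul_le_mul_right ((U C).card * (a + 1)) he4]
  have hbig : 2 * D < q ^ 2 * n * (q - 1) := by
    rw [hD, hn, hqQ, Nat.add_sub_cancel]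
    have : 0 < (Q + 1) ^ 2 * Q := by positivity
    nlinarith
  -- the first class
  obtain ⟨p, hp, hpd⟩ := Nat.exists_prime_and_dvd (show n ≠ 1 by
    have : 0 < q ^ 2 := by positivity
    omega)
  obtain ⟨A, hA, hpA⟩ := exists_member h hp hpd
  obtain ⟨j, hj⟩ : Nat.card A ∣ n := member_card_dvd h hA
  have hj1 : j ≠ 1 := by
    rintro rfl
    rw [mul_one] at hj
    have hsubA : Df ⊆ U A := by
      have := hcover {A} fun C hC => by
        obtain ⟨r, hr, hrC⟩ := Nat.exists_prime_and_dvd (show Nat.card C ≠ 1 by have := five_le_card h hC; omega)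
        exact ⟨A, Finset.mem_singleton_self A,
          conjTo_of_common_prime h hA hC hr (hj ▸ hrC.trans (member_card_dvd h hC)) hrC⟩
      simpa using this
    have hDA : D = (U A).card := by
      rw [← hDf, Finset.Subset.antisymm hsubA (hsub A hA)]
    obtain ⟨e, he, -, heq⟩ := hU A hA
    rw [← hDA, ← hj, show n - 1 = q ^ 2 by omega] at heq
    have hcancel : e * (q - 1) = 2 * q := by
      have h1 : (q ^ 3 * (q - 1) * n) * (e * (q - 1)) = (q ^ 3 * (q - 1) * n) * (2 * q) := by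
        calc (q ^ 3 * (q - 1) * n) * (e * (q - 1)) = (q ^ 3 * (q - 1) ^ 2) * (e * n) := by ring
          _ = (2 * D) * (e * n) := by rw [hD]
          _ = 2 * (D * (e * n)) := by ring
          _ = 2 * (q ^ 2 * n * (q - 1) * q ^ 2) := by rw [heq]
          _ = (q ^ 3 * (q - 1) * n) * (2 * q) := by ring
      refine Nat.eq_of_mul_eq_mul_left ?_ h1
      have : 0 < q - 1 := by omega
      positivity
    simp only [Set.mem_insert_iff, Set.mem_singleton_iff] at he
    rcases he with rfl | rfl | rfl <;> omega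
  obtain ⟨p2, hp2, hpd2⟩ := Nat.exists_prime_and_dvd hj1
  obtain ⟨B, hB, hpB⟩ := exists_member h hp2 (hj.symm ▸ (hpd2.trans (dvd_mul_left _ _)) : p2 ∣ n)
  have hnA : ¬ p2 ∣ Nat.card A := fun e => by
    refine member_not_dvd_cofactor h hA hp2 e ?_
    rw [← hq, ← hn, hj, Nat.mul_div_cancel_left _ Nat.card_pos]
    exact hpd2
  have hAB : Nat.Coprime (Nat.card A) (Nat.card B) := hcop A B hA hB p2 hp2 hpB hnA
  obtain ⟨i, hi⟩ : Nat.card A * Nat.card B ∣ n :=
    hAB.mul_dvd_of_dvd_of_dvd (member_card_dvd h hA) (member_card_dvd h hB)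
  have hsum2 : (U A).card + (U B).card ≤ D := by
    rw [← hDf, ← Finset.card_union_of_disjoint (hdisj A B hA hB hAB)]
    exact Finset.card_le_card (Finset.union_subset (hsub A hA) (hsub B hB))
  have hi1 : i = 1 := by
    by_contra hne
    obtain ⟨p3, hp3, hpd3⟩ := Nat.exists_prime_and_dvd hne
    obtain ⟨C, hC, hpC⟩ := exists_member h hp3 (hi.symm ▸ (hpd3.trans (dvd_mul_left _ _)) : p3 ∣ n)
    have hn3 : ∀ X : Subgroup (Cfsg.Sz F m), IsMember X → ∀ Y, n = Nat.card X * Y → p3 ∣ Y → ¬ p3 ∣ Nat.card X := by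
      intro X hX Y hY hpY e
      refine member_not_dvd_cofactor h hX hp3 e ?_
      rw [← hq, ← hn, hY, Nat.mul_div_cancel_left _ Nat.card_pos]
      exact hpY
    have hAC := hcop A C hA hC p3 hp3 hpC
      (hn3 A hA (Nat.card B * i) (by rw [hi]; ring) (hpd3.trans (dvd_mul_left _ _)))
    have hBC := hcop B C hB hC p3 hp3 hpC
      (hn3 B hB (Nat.card A * i) (by rw [hi]; ring) (hpd3.trans (dvd_mul_left _ _)))
    have hsum3 : (U A).card + (U B).card + (U C).card ≤ D := by
      rw [← hDf, ← Finset.card_union_of_disjoint (hdisj A B hA hB hAB), ← Finset.card_union_of_disjoint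
        (Finset.disjoint_union_left.mpr ⟨hdisj A C hA hC hAC, hdisj B C hB hC hBC⟩)]
      exact Finset.card_le_card
        (Finset.union_subset (Finset.union_subset (hsub A hA) (hsub B hB)) (hsub C hC))
    have := hlow1 A hA
    have := hlow1 B hB
    have := hlow1 C hC
    omega
  rw [hi1, mul_one] at hi
  have hall : ∀ C, IsMember C → ConjTo A C ∨ ConjTo B C := by
    intro C hC
    obtain ⟨r, hr, hrC⟩ := Nat.exists_prime_and_dvd (show Nat.card C ≠ 1 by have := five_le_card h hC; omega)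
    rcases hr.dvd_mul.mp ((hrC.trans (member_card_dvd h hC)).trans (dvd_of_eq hi) :
        r ∣ Nat.card A * Nat.card B) with e | e
    · exact Or.inl (conjTo_of_common_prime h hA hC hr e hrC)
    · exact Or.inr (conjTo_of_common_prime h hB hC hr e hrC)
  have heqD : (U A).card + (U B).card = D := by
    refine le_antisymm hsum2 ?_
    rw [← hDf, ← Finset.card_union_of_disjoint (hdisj A B hA hB hAB)]
    refine Finset.card_le_card ((hcover {A, B} fun C hC => ?_).trans (by simp))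
    rcases hall C hC with e | e
    · exact ⟨A, by simp, e⟩
    · exact ⟨B, by simp, e⟩
  have hNA : Nat.card (Subgroup.normalizer (A : Set (Cfsg.Sz F m))) = 4 * Nat.card A := by
    refine (hlow A hA).resolve_right fun hc => ?_
    have := hlow1 B hB
    omega
  have hNB : Nat.card (Subgroup.normalizer (B : Set (Cfsg.Sz F m))) = 4 * Nat.card B := by
    refine (hlow B hB).resolve_right fun hc => ?_
    have := hlow1 A hA
    omega
  have hcA := TI.card_conjugates (member_ti h hA)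
  have hcB := TI.card_conjugates (member_ti h hB)
  have eA : Nat.card {g : Cfsg.Sz F m // g ≠ 1 ∧ ∃ u, u⁻¹ * g * u ∈ A} = (U A).card := by
    rw [← Nat.card_eq_finsetCard]; exact Nat.card_congr (Equiv.subtypeEquivRight fun g => by simp [U])
  have eB : Nat.card {g : Cfsg.Sz F m // g ≠ 1 ∧ ∃ u, u⁻¹ * g * u ∈ B} = (U B).card := by
    rw [← Nat.card_eq_finsetCard]; exact Nat.card_congr (Equiv.subtypeEquivRight fun g => by simp [U])
  rw [hNA, hG, eA] at hcA
  rw [hNB, hG, eB] at hcB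
  have h5A := five_le_card h hA
  have h5B := five_le_card h hB
  have hq1 : 1 ≤ q := by omega
  have hsumab : Nat.card A + Nat.card B = 2 * (q + 1) := by
    zify [show 1 ≤ Nat.card A by omega, show 1 ≤ Nat.card B by omega, hq1] at hcA hcB hD heqD hi ⊢
    have hpos : (q : ℤ) ^ 2 * (n : ℤ) * ((q : ℤ) - 1) ≠ 0 := by
      have : (q : ℤ) - 1 ≠ 0 := by omega
      positivity
    refine mul_left_cancel₀ hpos ?_
    have hn' : (n : ℤ) = (q : ℤ) ^ 2 + 1 := by rw [hn]; push_cast; ring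
    linear_combination (Nat.card B : ℤ) * hcA + (Nat.card A : ℤ) * hcB
      - 4 * (Nat.card A : ℤ) * (Nat.card B : ℤ) * heqD
      - 2 * (Nat.card A : ℤ) * (Nat.card B : ℤ) * hD
      + (2 * (q : ℤ) ^ 3 * ((q : ℤ) - 1) ^ 2 - 2 * (q : ℤ) ^ 2 * (n : ℤ) * ((q : ℤ) - 1)) * hi
      + 2 * (q : ℤ) ^ 2 * (n : ℤ) * ((q : ℤ) - 1) * hn'
  have hr : (2 ^ (m + 1)) ^ 2 = 2 * q := by
    rw [hq, ← pow_mul, ← pow_succ']; congr 1; ring
  have hrq : 2 ^ (m + 1) ≤ q := by
    rw [hq]; exact Nat.pow_le_pow_right (by norm_num) (by omega)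
  have hsol : Nat.card A = q + 2 ^ (m + 1) + 1 ∨ Nat.card B = q + 2 ^ (m + 1) + 1 := by
    have hsum' : (Nat.card A : ℤ) + Nat.card B = 2 * ((q : ℤ) + 1) := by exact_mod_cast hsumab
    have hprod : (Nat.card A : ℤ) * Nat.card B = (q : ℤ) ^ 2 + 1 := by
      have := hi.symm.trans hn
      exact_mod_cast this
    have hr' : ((2 ^ (m + 1) : ℕ) : ℤ) ^ 2 = 2 * (q : ℤ) := by exact_mod_cast hr
    have hprod0 : ((Nat.card A : ℤ) - q - 1 - (2 ^ (m + 1) : ℕ)) * ((Nat.card B : ℤ) - q - 1 - (2 ^ (m + 1) : ℕ)) = 0 := by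
      linear_combination hprod - ((q : ℤ) + 1 + (2 ^ (m + 1) : ℕ)) * hsum' + hr'
    rcases mul_eq_zero.mp hprod0 with e | e <;> omega
  rcases hsol with e | e
  · exact ⟨A, B, hA, hB, e, by omega, hNA, hNB, hall⟩
  · exact ⟨B, A, hB, hA, e, by omega, hNB, hNA, fun C hC => (hall C hC).symm⟩

theorem torus_comm {a b : Cfsg.Sz F m} (ha : a ∈ torus h) (hb : b ∈ torus h) : a * b = b * a := by
  obtain ⟨k, rfl⟩ := (mem_torus h).mp ha
  obtain ⟨l, rfl⟩ := (mem_torus h).mp hb
  rw [← H_mul, ← H_mul, mul_comm]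

theorem centralizer_conj_mem {g u w : Cfsg.Sz F m} :
    w ∈ Subgroup.centralizer {u * g * u⁻¹} ↔ u⁻¹ * w * u ∈ Subgroup.centralizer {g} := by
  rw [Subgroup.mem_centralizer_singleton_iff, Subgroup.mem_centralizer_singleton_iff]
  constructor
  · intro e
    calc u⁻¹ * w * u * g = u⁻¹ * (w * (u * g * u⁻¹)) * u := by group
      _ = u⁻¹ * (u * g * u⁻¹ * w) * u := by rw [e]
      _ = g * (u⁻¹ * w * u) := by group
  · intro e
    calc w * (u * g * u⁻¹) = u * (u⁻¹ * w * u * g) * u⁻¹ := by group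
      _ = u * (g * (u⁻¹ * w * u)) * u⁻¹ := by rw [e]
      _ = u * g * u⁻¹ * w := by group

/-- Orders of the three kinds of cyclic tori. -/
def torusOrders (m : ℕ) : Set ℕ :=
  {2 ^ (2 * m + 1) - 1, 2 ^ (2 * m + 1) + 2 ^ (m + 1) + 1, 2 ^ (2 * m + 1) - 2 ^ (m + 1) + 1}

/-- Every non-identity element is a 2-element or has a cyclic centraliser of known order. -/
theorem centralizer_cases {g : Cfsg.Sz F m} (hg : g ≠ 1) :
    (∃ u, u * g * u⁻¹ ∈ rootGroup h) ∨
      (IsCyclic (Subgroup.centralizer {g}) ∧ Nat.card (Subgroup.centralizer {g}) ∈ torusOrders m) := by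
  rcases classify h hg with hu | ⟨u, hu⟩ | ⟨C, hC, hgC⟩
  · exact Or.inl hu
  · right
    obtain ⟨k, hk⟩ := (mem_torus h).mp hu
    have hk1 : k ≠ 1 := by
      rintro rfl
      rw [H_one, conj_eq_one_iff] at hk
      exact hg hk
    let e : Subgroup.centralizer {g} ≃* torus h :=
      { toFun := fun w => ⟨u * w.1 * u⁻¹, by
          rw [← centralizer_H h hk1, ← hk, centralizer_conj_mem h]
          convert! w.2 using 1
          group⟩
        invFun := fun w => ⟨u⁻¹ * w.1 * u, by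
          obtain ⟨w, hw⟩ := w
          rwa [← centralizer_H h hk1, ← hk, centralizer_conj_mem h] at hw⟩
        left_inv := fun w => Subtype.ext (by group)
        right_inv := fun w => Subtype.ext (by group)
        map_mul' := fun a b => Subtype.ext (by simp [mul_assoc]) }
    have := isCyclic_torus h
    refine ⟨isCyclic_of_surjective e.symm.toMonoidHom e.symm.surjective, Or.inl ?_⟩
    rw [Nat.card_congr e.toEquiv, card_torus]
  · right
    rw [member_ti h hC g hgC hg]
    refine ⟨member_isCyclic h hC, Or.inr ?_⟩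
    obtain ⟨A, B, -, -, hA, hB, -, -, hall⟩ := exists_tori h
    rcases hall C hC with e | e
    · exact Or.inl (by rw [ConjTo.card_eq h e, hA])
    · exact Or.inr (Set.mem_singleton_iff.mpr (by rw [ConjTo.card_eq h e, hB]))

omit h in
theorem torusOrders_spec {k : ℕ} (hk : k ∈ torusOrders m) :
    Nat.Coprime ((2 ^ (2 * m + 1)) ^ 2) k ∧ ∀ k' ∈ torusOrders m, k' ≠ k → Nat.Coprime k' k := by
  set q := 2 ^ (2 * m + 1) with hq
  have hr : (2 ^ (m + 1)) ^ 2 = 2 * q := by
    rw [hq, ← pow_mul, ← pow_succ']; congr 1; ring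
  have hrq : 2 ^ (m + 1) ≤ q := by
    rw [hq]; exact Nat.pow_le_pow_right (by norm_num) (by omega)
  obtain ⟨R, hR⟩ : ∃ R, R = 2 ^ (m + 1) := ⟨_, rfl⟩
  rw [← hR] at hr hrq
  have hprod : (q + R + 1) * (q - R + 1) = q ^ 2 + 1 := by
    zify [hrq] at hr ⊢
    linear_combination -hr
  have ha : q + R + 1 ∣ q ^ 2 + 1 := ⟨_, hprod.symm⟩
  have hb : q - R + 1 ∣ q ^ 2 + 1 := ⟨_, (mul_comm _ _).trans hprod |>.symm⟩
  obtain ⟨h01, h02, h12⟩ := coprime_three (m := m)
  have hab : Nat.Coprime (q + R + 1) (q - R + 1) := by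
    refine Nat.coprime_of_dvd fun r hr' h1 h2 => ?_
    have h3 : r ∣ 2 * R := by
      have := Nat.dvd_sub h1 h2
      rwa [show q + R + 1 - (q - R + 1) = 2 * R by omega] at this
    rw [hR, ← pow_succ'] at h3
    exact (prime_q_sq_facts hr' (h1.trans ha)).1
      ((Nat.prime_dvd_prime_iff_eq hr' Nat.prime_two).mp (hr'.dvd_of_dvd_pow h3))
  have hnn : Nat.Coprime (q ^ 2) (q + R + 1) ∧ Nat.Coprime (q ^ 2) (q - R + 1) :=
    ⟨h02.coprime_dvd_right ha, h02.coprime_dvd_right hb⟩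
  simp only [torusOrders, Set.mem_insert_iff, Set.mem_singleton_iff, ← hR, ← hq] at hk ⊢
  refine ⟨?_, fun k' hk' hne => ?_⟩
  · rcases hk with rfl | rfl | rfl
    · exact h01
    · exact hnn.1
    · exact hnn.2
  · rcases hk with rfl | rfl | rfl <;> rcases hk' with rfl | rfl | rfl
    all_goals first
      | exact absurd rfl hne
      | exact h12.coprime_dvd_right ha
      | exact h12.coprime_dvd_right hb
      | exact (h12.coprime_dvd_right ha).symm
      | exact (h12.coprime_dvd_right hb).symm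
      | exact hab
      | exact hab.symm

end Cfsg.Agent.Suzuki
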