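import Cfsg.Agent.Lib.Suzuki.Group
import Mathlib.GroupTheory.Exponent

/-! Local structure of the Suzuki group: root group, involutions, torus, maximality of the Borel subgroup. -/

namespace Cfsg.Agent.Suzuki

open scoped Pointwise commutatorElement

variable {F : Type*} [Field F] [Fintype F] {m : ℕ} (h : SzField F m)

include h

theorem eq_one_iff_T {a b : F} : T h a b = 1 ↔ a = 0 ∧ b = 0 :=
  ⟨fun e => T_injective h (e.trans (T_zero h).symm), by rintro ⟨rfl, rfl⟩; exact T_zero h⟩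

theorem T_sq (a b : F) : T h a b * T h a b = T h 0 (θ m a * a) := by
  rw [T_mul, h.add_self, h.add_self, zero_add]

theorem T_zero_mul (x a b : F) : T h 0 x * T h a b = T h a (x + b) := by
  rw [T_mul, zero_add, θ_zero, zero_mul, add_zero]

theorem T_zero_central (x a b : F) : T h 0 x * T h a b = T h a b * T h 0 x := by
  rw [T_zero_mul, T_mul, add_zero, mul_zero, add_zero, add_comm b x]

theorem T_comm (a b c d : F) :
    T h a b * T h c d = T h 0 (θ m a * c + θ m c * a) * (T h c d * T h a b) := by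
  rw [T_mul, T_mul, T_zero_mul, add_comm c a]
  congr 1
  linear_combination (-(θ m c * a)) * h.two_eq_zero

theorem T_conj (a b c d : F) :
    T h a b * T h c d * (T h a b)⁻¹ = T h c (θ m a * c + θ m c * a + d) := by
  rw [T_comm h a b c d, mul_assoc, mul_assoc, mul_inv_cancel, mul_one, T_zero_mul]

theorem TH_conj (a b : F) (k : Fˣ) (c d : F) :
    (T h a b * H h k) * T h c d * (T h a b * H h k)⁻¹ =
      T h ((k : F) * c)
        (θ m a * ((k : F) * c) + θ m ((k : F) * c) * a + θ m (k : F) * k * d) := by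
  rw [show (T h a b * H h k) * T h c d * (T h a b * H h k)⁻¹
    = T h a b * (H h k * T h c d * (H h k)⁻¹) * (T h a b)⁻¹ by group, H_conj_T, T_conj]

theorem TH_conj_zero (a b : F) (k : Fˣ) (d : F) :
    (T h a b * H h k) * T h 0 d * (T h a b * H h k)⁻¹ = T h 0 (θ m (k : F) * k * d) := by
  rw [TH_conj]
  simp

/-- The group of elements `T(0, b)`. -/
def zGroup : Subgroup (Cfsg.Sz F m) where
  carrier := {g | ∃ b, g = T h 0 b}
  one_mem' := ⟨0, (T_zero h).symm⟩
  mul_mem' := by rintro _ _ ⟨b, rfl⟩ ⟨d, rfl⟩; exact ⟨_, T_zero_mul h b 0 d⟩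
  inv_mem' := by rintro _ ⟨b, rfl⟩; exact ⟨b, by rw [T_inv]; simp⟩

theorem zGroup_le : zGroup h ≤ rootGroup h := by rintro _ ⟨b, rfl⟩; exact ⟨0, b, rfl⟩

theorem card_zGroup : Nat.card (zGroup h) = 2 ^ (2 * m + 1) := by
  let f : F → zGroup h := fun b => ⟨T h 0 b, b, rfl⟩
  have hf : Function.Bijective f := by
    constructor
    · intro b d e
      exact (T_injective h (congrArg Subtype.val e)).2
    · rintro ⟨_, b, rfl⟩; exact ⟨b, rfl⟩
  rw [← Nat.card_eq_of_bijective f hf, Nat.card_eq_fintype_card, h.card]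

theorem exists_comm_coord (b : F) : ∃ a c : F, θ m a * c + θ m c * a = b := by
  by_cases hb : b = 0
  · exact ⟨0, 0, by simp [hb]⟩
  obtain ⟨c, hc⟩ := h.exists_θ_ne
  have hne : θ m c + c ≠ 0 := fun e => hc ((h.eq_iff_add_eq_zero _ _).mpr e)
  obtain ⟨k, _, hk⟩ := h.θ_mul_self_surjective (b / (θ m c + c)) (div_ne_zero hb hne)
  refine ⟨k, k * c, ?_⟩
  rw [θ_mul]
  field_simp at hk
  linear_combination hk

theorem center_rootGroup : Subgroup.center (rootGroup h) = (zGroup h).subgroupOf (rootGroup h) := by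
  ext ⟨_, a, b, rfl⟩
  rw [Subgroup.mem_center_iff, Subgroup.mem_subgroupOf]
  constructor
  · intro hc
    refine ⟨b, ?_⟩
    have key : ∀ c, θ m a * c + θ m c * a = 0 := fun c => by
      have e := congrArg Subtype.val (hc ⟨T h c 0, c, 0, rfl⟩)
      simp only [Subgroup.coe_mul] at e
      have e2 := T_comm h a b c 0
      rw [e] at e2
      exact ((eq_one_iff_T h).mp (mul_eq_right.mp e2.symm)).2
    suffices ha : a = 0 by rw [ha]
    by_contra ha
    have h1 := key 1
    rw [mul_one, θ_one, one_mul] at h1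
    rcases h.θ_eq_self ((h.eq_iff_add_eq_zero _ _).mpr h1) with e | e
    · exact ha e
    · obtain ⟨c, hc⟩ := h.exists_θ_ne
      have h2 := key c
      rw [e, θ_one, one_mul, mul_one] at h2
      exact hc ((h.eq_iff_add_eq_zero _ _).mpr h2).symm
  · rintro ⟨d, hd⟩ ⟨_, c, e, rfl⟩
    apply Subtype.ext
    simp only [Subgroup.coe_mul] at hd ⊢
    rw [hd]
    exact (T_zero_central h d c e).symm

theorem commutator_rootGroup : commutator (rootGroup h) = (zGroup h).subgroupOf (rootGroup h) := by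
  apply le_antisymm
  · rw [commutator_def, Subgroup.commutator_le]
    rintro ⟨_, a, b, rfl⟩ - ⟨_, c, d, rfl⟩ -
    rw [Subgroup.mem_subgroupOf]
    refine ⟨θ m a * c + θ m c * a, ?_⟩
    simp only [commutatorElement_def, Subgroup.coe_mul, Subgroup.coe_inv]
    rw [T_comm h a b c d]
    group
  · rintro ⟨_, _, _, rfl⟩ ⟨x, hx⟩
    obtain ⟨a, c, e⟩ := exists_comm_coord h x
    have hm : ⁅(⟨T h a 0, a, 0, rfl⟩ : rootGroup h), (⟨T h c 0, c, 0, rfl⟩ : rootGroup h)⁆ ∈
        commutator (rootGroup h) :=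
      Subgroup.commutator_mem_commutator (Subgroup.mem_top _) (Subgroup.mem_top _)
    convert! hm using 1
    apply Subtype.ext
    simp only [Subgroup.subtype_apply] at hx
    simp only [commutatorElement_def, Subgroup.coe_mul, Subgroup.coe_inv]
    rw [T_comm h a 0 c 0, e, ← hx]
    group

theorem T_one_zero_sq_ne : T h 1 0 * T h 1 0 ≠ 1 := by
  rw [T_sq]
  intro e
  simpa using ((eq_one_iff_T h).mp e).2

theorem exponent_rootGroup : Monoid.exponent (rootGroup h) = 4 := by
  apply Nat.dvd_antisymm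
  · rw [Monoid.exponent_dvd_iff_forall_pow_eq_one]
    rintro ⟨_, a, b, rfl⟩
    apply Subtype.ext
    simp only [SubmonoidClass.coe_pow, OneMemClass.coe_one]
    show T h a b ^ (2 * 2) = 1
    rw [pow_mul, pow_two, pow_two, T_sq, T_sq]
    exact (eq_one_iff_T h).mpr ⟨rfl, by simp⟩
  · have h4 : orderOf (⟨T h 1 0, 1, 0, rfl⟩ : rootGroup h) = 2 ^ (1 + 1) := by
      have : Fact (Nat.Prime 2) := ⟨Nat.prime_two⟩
      refine orderOf_eq_prime_pow (fun e => ?_) (Subtype.ext ?_)
      · apply T_one_zero_sq_ne h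
        have := congrArg Subtype.val e
        simpa [pow_two] using this
      · simp only [SubmonoidClass.coe_pow, OneMemClass.coe_one]
        show T h 1 0 ^ (2 * 2) = 1
        rw [pow_mul, pow_two, pow_two, T_sq, T_sq]
        exact (eq_one_iff_T h).mpr ⟨rfl, by simp⟩
    have := Monoid.order_dvd_exponent (⟨T h 1 0, 1, 0, rfl⟩ : rootGroup h)
    rw [h4] at this
    exact this

/-! ### Fixed points, centralisers and normalisers of root elements -/

theorem fix_pinf_of_conj_mem {g t : Cfsg.Sz F m} (ht : t ∈ rootGroup h) (h1 : t ≠ 1)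
    (hc : g * t * g⁻¹ ∈ rootGroup h) : g ∈ borel F m := by
  obtain ⟨a, b, rfl⟩ := ht
  obtain ⟨c, d, e⟩ := hc
  have hne : T h c d ≠ 1 := by
    rw [← e, Ne, conj_eq_one_iff]; exact h1
  have hfix : T h c d • g • Cfsg.suzukiPointInfinity F = g • Cfsg.suzukiPointInfinity F := by
    rw [← e, mul_smul, mul_smul, inv_smul_smul, T_smul_pinf]
  exact T_fix_eq h hne (smul_mem_ovoid g pinf_mem) hfix

theorem centralizer_le {t : Cfsg.Sz F m} (ht : t ∈ rootGroup h) (h1 : t ≠ 1) :
    Subgroup.centralizer {t} ≤ rootGroup h := by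
  intro g hg
  rw [Subgroup.mem_centralizer_singleton_iff] at hg
  have hconj : g * t * g⁻¹ = t := by rw [hg, mul_inv_cancel_right]
  have hb := fix_pinf_of_conj_mem h ht h1 (by rw [hconj]; exact ht)
  obtain ⟨a, b, k, rfl⟩ := borel_form h hb
  obtain ⟨c, d, rfl⟩ := ht
  rw [TH_conj] at hconj
  obtain ⟨hc, hd⟩ := T_injective h hconj
  suffices hk : k = 1 by exact ⟨a, b, by rw [hk, H_one, mul_one]⟩
  apply Units.ext
  by_cases hc0 : c = 0
  · subst hc0
    have hd0 : d ≠ 0 := fun e => h1 ((eq_one_iff_T h).mpr ⟨rfl, e⟩)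
    simp only [mul_zero, θ_zero, zero_mul, zero_add] at hd
    refine h.θ_mul_self_injective k.ne_zero one_ne_zero ?_
    rw [Units.val_one, θ_one, mul_one]
    exact mul_right_cancel₀ hd0 (hd.trans (one_mul d).symm)
  · exact mul_right_cancel₀ hc0 (hc.trans (one_mul c).symm)

theorem normalizer_rootGroup :
    Subgroup.normalizer (rootGroup h : Set (Cfsg.Sz F m)) = borel F m := by
  refine le_antisymm (fun g hg => ?_) (borel_le_normalizer h)
  refine fix_pinf_of_conj_mem h (t := T h 0 1) ⟨0, 1, rfl⟩ (fun e => ?_)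
    ((Subgroup.mem_normalizer_iff.mp hg _).mp ⟨0, 1, rfl⟩)
  exact one_ne_zero ((eq_one_iff_T h).mp e).2

theorem odd_index_rootGroup : ¬ 2 ∣ (rootGroup h).index := by
  have hc : Nat.card (rootGroup h) * (rootGroup h).index = Nat.card (Cfsg.Sz F m) :=
    (rootGroup h).card_mul_index
  rw [card_rootGroup, card_Sz h, mul_assoc] at hc
  have hpos : 0 < (2 ^ (2 * m + 1)) ^ 2 := by positivity
  rw [Nat.eq_of_mul_eq_mul_left hpos hc]
  have he : 2 ∣ 2 ^ (2 * m + 1) := dvd_pow_self 2 (by omega)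
  intro hd
  rcases Nat.prime_two.dvd_mul.mp hd with hd | hd
  · have := (Nat.dvd_add_right (dvd_pow he two_ne_zero)).mp hd
    omega
  · have h1 : 1 ≤ 2 ^ (2 * m + 1) := Nat.one_le_two_pow
    omega

theorem isPGroup_rootGroup : IsPGroup 2 (rootGroup h) :=
  IsPGroup.of_card (n := (2 * m + 1) * 2) (by rw [card_rootGroup, ← pow_mul])

/-- The root group as a Sylow 2-subgroup. -/
def rootSylow : Sylow 2 (Cfsg.Sz F m) :=
  (isPGroup_rootGroup h).toSylow (odd_index_rootGroup h)

@[simp] theorem rootSylow_coe : ((rootSylow h : Sylow 2 (Cfsg.Sz F m)) : Subgroup (Cfsg.Sz F m)) = rootGroup h :=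
  rfl

theorem exists_conj_sylow (P : Sylow 2 (Cfsg.Sz F m)) :
    ∃ g : Cfsg.Sz F m, (P : Subgroup (Cfsg.Sz F m)) = (rootGroup h).map (MulAut.conj g).toMonoidHom := by
  have : Fact (Nat.Prime 2) := ⟨Nat.prime_two⟩
  obtain ⟨g, rfl⟩ := MulAction.exists_smul_eq (Cfsg.Sz F m) (rootSylow h) P
  exact ⟨g, rfl⟩

theorem exists_conj_isPGroup_le {Q : Subgroup (Cfsg.Sz F m)} (hQ : IsPGroup 2 Q) :
    ∃ g : Cfsg.Sz F m, ∀ x ∈ Q, g * x * g⁻¹ ∈ rootGroup h := by
  obtain ⟨P, hP⟩ := hQ.exists_le_sylow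
  obtain ⟨g, hg⟩ := exists_conj_sylow h P
  refine ⟨g⁻¹, fun x hx => ?_⟩
  have := hP hx
  rw [hg] at this
  obtain ⟨y, hy, rfl⟩ := this
  convert! hy using 1
  simp [MulAut.conj_apply, mul_assoc]

theorem exists_conj_mem_rootGroup {x : Cfsg.Sz F m} {n : ℕ} (hx : x ^ 2 ^ n = 1) :
    ∃ g : Cfsg.Sz F m, g * x * g⁻¹ ∈ rootGroup h := by
  obtain ⟨i, -, hi⟩ := (Nat.dvd_prime_pow Nat.prime_two).mp (orderOf_dvd_of_pow_eq_one hx)
  have hQ : IsPGroup 2 (Subgroup.zpowers x) := IsPGroup.of_card (n := i) (by rw [Nat.card_zpowers, hi])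
  obtain ⟨g, hg⟩ := exists_conj_isPGroup_le h hQ
  exact ⟨g, hg x (Subgroup.mem_zpowers x)⟩

theorem involution_in_rootGroup {x : Cfsg.Sz F m} (hx : x ∈ rootGroup h) (h2 : x * x = 1) :
    x ∈ zGroup h := by
  obtain ⟨a, b, rfl⟩ := hx
  rw [T_sq] at h2
  have h3 := ((eq_one_iff_T h).mp h2).2
  rcases mul_eq_zero.mp h3 with e | e
  · exact ⟨b, by rw [h.θ_eq_zero.mp e]⟩
  · exact ⟨b, by rw [e]⟩

theorem H_conj_zero (k : Fˣ) (b : F) : H h k * T h 0 b * (H h k)⁻¹ = T h 0 (θ m (k : F) * k * b) := by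
  rw [H_conj_T, mul_zero]

theorem exists_H_conj {b b' : F} (hb : b ≠ 0) (hb' : b' ≠ 0) :
    ∃ k : Fˣ, H h k * T h 0 b * (H h k)⁻¹ = T h 0 b' := by
  obtain ⟨k, hk0, hk⟩ := h.θ_mul_self_surjective (b' / b) (div_ne_zero hb' hb)
  exact ⟨Units.mk0 k hk0, by rw [H_conj_zero, Units.val_mk0, hk, div_mul_cancel₀ _ hb]⟩

theorem involutions_conj {x y : Cfsg.Sz F m} (hx : orderOf x = 2) (hy : orderOf y = 2) : IsConj x y := by
  have key : ∀ z : Cfsg.Sz F m, orderOf z = 2 → IsConj z (T h 0 1) := by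
    intro z hz
    obtain ⟨g, hg⟩ := exists_conj_mem_rootGroup h (x := z) (n := 1) (by rw [pow_one, ← hz, pow_orderOf_eq_one])
    have h2 : (g * z * g⁻¹) * (g * z * g⁻¹) = 1 := by
      rw [show (g * z * g⁻¹) * (g * z * g⁻¹) = g * (z * z) * g⁻¹ by group, ← pow_two z, ← hz, pow_orderOf_eq_one]
      group
    obtain ⟨b, hb⟩ := involution_in_rootGroup h hg h2
    have hb0 : b ≠ 0 := by
      rintro rfl
      rw [T_zero] at hb
      rw [conj_eq_one_iff.mp hb, orderOf_one] at hz
      omega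
    obtain ⟨k, hk⟩ := exists_H_conj h hb0 one_ne_zero
    refine isConj_iff.mpr ⟨H h k * g, ?_⟩
    rw [← hk, ← hb]
    group
  exact (key x hx).trans (key y hy).symm

/-- A non-trivial 2-element is real only when it is an involution. -/
theorem real_iff {g : Cfsg.Sz F m} {n : ℕ} (hn : g ^ 2 ^ n = 1) (h1 : g ≠ 1) :
    IsConj g g⁻¹ ↔ orderOf g = 2 := by
  constructor
  · intro hc
    obtain ⟨u, hu⟩ := exists_conj_mem_rootGroup h hn
    set t := u * g * u⁻¹ with ht
    have h1t : t ≠ 1 := by rw [ht, Ne, conj_eq_one_iff]; exact h1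
    obtain ⟨x, hx⟩ := isConj_iff.mp hc
    have hinv : (u * x * u⁻¹) * t * (u * x * u⁻¹)⁻¹ = t⁻¹ := by
      rw [ht, show (u * g * u⁻¹)⁻¹ = u * g⁻¹ * u⁻¹ by group, ← hx]; group
    have hb := fix_pinf_of_conj_mem h hu h1t (by rw [hinv]; exact (rootGroup h).inv_mem hu)
    obtain ⟨a, b, k, hk⟩ := borel_form h hb
    obtain ⟨c, d, hcd⟩ := hu
    rw [hk, hcd, TH_conj, T_inv] at hinv
    obtain ⟨hc', hd'⟩ := T_injective h hinv
    have hsq : g * g = 1 := by
      by_cases hc0 : c = 0
      · have : t * t = 1 := by rw [hcd, hc0, T_sq, θ_zero, zero_mul, T_zero]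
        rw [show g * g = u⁻¹ * (t * t) * u by rw [ht]; group, this]
        group
      · exfalso
        have hk1 : (k : F) = 1 := mul_right_cancel₀ hc0 (hc'.trans (one_mul c).symm)
        rw [hk1, one_mul, θ_one, one_mul, one_mul] at hd'
        have hθc := θ_ne_zero m hc0
        apply h.add_θ_ne_one (a / c)
        rw [θ_div]
        field_simp
        linear_combination hd'
    exact orderOf_eq_prime_iff.mpr ⟨by rw [pow_two, hsq], h1⟩
  · intro ho
    have : g⁻¹ = g := inv_eq_of_mul_eq_one_left (by rw [← pow_two, ← ho, pow_orderOf_eq_one])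
    rw [this]

/-! ### The torus -/

/-- The torus. -/
def torus : Subgroup (Cfsg.Sz F m) := (HHom h).range

theorem mem_torus {g : Cfsg.Sz F m} : g ∈ torus h ↔ ∃ k, g = H h k :=
  ⟨fun ⟨k, hk⟩ => ⟨k, hk.symm⟩, fun ⟨k, hk⟩ => ⟨k, hk.symm⟩⟩

theorem card_torus : Nat.card (torus h) = 2 ^ (2 * m + 1) - 1 := by
  rw [← h.card_units_natCard]
  exact (Nat.card_congr (MonoidHom.ofInjective (f := HHom h) (H_injective h)).toEquiv).symm

theorem isCyclic_torus : IsCyclic (torus h) :=
  isCyclic_of_surjective (HHom h).rangeRestrict (MonoidHom.rangeRestrict_surjective _)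

theorem H_fix_eq {k : Fˣ} (hk : k ≠ 1) {p : Projectivization F (Fin 4 → F)}
    (hp : p ∈ Cfsg.suzukiOvoid F m) (e : H h k • p = p) :
    p = Cfsg.suzukiPointInfinity F ∨ p = pt m 0 0 := by
  by_contra hne
  push Not at hne
  have := fix_three h pinf_mem (pt_mem (m := m) (0 : F) 0) hp (pt_ne_pinf _ _).symm hne.2.symm hne.1.symm
    (H_smul_pinf h k) (H_smul_pt_zero h k) e
  exact hk (H_injective h (this.trans (H_one h).symm))

theorem units_sq_eq_one {k : Fˣ} (e : k * k = 1) : k = 1 := by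
  apply Units.ext
  have e' : ((k : F) + 1) * ((k : F) + 1) = 0 := by
    have : (k : F) * k = 1 := by rw [← Units.val_mul, e, Units.val_one]
    linear_combination this + ((k : F) + 1) * h.two_eq_zero
  exact (h.eq_iff_add_eq_zero _ _).mpr (mul_self_eq_zero.mp e')

theorem centralizer_H {k : Fˣ} (hk : k ≠ 1) : Subgroup.centralizer {H h k} = torus h := by
  apply le_antisymm
  · intro g hg
    rw [Subgroup.mem_centralizer_singleton_iff] at hg
    have perm : ∀ p ∈ Cfsg.suzukiOvoid F m, H h k • p = p →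
        g • p = Cfsg.suzukiPointInfinity F ∨ g • p = pt m 0 0 := fun p hp e => by
      refine H_fix_eq h hk (smul_mem_ovoid g hp) ?_
      rw [← mul_smul, ← hg, mul_smul, e]
    have hi := perm _ pinf_mem (H_smul_pinf h k)
    have hz := perm _ (pt_mem (m := m) (0 : F) 0) (H_smul_pt_zero h k)
    have hne : g • Cfsg.suzukiPointInfinity F ≠ g • pt m (0 : F) 0 := fun e =>
      (pt_ne_pinf (m := m) (0 : F) 0).symm (smul_left_cancel g e)
    rcases hi with hi | hi
    · rcases hz with hz | hz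
      · exact absurd (hi.trans hz.symm) hne
      · exact (mem_torus h).mpr (fix_two h hi hz)
    · rcases hz with hz | hz
      · obtain ⟨l, hl⟩ := fix_two h (g := W h * g) (by rw [mul_smul, hi, W_smul_pt_zero])
          (by rw [mul_smul, hz, W_smul_pinf])
        exfalso
        have hg' : g = W h * H h l := by rw [← hl, ← mul_assoc, W_mul_self, one_mul]
        apply hk
        have : H h k⁻¹ = H h k := by
          have e1 : W h * H h l * H h k = H h k * (W h * H h l) := by rw [← hg', hg]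
          rw [mul_assoc, ← H_mul, mul_comm l k, H_mul, ← mul_assoc, ← mul_assoc] at e1
          rw [← W_conj_H, mul_right_cancel e1, mul_assoc, W_mul_self, mul_one]
        exact units_sq_eq_one h (by nth_rw 1 [← H_injective h this]; exact inv_mul_cancel k)
      · exact absurd (hi.trans hz.symm) hne
  · intro g hg
    obtain ⟨l, rfl⟩ := (mem_torus h).mp hg
    rw [Subgroup.mem_centralizer_singleton_iff, ← H_mul, ← H_mul, mul_comm]

theorem card_normalizer_torus_le :
    ∀ g ∈ Subgroup.normalizer (torus h : Set (Cfsg.Sz F m)), g ∈ torus h ∨ W h * g ∈ torus h := by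
  intro g hg
  obtain ⟨k, hk⟩ : ∃ k : Fˣ, k ≠ 1 := by
    by_contra hall
    push Not at hall
    have : Subsingleton Fˣ := ⟨fun x y => (hall x).trans (hall y).symm⟩
    have h1 := h.card_units_natCard
    rw [Nat.card_unique, ← h.card] at h1
    have := h.eight_le_card
    omega
  obtain ⟨l, hl⟩ := (mem_torus h).mp ((Subgroup.mem_normalizer_iff.mp hg _).mp ⟨k, rfl⟩)
  replace hl : g * H h k * g⁻¹ = H h l := hl
  have hl1 : l ≠ 1 := by
    rintro rfl
    rw [H_one, conj_eq_one_iff, ← H_one h] at hl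
    exact hk (H_injective h hl)
  have perm : ∀ p ∈ Cfsg.suzukiOvoid F m, H h k • p = p →
      g • p = Cfsg.suzukiPointInfinity F ∨ g • p = pt m 0 0 := fun p hp e => by
    refine H_fix_eq h hl1 (smul_mem_ovoid g hp) ?_
    rw [← hl, mul_smul, mul_smul, inv_smul_smul, e]
  have hi := perm _ pinf_mem (H_smul_pinf h k)
  have hz := perm _ (pt_mem (m := m) (0 : F) 0) (H_smul_pt_zero h k)
  have hne : g • Cfsg.suzukiPointInfinity F ≠ g • pt m (0 : F) 0 := fun e =>
    (pt_ne_pinf (m := m) (0 : F) 0).symm (smul_left_cancel g e)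
  rcases hi with hi | hi <;> rcases hz with hz | hz
  · exact absurd (hi.trans hz.symm) hne
  · exact Or.inl ((mem_torus h).mpr (fix_two h hi hz))
  · exact Or.inr ((mem_torus h).mpr (fix_two h (g := W h * g) (by rw [mul_smul, hi, W_smul_pt_zero])
      (by rw [mul_smul, hz, W_smul_pinf])))
  · exact absurd (hi.trans hz.symm) hne

/-! ### The Borel subgroup is the only maximal subgroup over the root group -/

theorem le_borel_of_ne_top {M : Subgroup (Cfsg.Sz F m)} (hR : rootGroup h ≤ M) (hM : M ≠ ⊤) :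
    M ≤ borel F m := by
  by_contra hMB
  obtain ⟨n, hn, hnB⟩ := SetLike.not_le_iff_exists.mp hMB
  obtain ⟨x', y', e'⟩ : ∃ x y, n • Cfsg.suzukiPointInfinity F = pt m x y := by
    rcases mem_ovoid.mp (smul_mem_ovoid n (pinf_mem (F := F) (m := m))) with e | e
    · exact absurd e hnB
    · exact e
  have htrans : ∀ g : Cfsg.Sz F m, ∃ u ∈ M, u⁻¹ * g ∈ borel F m := by
    intro g
    by_cases hg : g ∈ borel F m
    · exact ⟨1, M.one_mem, by simpa using hg⟩
    · obtain ⟨x, y, e⟩ : ∃ x y, g • Cfsg.suzukiPointInfinity F = pt m x y := by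
        rcases mem_ovoid.mp (smul_mem_ovoid g (pinf_mem (F := F) (m := m))) with e | e
        · exact absurd e hg
        · exact e
      refine ⟨T h x y * (T h x' y')⁻¹ * n,
        M.mul_mem (M.mul_mem (hR ⟨_, _, rfl⟩) (M.inv_mem (hR ⟨_, _, rfl⟩))) hn, ?_⟩
      rw [MulAction.mem_stabilizer_iff, mul_smul, inv_smul_eq_iff, e, mul_smul, mul_smul, e',
        ← T_smul_pt_zero h x' y', inv_smul_smul, T_smul_pt_zero]
  have hnorm : Subgroup.normalClosure (rootGroup h : Set (Cfsg.Sz F m)) ≤ M := by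
    rw [Subgroup.normalClosure, Subgroup.closure_le]
    intro z hz
    obtain ⟨t, ht, htz⟩ := Group.mem_conjugatesOfSet_iff.mp hz
    obtain ⟨g, rfl⟩ := isConj_iff.mp htz
    obtain ⟨u, hu, hub⟩ := htrans g
    have h1 : (u⁻¹ * g) * t * (u⁻¹ * g)⁻¹ ∈ M :=
      hR ((Subgroup.mem_normalizer_iff.mp (borel_le_normalizer h hub) t).mp ht)
    have h2 := M.mul_mem (M.mul_mem hu h1) (M.inv_mem hu)
    convert! h2 using 1
    group
  have := isSimple h
  rcases Subgroup.normalClosure_normal.eq_bot_or_eq_top (H := Subgroup.normalClosure (rootGroup h : Set (Cfsg.Sz F m))) with e | e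
  · have := Subgroup.subset_normalClosure (s := (rootGroup h : Set (Cfsg.Sz F m))) (⟨0, 1, rfl⟩ : T h 0 1 ∈ rootGroup h)
    rw [e] at this
    exact one_ne_zero ((eq_one_iff_T h).mp (Subgroup.mem_bot.mp this)).2
  · exact hM (eq_top_iff.mpr (e ▸ hnorm))

theorem borel_ne_top : borel F m ≠ ⊤ := fun e => exists_factor_not_borel h (e ▸ Subgroup.mem_top _)

theorem isCoatom_borel : IsCoatom (borel F m) := by
  refine ⟨borel_ne_top h, fun M hM => ?_⟩
  by_contra hne
  exact hM.not_ge (le_borel_of_ne_top h ((rootGroup_le_borel h).trans hM.le) hne)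

end Cfsg.Agent.Suzuki
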