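import Cfsg.Agent.Lib.Suzuki.SubgroupBorel
import Mathlib.FieldTheory.Finite.GaloisField

/-! Non-solvable subgroups of Suzuki groups are subfield subgroups. -/

set_option autoImplicit false

namespace Cfsg.Agent.Suzuki

open scoped Pointwise

variable {F : Type*} [Field F] [Fintype F] {m : ℕ} (h : SzField F m) (M : Subgroup (Cfsg.Sz F m))

local notation "pinfty" => Cfsg.suzukiPointInfinity F

include h

theorem conjSub_not_solvable (hns : ¬ Group.IsSolvable M) (g : Cfsg.Sz F m) :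
    ¬ Group.IsSolvable (conjSub g M) := fun hs => hns <| by
  let e := M.equivMapOfInjective (MulAut.conj g).toMonoidHom (MulAut.conj g).injective
  exact Group.isSolvable_of_isSolvable_injective (f := e.toMonoidHom) e.injective

/-- Move a non-solvable subgroup into normal position. -/
theorem exists_normal_position (hns : ¬ Group.IsSolvable M) :
    ∃ g, T h 0 1 ∈ conjSub g M ∧ ∀ k ∈ coordK h (conjSub g M), H h k ∈ conjSub g M := by
  classical
  obtain ⟨t, ht, ot⟩ := exists_involution_mem h M hns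
  obtain ⟨u, hu⟩ := isConj_iff.mp (involutions_conj h ot (orderOf_T_zero h one_ne_zero))
  set M1 := conjSub u M
  have hT1 : T h 0 1 ∈ M1 := ⟨t, ht, hu⟩
  have hns1 : ¬ Group.IsSolvable M1 := conjSub_not_solvable h M hns u
  -- a generator of the torus part
  obtain ⟨⟨k0, a, b, hab⟩, hgen⟩ := IsCyclic.exists_generator (α := coordK h M1)
  by_cases hk0 : k0 = 1
  · refine ⟨u, hT1, fun k hk => ?_⟩
    obtain ⟨i, hi⟩ := Subgroup.mem_zpowers_iff.mp (hgen ⟨k, hk⟩)
    have : k = 1 := by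
      have := congrArg Subtype.val hi
      simp only [SubgroupClass.coe_zpow, hk0, one_zpow] at this
      exact this.symm
    rw [this, H_one]; exact M1.one_mem
  set y := T h a b * H h k0 with hy
  have hyB : y ∈ borel F m := (borel F m).mul_mem (T_mem_borel h a b) (H_mem_borel h k0)
  have hy1 : y ≠ 1 := fun e => hk0 (TH_unique h (a := a) (b := b) (c := 0) (d := 0) (k := k0) (l := 1)
    (by rw [T_zero, H_one, one_mul]; exact e)).2.2
  obtain ⟨w, l, hw⟩ : ∃ w l, w * y * w⁻¹ = H h l := by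
    rcases classify h hy1 with ⟨w, hw⟩ | ⟨w, hw⟩ | ⟨C, hC, hyC⟩
    · exfalso
      have h4 := pow_four_of_conj_root h hw
      obtain ⟨c, d, e⟩ := borel_two_elt h hyB (n := 2) h4
      exact hk0 (TH_unique h (a := a) (b := b) (c := c) (d := d) (k := k0) (l := 1)
        (by rw [H_one, mul_one]; exact e)).2.2
    · obtain ⟨l, hl⟩ := (mem_torus h).mp hw
      exact ⟨w, l, hl⟩
    · exact absurd (fixFree_of_mem_member h hC hyC hy1) (not_fixFree_of_conj_borel h (u := 1) (by simpa using hyB))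
  have hl1 : l ≠ 1 := fun e => hy1 (by rw [e, H_one, conj_eq_one_iff] at hw; exact hw)
  -- the second fixed point
  obtain ⟨p, hp, hpy, hpne⟩ : ∃ p ∈ Cfsg.suzukiOvoid F m, y • p = p ∧ p ≠ pinfty := by
    have hyw : ∀ r : Projectivization F (Fin 4 → F), H h l • r = r → y • (w⁻¹ • r) = w⁻¹ • r := fun r er => by
      rwa [← hw, mul_smul, mul_smul, ← eq_inv_smul_iff] at er
    by_cases e : w⁻¹ • pinfty = pinfty
    · refine ⟨w⁻¹ • pt m (0 : F) 0, smul_mem_ovoid _ (pt_mem _ _), hyw _ (H_smul_pt_zero h l), fun e' => ?_⟩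
      exact pt_ne_pinf 0 0 (smul_left_cancel w⁻¹ (e'.trans e.symm))
    · exact ⟨w⁻¹ • pinfty, smul_mem_ovoid _ pinf_mem, hyw _ (H_smul_pinf h l), e⟩
  obtain ⟨c, d, rfl⟩ := (mem_ovoid.mp hp).resolve_left hpne
  set x := (T h c d)⁻¹ with hx
  have hxy : x * y * x⁻¹ = H h k0 := by
    obtain ⟨l', hl'⟩ := fix_two h (g := x * y * x⁻¹)
      ((borel F m).mul_mem ((borel F m).mul_mem ((borel F m).inv_mem (T_mem_borel h c d)) hyB)
        ((borel F m).inv_mem ((borel F m).inv_mem (T_mem_borel h c d))))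
      (by rw [hx, inv_inv, mul_smul, mul_smul, T_smul_pt_zero, hpy, inv_smul_eq_iff, T_smul_pt_zero])
    obtain ⟨p, r, e⟩ : ∃ p r, x * T h a b * (H h k0 * x⁻¹ * (H h k0)⁻¹) = T h p r :=
      ⟨_, _, by rw [hx, inv_inv, H_conj_T, T_inv, T_mul, T_mul]⟩
    have e2 : T h p r * H h k0 = T h 0 0 * H h l' := by
      rw [T_zero, one_mul, ← hl', hy, ← e]; group
    rw [hl', (TH_unique h e2).2.2]
  refine ⟨x * u, ?_⟩
  have hmem : ∀ g, g ∈ conjSub (x * u) M ↔ x⁻¹ * g * x ∈ M1 := fun g => by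
    simp only [M1, mem_conjSub, mul_inv_rev, mul_assoc]
  have hT' : T h 0 1 ∈ conjSub (x * u) M := by
    rw [hmem, hx, inv_inv, show T h c d * T h 0 1 * (T h c d)⁻¹ = T h 0 1 by
      rw [← T_zero_central, mul_inv_cancel_right]]
    exact hT1
  refine ⟨hT', fun k hk => ?_⟩
  obtain ⟨p, r, hk'⟩ := hk
  rw [hmem] at hk'
  obtain ⟨p', r', e⟩ : ∃ p' r', x⁻¹ * T h p r * (H h k * x * (H h k)⁻¹) = T h p' r' :=
    ⟨_, _, by rw [hx, inv_inv, T_inv, H_conj_T, T_mul, T_mul]⟩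
  have hkK : k ∈ coordK h M1 := ⟨p', r', by
    rw [← e]
    convert! hk' using 1
    group⟩
  obtain ⟨i, hi⟩ := Subgroup.mem_zpowers_iff.mp (hgen ⟨k, hkK⟩)
  have hki : k0 ^ i = k := by
    have := congrArg Subtype.val hi
    simpa using this
  rw [← hki, show H h (k0 ^ i) = H h k0 ^ i from map_zpow (HHom h) k0 i]
  refine Subgroup.zpow_mem _ ?_ i
  rw [← hxy, hmem, show x⁻¹ * (x * y * x⁻¹) * x = y by group]
  exact hab

theorem torus_inter {hA : ∀ k ∈ coordK h M, H h k ∈ M} :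
    Nat.card ↥(M ⊓ torus h) = Nat.card (coordK h M) := by
  symm
  refine Nat.card_eq_of_bijective (fun k : coordK h M =>
    (⟨H h k, hA _ k.2, (mem_torus h).mpr ⟨_, rfl⟩⟩ : ↥(M ⊓ torus h))) ⟨?_, ?_⟩
  · exact fun k l e => Subtype.ext (H_injective h (congrArg Subtype.val e))
  · rintro ⟨g, hg, hg'⟩
    obtain ⟨k, rfl⟩ := (mem_torus h).mp hg'
    exact ⟨⟨k, 0, 0, by rw [T_zero, one_mul]; exact hg⟩, rfl⟩

/-- The decisive counting step. -/
theorem double_transitive (hns : ¬ Group.IsSolvable M) (hT : T h 0 1 ∈ M)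
    (hA : ∀ k ∈ coordK h M, H h k ∈ M) :
    8 ≤ Nat.card (coordU h M) ∧ (∀ a b, T h a b ∈ M ↔ a ∈ coordU h M ∧ b ∈ coordU h M) ∧
      (∃ l : Fˣ, W h * H h l ∈ M) ∧
      (MulAction.orbit M pinfty).ncard = Nat.card (coordU h M) ^ 2 + 1 := by
  classical
  obtain ⟨hcard, hU, hK⟩ := coord_facts h M hns hT
  obtain ⟨e, hQe, hodd, hed⟩ := exists_exponent h M hns hT
  set U := coordU h M
  set Q := Nat.card U with hQ
  set t := Nat.card ↥(M ⊓ rootGroup h) with ht
  set N := (MulAction.orbit M pinfty).ncard with hN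
  have hg : Nat.card M = N * (t * Nat.card (coordK h M)) := by
    rw [card_eq_orbit_mul h M, card_borel_part h M hA]
  obtain ⟨n, a, w, s, hsum, hs, hP, hcop, htor⟩ := exists_torus_classes h M hns
  rw [ncard_two_elts h M hns hT] at hsum
  have hN1 : N ≠ 1 := fun e1 => by
    obtain ⟨g, hg, hgp⟩ := not_fix_point h M hns pinf_mem
    obtain ⟨p, hp⟩ := Set.ncard_eq_one.mp e1
    have h1 : g • pinfty ∈ MulAction.orbit M pinfty := ⟨⟨g, hg⟩, rfl⟩
    have h2 : pinfty ∈ MulAction.orbit M pinfty := MulAction.mem_orbit_self _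
    rw [hp, Set.mem_singleton_iff] at h1 h2
    exact hgp (h1.trans h2.symm)
  have hN0 : 0 < N := (Set.ncard_pos (Set.toFinite _)).mpr ⟨_, MulAction.mem_orbit_self _⟩
  have hrp := rootPart h M hns hT hA
  by_cases he1 : e = 1
  · exfalso
    subst he1
    have hQ2 : Q = 2 := by rw [hQe]; rfl
    have hK1 : Nat.card (coordK h M) = 1 := by omega
    rw [hK1, mul_one] at hg
    have ht24 : t = 2 ∧ (∀ x ∈ M, x ^ 4 = 1 → x ^ 2 = 1) ∨ t = 4 := by
      rcases hrp with ⟨e', hel⟩ | ⟨e', -⟩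
      · exact Or.inl ⟨e'.trans hQ2, hel⟩
      · exact Or.inr (by rw [ht, e', ← hQ, hQ2]; rfl)
    refine Arith.small_case (N := N) (t := t) (g := Nat.card M) (by rcases ht24 with ⟨e', -⟩ | e' <;> tauto)
      hg hN1 hN0 hsum hs (fun i => (hP i).2.1) (fun i => (hP i).2.2.1) ?_ (fun i => (hP i).2.2.2.2.1)
    intro e' i
    rcases ht24 with ⟨-, hel⟩ | e''
    · exact (hP i).2.2.2.2.2 hel
    · omega
  have he3 : 3 ≤ e := by obtain ⟨j, rfl⟩ := hodd; omega
  have hQ8 : 8 ≤ Q := by rw [hQe]; exact le_trans (by norm_num) (Nat.pow_le_pow_right two_pos he3)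
  have hne : M ⊓ torus h ≠ ⊥ := fun e' => by
    have h1 : Nat.card ↥(M ⊓ torus h) = 1 := by rw [e']; exact Subgroup.card_bot
    rw [torus_inter h M (hA := hA)] at h1
    omega
  obtain ⟨i₀, hi₀, hw₀⟩ := htor (torus h) 2 (torType_torus h) hne
  rw [torus_inter h M (hA := hA)] at hi₀
  obtain ⟨w', hw'd, hw'c, -⟩ := exists_weight h M (torType_torus h) hne
  rw [torus_inter h M (hA := hA)] at hw'c
  have hapos : 0 < a i₀ := by have := (hP i₀).2.1; omega
  have hw₀' : w i₀ = w' := by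
    rw [hw'c, ← hi₀] at hw₀
    exact Nat.eq_of_mul_eq_mul_right hapos hw₀
  have hswapex : w i₀ = 2 → ∃ l : Fˣ, W h * H h l ∈ M := fun e2 => by
    have hlt : Nat.card ↥(M ⊓ torus h) < Nat.card ↥(M ⊓ Subgroup.normalizer (torus h : Set (Cfsg.Sz F m))) := by
      rw [torus_inter h M (hA := hA), ← hw₀, e2, hi₀]; omega
    obtain ⟨y, hy, hy'⟩ : ∃ y ∈ M ⊓ Subgroup.normalizer (torus h : Set (Cfsg.Sz F m)), y ∉ torus h := by
      by_contra hcon
      push Not at hcon
      have hle : M ⊓ Subgroup.normalizer (torus h : Set (Cfsg.Sz F m)) ≤ M ⊓ torus h :=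
        fun y hy => ⟨hy.1, hcon y hy⟩
      exact absurd (Subgroup.card_le_of_le hle) (not_le.mpr hlt)
    obtain ⟨l, hl⟩ := (mem_torus h).mp ((card_normalizer_torus_le h y hy.2).resolve_left hy')
    exact ⟨l, by rw [← hl, ← mul_assoc, W_mul_self, one_mul]; exact hy.1⟩
  have hswap : w i₀ = 2 → t + 1 ≤ N := fun e2 => by
    obtain ⟨l, hl⟩ := hswapex e2
    have h0 : pt m (0 : F) 0 ∈ MulAction.orbit M pinfty := ⟨⟨_, hl⟩, by
      show (W h * H h l) • pinfty = _
      rw [mul_smul, H_smul_pinf, W_smul_pinf]⟩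
    let f : Option ↥(M ⊓ rootGroup h) → ↥(MulAction.orbit M pinfty) := fun o => o.elim
      ⟨pinfty, MulAction.mem_orbit_self _⟩
      fun x => ⟨(x : Cfsg.Sz F m) • pt m (0 : F) 0, by
        obtain ⟨g, hg⟩ := h0
        exact ⟨⟨x.1, x.2.1⟩ * g, by simp only [mul_smul]; rw [show g • pinfty = pt m 0 0 from hg]; rfl⟩⟩
    have hf : Function.Injective f := by
      have hval : ∀ x : ↥(M ⊓ rootGroup h), ∃ a b, x.1 = T h a b ∧ x.1 • pt m (0 : F) 0 = pt m a b := fun x => by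
        obtain ⟨a, b, e⟩ := x.2.2; exact ⟨a, b, e, by rw [e, T_smul_pt_zero]⟩
      rintro (_ | x) (_ | y) e'
      · rfl
      · obtain ⟨a, b, -, ey⟩ := hval y
        exact absurd (ey.symm.trans (congrArg Subtype.val e').symm) (pt_ne_pinf _ _)
      · obtain ⟨a, b, -, ex⟩ := hval x
        exact absurd (ex.symm.trans (congrArg Subtype.val e')) (pt_ne_pinf _ _)
      · obtain ⟨a, b, ea, ex⟩ := hval x
        obtain ⟨c, d, ec, ey⟩ := hval y
        obtain ⟨rfl, rfl⟩ := pt_inj (ex.symm.trans ((congrArg Subtype.val e').trans ey))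
        exact congrArg some (Subtype.ext (ea.trans ec.symm))
    have := Nat.card_le_card_of_injective f hf
    have hc : Nat.card (Option ↥(M ⊓ rootGroup h)) = t + 1 := by
      have : Fintype ↥(M ⊓ rootGroup h) := Fintype.ofFinite _
      rw [ht, Nat.card_eq_fintype_card, Nat.card_eq_fintype_card, Fintype.card_option]
    rwa [hc, Nat.card_coe_set_eq] at this
  have htQ : t = Q ∨ t = Q ^ 2 := by rcases hrp with ⟨e', -⟩ | ⟨e', -⟩ <;> tauto
  obtain ⟨htsq, hNt, hw2⟩ := Arith.large_case (N := N) (t := t) (g := Nat.card M) hQe hodd hQ8 hcard htQ hg hN1 hN0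
    (orbit_sub_one_dvd h M) (fun hd => three_not_dvd h (hd.trans (Subgroup.card_subgroup_dvd_card M))) hsum hs
    (fun i => ⟨(hP i).1, (hP i).2.1, (hP i).2.2.1, (hP i).2.2.2.1⟩)
    (fun e' i => by
      rcases hrp with ⟨-, hel⟩ | ⟨e'', -⟩
      · exact (hP i).2.2.2.2.2 hel
      · exfalso
        rw [← ht, e', ← hQ, sq] at e''
        nlinarith)
    hcop i₀ hi₀ (hw₀' ▸ hw'd) hswap
  refine ⟨hQ8, ?_, hswapex hw2, by rw [hNt, htsq]⟩
  rcases hrp with ⟨e', -⟩ | ⟨-, hiff⟩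
  · exfalso
    rw [← ht, htsq, ← hQ, sq] at e'
    nlinarith
  · exact hiff (by rw [← hQ]; omega)

/-- A non-solvable proper subgroup in normal position lies in a subfield subgroup. -/
theorem le_subfield_of_normal_position (hMtop : M ≠ ⊤) (hns : ¬ Group.IsSolvable M) (hT : T h 0 1 ∈ M)
    (hA : ∀ k ∈ coordK h M, H h k ∈ M) :
    ∃ (k : ℕ) (_ : 1 ≤ k) (_ : k < m) (hd : 2 * k + 1 ∣ 2 * m + 1),
      ∀ (K : Type) [Field K] [Fintype K] (hK : SzField K k) (f : K →+* F), M ≤ (emb h hK hd f).range := by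
  obtain ⟨hQ8, hTiff, ⟨l, hl⟩, hN⟩ := double_transitive h M hns hT hA
  obtain ⟨hcard, hU, hK'⟩ := coord_facts h M hns hT
  obtain ⟨hmul, hcl, hsqrt⟩ := coordU_closed h M hns hT
  obtain ⟨e, hQe, ⟨k, rfl⟩, hd⟩ := exists_exponent h M hns hT
  set U := coordU h M
  set Q := Nat.card U with hQ
  have hk1 : 1 ≤ k := by
    by_contra hk; rw [show k = 0 by omega] at hQe; norm_num at hQe; omega
  have hkm : k < m := by
    have hle := Nat.le_of_dvd (by omega) hd
    refine lt_of_le_of_ne (by omega) fun e => hns ?_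
    have hall : ∀ x : F, x ∈ U := fun x => by rw [hU, hQe, e, ← h.card, FiniteField.pow_card]
    have := le_borel_of_ne_top h (M := M) (by rintro _ ⟨a, b, rfl⟩; exact (hTiff a b).mpr ⟨hall a, hall b⟩) hMtop
    have := isSolvable_stabilizer h (p := pinfty) pinf_mem
    exact Group.isSolvable_of_isSolvable_injective (Subgroup.inclusion_injective ‹M ≤ borel F m›)
  -- the orbit
  have h0 : pt m (0 : F) 0 ∈ MulAction.orbit M pinfty := ⟨⟨_, hl⟩, by
    show (W h * H h l) • pinfty = _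
    rw [mul_smul, H_smul_pinf, W_smul_pinf]⟩
  have hO : MulAction.orbit M pinfty = insert pinfty ((fun p : F × F => pt m p.1 p.2) '' ((U : Set F) ×ˢ (U : Set F))) := by
    refine (Set.eq_of_subset_of_ncard_le ?_ ?_).symm
    · rintro _ (rfl | ⟨⟨a, b⟩, ⟨ha, hb⟩, rfl⟩)
      · exact MulAction.mem_orbit_self _
      · obtain ⟨g, hg⟩ := h0
        refine ⟨⟨T h a b, (hTiff a b).mpr ⟨ha, hb⟩⟩ * g, ?_⟩
        simp only [mul_smul]
        rw [show g • pinfty = pt m 0 0 from hg]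
        exact T_smul_pt_zero h a b
    · rw [hN, Set.ncard_insert_of_notMem (by rintro ⟨⟨a, b⟩, -, e⟩; exact pt_ne_pinf a b e),
        Set.ncard_image_of_injective _ (fun p r e => Prod.ext (pt_inj e).1 (pt_inj e).2), Set.ncard_prod,
        ← Nat.card_coe_set_eq, sq]
      rfl
  have hcoord : ∀ a b, pt m a b ∈ MulAction.orbit M pinfty → a ∈ U ∧ b ∈ U := fun a b hab => by
    rw [hO] at hab
    rcases hab with e | ⟨⟨c, d⟩, ⟨hc, hd⟩, e⟩
    · exact absurd e (pt_ne_pinf a b)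
    · obtain ⟨rfl, rfl⟩ := pt_inj e; exact ⟨hc, hd⟩
  -- the swapping element is rational
  have hlU : (l : F) ∈ U := by
    obtain ⟨β, hβ⟩ : ∃ β, β = θ m (l : F) * l := ⟨_, rfl⟩
    have hβ0 : β ≠ 0 := hβ ▸ mul_ne_zero (θ_ne_zero m l.ne_zero) l.ne_zero
    set z := fz m (0 : F) β with hzdef
    have hz0 : z ≠ 0 := fun e => hβ0 (h.fz_eq_zero e).2
    have hzv : z = θ m β := by rw [hzdef, fz_eq, zero_mul, θ_zero, zero_mul, add_zero, zero_add]
    have hW : W h • pt m (0 : F) β = pt m (β / z) (0 / z) := by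
      exact wEl_smul_pt h hz0
    have hmem : (W h * H h l) • pt m (0 : F) 1 ∈ MulAction.orbit M pinfty := by
      obtain ⟨g, hg⟩ := h0
      refine ⟨⟨_, hl⟩ * (⟨T h 0 1, hT⟩ * g), ?_⟩
      simp only [mul_smul]
      rw [show g • pinfty = pt m 0 0 from hg]
      show (W h * H h l) • T h 0 1 • pt m (0 : F) 0 = _
      rw [T_smul_pt_zero, mul_smul]
    rw [mul_smul, H_smul_pt, mul_zero, mul_one, ← hβ, hW] at hmem
    have h1 := (hcoord _ _ hmem).1
    rw [hzv] at h1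
    -- `β / θ β` lies in the subfield
    rw [hU] at h1
    refine hsqrt _ ?_
    rw [hU, ← hβ]
    rw [div_pow, ← θ_pow, div_eq_div_iff (θ_ne_zero m (pow_ne_zero _ hβ0)) (θ_ne_zero m hβ0)] at h1
    obtain ⟨ρ, hρ0⟩ : ∃ ρ, β ^ Q = ρ * β := ⟨β ^ Q / β, (div_mul_cancel₀ _ hβ0).symm⟩
    rw [hρ0, θ_mul] at h1
    have hρ : θ m ρ = ρ := by
      have : (θ m ρ - ρ) * (θ m β * β) = 0 := by linear_combination -h1
      exact sub_eq_zero.mp ((mul_eq_zero.mp this).resolve_right (mul_ne_zero (θ_ne_zero m hβ0) hβ0))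
    rcases h.θ_eq_self hρ with e | e
    · exact absurd (by rw [hρ0, e, zero_mul] : β ^ Q = 0) (pow_ne_zero _ hβ0)
    · rw [hρ0, e, one_mul]
  refine ⟨k, hk1, hkm, hd, fun K _ _ hK f => ?_⟩
  have himg : ∀ x ∈ U, x ∈ Set.range f := by
    have hle : Set.range f ⊆ (U : Set F) := by
      rintro _ ⟨x, rfl⟩
      show f x ∈ U
      rw [hU, hQe, ← map_pow, ← hK.card, FiniteField.pow_card]
    have heq := Set.eq_of_subset_of_ncard_le hle (by
      rw [Set.ncard_range_of_injective f.injective, Nat.card_eq_fintype_card, hK.card, ← Nat.card_coe_set_eq]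
      exact hQe.le)
    exact fun x hx => heq ▸ hx
  have hTr : ∀ a b, a ∈ U → b ∈ U → T h a b ∈ (emb h hK hd f).range := fun a b ha hb => by
    obtain ⟨a', rfl⟩ := himg a ha
    obtain ⟨b', rfl⟩ := himg b hb
    exact ⟨T hK a' b', emb_T h hK hd f a' b'⟩
  have hHr : ∀ j : Fˣ, (j : F) ∈ U → H h j ∈ (emb h hK hd f).range := fun j hj => by
    obtain ⟨j', hj'⟩ := himg _ hj
    have hj0 : j' ≠ 0 := fun e => j.ne_zero (by rw [← hj', e, map_zero])
    refine ⟨H hK (Units.mk0 j' hj0), ?_⟩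
    rw [emb_H]
    congr 1
    exact Units.ext hj'
  have hBr : ∀ g ∈ M, g • pinfty = pinfty → g ∈ (emb h hK hd f).range := fun g hg hgi => by
    obtain ⟨a, b, j, rfl⟩ := borel_form h (show g ∈ borel F m from hgi)
    have hj : j ∈ coordK h M := ⟨a, b, hg⟩
    have hab : T h a b ∈ M := by simpa [mul_assoc] using M.mul_mem hg (M.inv_mem (hA j hj))
    obtain ⟨ha, hb⟩ := (hTiff a b).mp hab
    exact Subgroup.mul_mem _ (hTr a b ha hb) (hHr j ((hK' j).mp hj))
  have hWr : W h * H h l ∈ (emb h hK hd f).range :=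
    Subgroup.mul_mem _ ⟨W hK, emb_W h hK hd f⟩ (hHr l hlU)
  intro g hg
  have h1 : g • pinfty ∈ MulAction.orbit M pinfty := ⟨⟨g, hg⟩, rfl⟩
  rw [hO] at h1
  rcases h1 with e' | ⟨⟨a, b⟩, ⟨ha, hb⟩, e'⟩
  · exact hBr g hg e'
  · set u := T h a b * (W h * H h l) with hu
    have huM : u ∈ M := M.mul_mem ((hTiff a b).mpr ⟨ha, hb⟩) hl
    have hui : (u⁻¹ * g) • pinfty = pinfty := by
      rw [mul_smul, inv_smul_eq_iff, ← e', hu, mul_smul, mul_smul, H_smul_pinf, W_smul_pinf, T_smul_pt_zero]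
    have := Subgroup.mul_mem _ (Subgroup.mul_mem _ (hTr a b ha hb) hWr)
      (hBr _ (M.mul_mem (M.inv_mem huM) hg) hui)
    rwa [← hu, mul_inv_cancel_left] at this

/-- Non-solvable proper subgroups lie in subfield subgroups. -/
theorem exists_subfield_subgroup (hMtop : M ≠ ⊤) (hns : ¬ Group.IsSolvable M) :
    ∃ (K : Type) (_ : Field K) (_ : Fintype K) (k : ℕ), 1 ≤ k ∧ k < m ∧ Fintype.card K = 2 ^ (2 * k + 1) ∧
      2 * k + 1 ∣ 2 * m + 1 ∧
      ∃ S : Subgroup (Cfsg.Sz F m), Nonempty (↥S ≃* ↥(Cfsg.Sz K k)) ∧ M ≤ S := by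
  obtain ⟨g, hT, hA⟩ := exists_normal_position h M hns
  have htop : conjSub g M ≠ ⊤ := fun e => hMtop <| eq_top_iff.mpr fun x _ => by
    have : g * x * g⁻¹ ∈ conjSub g M := e ▸ Subgroup.mem_top _
    rw [mem_conjSub] at this
    simpa [mul_assoc] using this
  obtain ⟨k, hk1, hkm, hd, hle⟩ :=
    le_subfield_of_normal_position h _ htop (conjSub_not_solvable h M hns g) hT hA
  have : Fact (Nat.Prime 2) := ⟨Nat.prime_two⟩
  let K := GaloisField 2 (2 * k + 1)
  let : Fintype K := Fintype.ofFinite K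
  have hcK : Fintype.card K = 2 ^ (2 * k + 1) := by
    rw [← Nat.card_eq_fintype_card]; exact GaloisField.card 2 _ (by omega)
  have hK : SzField K k := ⟨hk1, hcK⟩
  obtain ⟨f⟩ := exists_ringHom h hK hd
  refine ⟨K, inferInstance, inferInstance, k, hk1, hkm, hcK, hd, conjSub g⁻¹ (emb h hK hd f).range, ⟨?_⟩, ?_⟩
  · exact ((MonoidHom.ofInjective (emb_injective h hK hd f)).trans
      ((emb h hK hd f).range.equivMapOfInjective _ (MulAut.conj g⁻¹).injective)).symm
  · intro x hx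
    rw [mem_conjSub, inv_inv]
    exact hle K hK f ⟨x, hx, rfl⟩

end Cfsg.Agent.Suzuki
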