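import Cfsg.Agent.Lib.Suzuki.Trace

/-! The square of a class of elements of order greater than two covers the non-identity elements. -/

set_option autoImplicit false

namespace Cfsg.Agent.Suzuki

variable {F : Type*} [Field F] [Fintype F] {m : ℕ} (h : SzField F m)

/-- The hyperplane of elements `θ s + s`. -/
def hyp : AddSubgroup F :=
  (AddMonoidHom.mk' (fun s : F => θ m s + s) fun s t => by rw [h.θ_add]; ring).range

include h

theorem mem_hyp {x : F} : x ∈ hyp h ↔ ∃ s, θ m s + s = x := Iff.rfl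

theorem θ_add_self_mem (s : F) : θ m s + s ∈ hyp h := ⟨s, rfl⟩

theorem one_notMem_hyp : (1 : F) ∉ hyp h := by
  rintro ⟨s, hs⟩
  exact h.add_θ_ne_one s (by rw [add_comm]; exact hs)

theorem hyp_index : (hyp h).index = 2 := by
  classical
  let L : F →+ F := AddMonoidHom.mk' (fun s => θ m s + s) fun s t => by rw [h.θ_add]; ring
  have hker : Nat.card L.ker = 2 := by
    let f : Bool → L.ker := fun t => ⟨if t then 1 else 0, by cases t <;> simp [L, AddMonoidHom.mem_ker, h.add_self]⟩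
    refine (Nat.card_eq_of_bijective f ⟨fun s t e => ?_, fun ⟨s, hs⟩ => ?_⟩).symm.trans (by simp)
    · have := congrArg Subtype.val e
      cases s <;> cases t <;> simp [f] at this ⊢
    · rcases h.θ_eq_self ((h.eq_iff_add_eq_zero _ _).mpr hs) with rfl | rfl
      · exact ⟨false, rfl⟩
      · exact ⟨true, rfl⟩
  have h1 := L.range.card_mul_index
  have h2 := L.ker.card_mul_index
  rw [AddSubgroup.index_ker, hker] at h2
  rw [← h2, mul_comm 2 (Nat.card L.range)] at h1
  exact Nat.eq_of_mul_eq_mul_left Nat.card_pos h1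

theorem mem_hyp_or (x : F) : x ∈ hyp h ∨ x + 1 ∈ hyp h := by
  by_cases hx : x ∈ hyp h
  · exact Or.inl hx
  · exact Or.inr ((AddSubgroup.add_mem_iff_of_index_two (hyp_index h)).mpr (iff_of_false hx (one_notMem_hyp h)))

/-- The quadratic map `y ↦ y + σ y r(y)` meets the complement of the hyperplane. -/
theorem exists_key {σ : F} (hσ : σ ≠ 0) : ∃ y : F, y ≠ 0 ∧ y + σ * (y * hθ m y) + 1 ∈ hyp h := by
  suffices hex : ∃ y : F, y + σ * (y * hθ m y) ∉ hyp h by
    obtain ⟨y, hy⟩ := hex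
    refine ⟨y, fun e => hy ?_, (mem_hyp_or h _).resolve_left hy⟩
    rw [e, zero_mul, mul_zero, add_zero]; exact (hyp h).zero_mem
  by_contra hcon
  push Not at hcon
  apply one_notMem_hyp h
  obtain ⟨a, c, hac⟩ := exists_comm_coord h (θ m (1 / σ))
  have hb : a * hθ m c + c * hθ m a = 1 / σ := h.θ_injective (by
    rw [h.θ_add, θ_mul, θ_mul, h.θ_hθ, h.θ_hθ]; exact hac)
  have h1 := (hyp h).add_mem ((hyp h).add_mem (hcon (a + c)) (hcon a)) (hcon c)
  rw [h.hθ_add] at h1
  convert! h1 using 1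
  have h2 : σ * (a * hθ m c + c * hθ m a) = 1 := by rw [hb]; field_simp
  linear_combination (-1 : F) * h2 - (a + c + σ * (a * hθ m a) + σ * (c * hθ m c)) * h.two_eq_zero

theorem exists_sqrt (z : F) : ∃ u, u ^ 2 = z :=
  ⟨z ^ 2 ^ (2 * m), by rw [← pow_mul, ← pow_succ, ← h.card, FiniteField.pow_card]⟩

/-- Multiplying the hyperplane by a scalar other than `0, 1` moves it. -/
theorem exists_smul_notMem {c : F} (h0 : c ≠ 0) (h1 : c ≠ 1) : ∃ v ∈ hyp h, c * v ∉ hyp h := by
  by_contra hcon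
  push Not at hcon
  have hne : c + θ m c ≠ 0 := fun e => by
    rcases h.θ_eq_self ((h.eq_iff_add_eq_zero _ _).mpr (by rw [add_comm]; exact e)) with e' | e'
    · exact h0 e'
    · exact h1 e'
  apply one_notMem_hyp h
  obtain ⟨s, hs⟩ : ∃ s, θ m s = 1 / (c + θ m c) := ⟨hθ m _, h.θ_hθ _⟩
  have h2 := (hyp h).add_mem (hcon _ (θ_add_self_mem h s)) (θ_add_self_mem h (c * s))
  convert! h2 using 1
  have h3 : (c + θ m c) * θ m s = 1 := by rw [hs]; field_simp
  rw [θ_mul]
  linear_combination (-1 : F) * h3 - (c * s) * h.two_eq_zero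

/-! ### Class representatives of elements of order 4 -/

theorem T_one_conj {β β' : F} (hv : β + β' ∈ hyp h) : IsConj (T h 1 β) (T h 1 β') := by
  obtain ⟨s, hs⟩ := hv
  refine isConj_iff.mpr ⟨T h s 0, ?_⟩
  rw [T_conj, mul_one, θ_one, one_mul, show θ m s + s = β + β' from hs]
  congr 1
  linear_combination β * h.two_eq_zero

theorem T_scale_conj {z : F} (hz : z ≠ 0) (β : F) : IsConj (T h 1 β) (T h z (θ m z * z * β)) :=
  isConj_iff.mpr ⟨H h (Units.mk0 z hz), by rw [H_conj_T]; simp⟩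

theorem orderFour_rep {x : Cfsg.Sz F m} (hx : orderOf x = 4) : ∃ β, IsConj x (T h 1 β) := by
  rcases orderFour_normal_form h hx with e | e
  · exact ⟨0, e⟩
  · exact ⟨1, e⟩

theorem fz_one (β : F) : fz m (1 : F) β = β + 1 + θ m β := by
  rw [fz_eq, θ_one]; ring

/-! ### The cases -/

/-- Two semisimple classes. -/
theorem cover_ss_ss {x g : Cfsg.Sz F m} (hx : x ^ 4 ≠ 1) (hg : g ^ 4 ≠ 1) :
    ∃ y z, IsConj x y ∧ IsConj x z ∧ IsConj g (y * z) := by
  set p := hθ m (tr x) with hp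
  obtain ⟨u, hu⟩ := exists_sqrt h (hθ m (tr g))
  set δ := p + u
  have htr : ∀ s, tr (W h * T h 0 s) = θ m s := fun s => by
    have := tr_W_H_T h 1 0 s
    rw [H_one, mul_one] at this
    rw [this, Units.val_one, hθ_one, θ_zero, fz_eq, θ_zero]
    ring
  have hy : tr (W h * T h 0 p) = tr x := by rw [htr, hp, h.θ_hθ]
  refine ⟨W h * T h 0 p, T h 0 δ * (W h * T h 0 p) * (T h 0 δ)⁻¹, isConj_of_tr h hx hy,
    isConj_of_tr h hx (by rw [tr_conj, hy]), isConj_of_tr h hg ?_⟩
  have hinv : (T h 0 δ)⁻¹ = T h 0 δ := by rw [T_inv, θ_zero, zero_mul, add_zero]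
  rw [hinv, show W h * T h 0 p * (T h 0 δ * (W h * T h 0 p) * T h 0 δ)
      = W h * (T h 0 p * T h 0 δ) * W h * (T h 0 p * T h 0 δ) by group,
    T_zero_mul, show p + δ = u by simp only [δ]; rw [← add_assoc, h.add_self, zero_add]]
  have hform := tr_T_W_T_W h 0 u 0 u
  have hswap : tr (W h * T h 0 u * W h * T h 0 u) = tr (T h 0 u * (W h * T h 0 u * W h)) := by
    rw [← tr_conj (T h 0 u) (W h * T h 0 u * W h * T h 0 u)]
    congr 1
    group
  rw [hswap, hform]
  simp only [mul_zero, θ_zero, zero_mul, zero_add, fz_eq, add_zero]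
  rw [← θ_mul, ← pow_two, hu, h.θ_hθ]

/-- A class of order 4 and a semisimple class. -/
theorem cover_four_ss {x g : Cfsg.Sz F m} {β₀ : F} (hx : IsConj x (T h 1 β₀)) (hg : g ^ 4 ≠ 1) :
    ∃ y z, IsConj x y ∧ IsConj x z ∧ IsConj g (y * z) := by
  have hτ := (semisimple_tr h).1 g hg
  obtain ⟨σ, hσ⟩ := exists_sqrt h (tr g)
  have hσ0 : σ ≠ 0 := fun e => hτ (by rw [← hσ, e]; ring)
  obtain ⟨w, hw0, hw⟩ := exists_key h hσ0
  obtain ⟨s, hs⟩ := hw
  obtain ⟨β, hβ1, hβ⟩ : ∃ β, θ m β + β + 1 = w + σ * (w * hθ m w) ∧ β₀ + β ∈ hyp h := by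
    have hs' : θ m s + s = w + σ * (w * hθ m w) + 1 := hs
    have e1 : θ m s + s + 1 = w + σ * (w * hθ m w) := by
      rw [hs', add_assoc, h.add_self, add_zero]
    rcases mem_hyp_or h (β₀ + s) with e | e
    · exact ⟨s, e1, e⟩
    · refine ⟨s + 1, ?_, by rwa [← add_assoc]⟩
      rw [h.θ_add, θ_one]
      linear_combination e1 + h.two_eq_zero
  set z := 1 / w
  have hz : z ≠ 0 := one_div_ne_zero hw0
  have hy : IsConj x (T h 1 β) := hx.trans (T_one_conj h hβ)
  refine ⟨T h 1 β, W h * T h z (θ m z * z * β) * W h, hy, ?_, isConj_of_tr h hg ?_⟩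
  · refine hy.trans ((T_scale_conj h hz β).trans (isConj_iff.mpr ⟨W h, ?_⟩))
    rw [W_inv]
  · rw [tr_T_W_T_W h, one_mul, θ_one, fz_one h]
    have hfz : fz m z (θ m z * z * β) = θ m z * z ^ 2 * (β + 1 + θ m β) := by
      rw [fz_eq, θ_mul, θ_mul, h.θ_θ]; ring
    rw [hfz]
    have hρ : β + 1 + θ m β = w + σ * (w * hθ m w) := by linear_combination hβ1
    rw [hρ, ← hσ]
    have hzw : z * w = 1 := by simp only [z]; field_simp
    have hθzw : θ m z * hθ m w * hθ m w = 1 := by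
      rw [mul_assoc, hθ_sq, ← θ_mul, hzw, θ_one]
    linear_combination (σ ^ 2) * hθzw + (θ m z * (1 + σ * hθ m w) ^ 2 * (z * w + 1)) * hzw
      + (θ m z * (1 + σ * hθ m w) + θ m z * z * β) * h.two_eq_zero

/-- A semisimple class and the involutions. -/
theorem cover_ss_two {x g : Cfsg.Sz F m} (hx : x ^ 4 ≠ 1) (hg : orderOf g = 2) :
    ∃ y z, IsConj x y ∧ IsConj x z ∧ IsConj g (y * z) := by
  have hτ := (semisimple_tr h).1 x hx
  obtain ⟨μ, hμ0, s, hs⟩ := exists_key h hτ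
  set k : Fˣ := Units.mk0 (1 / μ) (one_div_ne_zero hμ0)
  set w := W h * H h k * T h 1 s
  have hs' : θ m s + s = μ + tr x * (μ * hθ m μ) + 1 := hs
  have hk : hθ m (k : F) = 1 / hθ m μ := by
    simp only [k, Units.val_mk0, one_div, hθ, inv_pow]
  have hμ' := hθ_ne_zero m hμ0
  have hw : tr w = tr x := by
    rw [tr_W_H_T h, fz_one h, hk, θ_one]
    simp only [k, Units.val_mk0]
    field_simp
    linear_combination hs' + (μ + 1) * h.two_eq_zero
  have hw' : tr (w * T h 0 1) = tr x := by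
    simp only [w]
    rw [mul_assoc, T_mul, tr_W_H_T h, add_zero, θ_one, one_mul, add_zero, fz_one h, ← hw, tr_W_H_T h, fz_one h, θ_one,
      h.θ_add, θ_one]
    linear_combination (hθ m (k : F) * k) * h.two_eq_zero
  have hwc := isConj_of_tr h hx hw
  have hw4 := pow_four_of_tr_ne h (x := w) (by rw [hw]; exact hτ)
  refine ⟨w⁻¹, w * T h 0 1, hwc.trans (real_semisimple h hw4), isConj_of_tr h hx hw', ?_⟩
  rw [inv_mul_cancel_left]
  exact involutions_conj h hg (orderOf_eq_prime_iff.mpr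
    ⟨by rw [pow_two, T_sq, θ_zero, zero_mul, T_zero], fun e => one_ne_zero ((eq_one_iff_T h).mp e).2⟩)

/-- A semisimple class and a class of order 4. -/
theorem cover_ss_four {x g : Cfsg.Sz F m} {δ₀ : F} (hx : x ^ 4 ≠ 1) (hg : IsConj g (T h 1 δ₀)) :
    ∃ y z, IsConj x y ∧ IsConj x z ∧ IsConj g (y * z) := by
  have hτ := (semisimple_tr h).1 x hx
  set σ := hθ m (tr x)
  obtain ⟨y, hy0, hy⟩ := exists_key h (σ := σ) (hθ_ne_zero m hτ)
  set lam := θ m y
  obtain ⟨β, hρ, hβ⟩ : ∃ β, β + 1 + θ m β = lam + σ * (y * hθ m y) ∧ δ₀ + β ∈ hyp h := by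
    obtain ⟨s, hs⟩ := (hyp h).add_mem hy (θ_add_self_mem h y)
    have hs' : θ m s + s = y + σ * (y * hθ m y) + 1 + (θ m y + y) := hs
    rcases mem_hyp_or h (δ₀ + s) with e | e
    · exact ⟨s, by linear_combination hs' + (y + 1) * h.two_eq_zero, e⟩
    · refine ⟨s + 1, ?_, by rwa [← add_assoc]⟩
      rw [h.θ_add, θ_one]
      linear_combination hs' + (y + 2) * h.two_eq_zero
  have hlam : lam ≠ 0 := θ_ne_zero m hy0
  set k : Fˣ := Units.mk0 (1 / lam) (one_div_ne_zero hlam)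
  have hk : hθ m (k : F) = 1 / y := by
    simp only [k, Units.val_mk0, lam, one_div]
    rw [hθ, inv_pow, ← hθ, h.hθ_θ]
  set s := σ * (y * hθ m y) with hsdef
  set w := W h * H h k * T h 0 s
  have hw : tr w = tr x := by
    rw [tr_W_H_T h, fz_eq, θ_zero, hk]
    simp only [k, Units.val_mk0]
    have : θ m s = tr x * (θ m y * y) := by
      rw [hsdef, θ_mul, θ_mul, h.θ_hθ, h.θ_hθ]
    field_simp
    linear_combination this
  have hw' : tr (w * T h 1 β) = tr x := by
    simp only [w]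
    rw [mul_assoc, T_mul, tr_W_H_T h, θ_zero, zero_mul, add_zero, zero_add, fz_one h, ← hw, tr_W_H_T h,
      fz_eq (x := (0 : F)), θ_zero, θ_one, h.θ_add, hk]
    simp only [k, Units.val_mk0]
    field_simp
    linear_combination hρ + (lam + s) * h.two_eq_zero
  have hwc := isConj_of_tr h hx hw
  have hw4 := pow_four_of_tr_ne h (x := w) (by rw [hw]; exact hτ)
  refine ⟨w⁻¹, w * T h 1 β, hwc.trans (real_semisimple h hw4), isConj_of_tr h hx hw', ?_⟩
  rw [inv_mul_cancel_left]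
  exact hg.trans (T_one_conj h hβ)

/-- A class of order 4 and the involutions. -/
theorem cover_four_two {x g : Cfsg.Sz F m} (hx : orderOf x = 4) (hg : orderOf g = 2) :
    ∃ y z, IsConj x y ∧ IsConj x z ∧ IsConj g (y * z) := by
  refine ⟨x, x, IsConj.refl x, IsConj.refl x, involutions_conj h hg ?_⟩
  rw [← pow_two, orderOf_pow' _ two_ne_zero, hx]
  rfl

/-- Two classes of order 4. -/
theorem cover_four_four {x g : Cfsg.Sz F m} {β₀ δ₀ : F} (hx : IsConj x (T h 1 β₀)) (hg : IsConj g (T h 1 δ₀)) :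
    ∃ y z, IsConj x y ∧ IsConj x z ∧ IsConj g (y * z) := by
  obtain ⟨t, ht⟩ := h.exists_θ_ne
  have ht0 : t ≠ 0 := fun e => ht (by rw [e, θ_zero])
  have hv : (1 : F) + t ≠ 0 := fun e => ht (by
    rw [← (h.eq_iff_add_eq_zero _ _).mpr e, θ_one])
  set w := θ m (1 + t) * (1 + t)
  have hw0 : w ≠ 0 := mul_ne_zero (θ_ne_zero m hv) hv
  have hw1 : w ≠ 1 := fun e => ht0 (by
    have h1 := h.θ_mul_self_injective hv one_ne_zero (by rw [θ_one, mul_one]; exact e)
    linear_combination h1)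
  obtain ⟨v, hv', hvn⟩ := exists_smul_notMem h (c := 1 / w) (one_div_ne_zero hw0) (fun e => hw1 (by
    field_simp at e; exact e.symm))
  set B := β₀ + θ m t * t * β₀ + t
  obtain ⟨β, hβ, hδ⟩ : ∃ β, β₀ + β ∈ hyp h ∧ δ₀ + (β + θ m t * t * β₀ + t) / w ∈ hyp h := by
    rcases mem_hyp_or h (δ₀ + B / w) with e | e
    · exact ⟨β₀, by rw [h.add_self]; exact (hyp h).zero_mem, e⟩
    · refine ⟨β₀ + v, by rwa [← add_assoc, h.add_self, zero_add], ?_⟩
      have hv1 := (mem_hyp_or h _).resolve_left hvn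
      have := (hyp h).add_mem e hv1
      convert! this using 1
      simp only [B]
      linear_combination (-1 : F) * h.two_eq_zero
  refine ⟨T h 1 β, T h t (θ m t * t * β₀), hx.trans (T_one_conj h hβ), hx.trans (T_scale_conj h ht0 β₀),
    hg.trans ((T_one_conj h hδ).trans ((T_scale_conj h hv _).trans ?_))⟩
  rw [T_mul, θ_one, one_mul, mul_div_cancel₀ _ hw0]

/-- The square of a class of elements of order greater than 2 covers every non-identity element. -/
theorem exists_mul_conj {x g : Cfsg.Sz F m} (hx : 2 < orderOf x) (hg : g ≠ 1) :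
    ∃ u v, g = (u * x * u⁻¹) * (v * x * v⁻¹) := by
  suffices hyz : ∃ y z, IsConj x y ∧ IsConj x z ∧ IsConj g (y * z) by
    obtain ⟨y, z, hy, hz, hgc⟩ := hyz
    obtain ⟨a, rfl⟩ := isConj_iff.mp hy
    obtain ⟨b, rfl⟩ := isConj_iff.mp hz
    obtain ⟨c, hc⟩ := isConj_iff.mp hgc.symm
    exact ⟨c * a, c * b, by rw [← hc]; group⟩
  have : Fact (Nat.Prime 2) := ⟨Nat.prime_two⟩
  have hord : ∀ y : Cfsg.Sz F m, y ≠ 1 → y ^ 4 = 1 → orderOf y = 2 ∨ orderOf y = 4 := fun y hy1 hy4 => by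
    obtain ⟨j, hj, e⟩ := (Nat.dvd_prime_pow Nat.prime_two).mp (show orderOf y ∣ 2 ^ 2 from orderOf_dvd_of_pow_eq_one hy4)
    interval_cases j
    · exact absurd (orderOf_eq_one_iff.mp (by simpa using e)) hy1
    · exact Or.inl (by simpa using e)
    · exact Or.inr (by simpa using e)
  have hx1 : x ≠ 1 := fun e => by rw [e, orderOf_one] at hx; omega
  by_cases hx4 : x ^ 4 = 1
  · have hxo : orderOf x = 4 := (hord x hx1 hx4).resolve_left (by omega)
    obtain ⟨β₀, hβ₀⟩ := orderFour_rep h hxo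
    by_cases hg4 : g ^ 4 = 1
    · rcases hord g hg hg4 with e | e
      · exact cover_four_two h hxo e
      · obtain ⟨δ₀, hδ₀⟩ := orderFour_rep h e
        exact cover_four_four h hβ₀ hδ₀
    · exact cover_four_ss h hβ₀ hg4
  · by_cases hg4 : g ^ 4 = 1
    · rcases hord g hg hg4 with e | e
      · exact cover_ss_two h hx4 e
      · obtain ⟨δ₀, hδ₀⟩ := orderFour_rep h e
        exact cover_ss_four h hx4 hδ₀
    · exact cover_ss_ss h hx4 hg4

end Cfsg.Agent.Suzuki
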