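import Cfsg.Agent.Lib.Suzuki.Tori
import Cfsg.Agent.Lib.Suzuki.Minor
import Cfsg.Agent.Lib.Schur.Basic
import Mathlib.GroupTheory.Transfer
import Mathlib.Algebra.Polynomial.Roots

/-! Central extensions of the Suzuki groups of degree at least five are trivial on the commutator subgroup. -/

namespace Cfsg.Agent.Suzuki

open scoped Pointwise commutatorElement
open Polynomial

variable {F : Type*} [Field F] [Fintype F] {m : ℕ} (h : SzField F m)

include h

/-- An invariant biadditive map vanishes unless the two weights are Galois conjugate. -/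
theorem biadd_eq_zero {A : Type*} [AddCommGroup A] (φ : F →+ F →+ A) (k μ : F)
    (hinv : ∀ b a, φ b (k * a) = φ (μ * b) a) (hne : ∀ j < 2 * m + 1, μ ≠ k ^ 2 ^ j) (b a : F) : φ b a = 0 := by
  classical
  have := h.charP
  let N := 2 * m + 1
  let g : F[X] := ∏ j ∈ Finset.range N, (X - C (k ^ 2 ^ j))
  have hfrob : g.map (frobenius F 2) = g := by
    simp only [g, Polynomial.map_prod, Polynomial.map_sub, Polynomial.map_X, Polynomial.map_C, frobenius_def,
      ← pow_mul, ← pow_succ]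
    show ∏ j ∈ Finset.range (2 * m + 1), (X - C (k ^ 2 ^ (j + 1))) =
      ∏ j ∈ Finset.range (2 * m + 1), (X - C (k ^ 2 ^ j))
    rw [Finset.prod_range_succ, Finset.prod_range_succ' (n := 2 * m)]
    congr 1
    rw [pow_zero, pow_one, ← h.card, FiniteField.pow_card]
  have hcoeff : ∀ i, g.coeff i = 0 ∨ g.coeff i = 1 := by
    intro i
    have := congrArg (fun p => Polynomial.coeff p i) hfrob
    simp only [Polynomial.coeff_map, frobenius_def] at this
    exact h.sq_eq_self this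
  let S := (Finset.range (g.natDegree + 1)).filter fun i => g.coeff i = 1
  have heval : ∀ x : F, g.eval x = ∑ i ∈ S, x ^ i := by
    intro x
    rw [Polynomial.eval_eq_sum_range, Finset.sum_filter]
    refine Finset.sum_congr rfl fun i _ => ?_
    rcases hcoeff i with e | e <;> simp [e]
  have hgk : g.eval k = 0 := by
    simp only [g, Polynomial.eval_prod]
    exact Finset.prod_eq_zero (Finset.mem_range.mpr (show 0 < N by omega)) (by simp)
  have hgμ : g.eval μ ≠ 0 := by
    simp only [g, Polynomial.eval_prod, Finset.prod_ne_zero_iff]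
    intro j hj
    simpa [sub_eq_zero] using hne j (Finset.mem_range.mp hj)
  have hiter : ∀ i b a, φ b (k ^ i * a) = φ (μ ^ i * b) a := by
    intro i
    induction i with
    | zero => simp
    | succ i ih => intro b a; rw [pow_succ', mul_assoc, hinv, ih, pow_succ, mul_assoc]
  have key : ∀ b, φ (g.eval μ * b) a = 0 := fun b => by
    rw [heval, Finset.sum_mul, map_sum, AddMonoidHom.finsetSum_apply]
    simp only [← hiter]
    rw [← map_sum, ← Finset.sum_mul, ← heval, hgk, zero_mul, map_zero]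
  have := key ((g.eval μ)⁻¹ * b)
  rwa [mul_inv_cancel_left₀ hgμ] at this

omit [Fintype F] h in
theorem transfer_step {X Q : Type*} [Group X] [Group Q] [Finite Q] (ξ : X →* Q) (hs : Function.Surjective ξ)
    (U : Subgroup Q) {z : X} (hz : z ∈ Subgroup.center X) (hzξ : ξ z = 1) (hzc : z ∈ commutator X) :
    ∃ hm : z ^ U.index ∈ U.comap ξ, (⟨_, hm⟩ : U.comap ξ) ∈ commutator (U.comap ξ) := by
  have hi : (U.comap ξ).index = U.index := Subgroup.index_comap_of_surjective U hs
  have : (U.comap ξ).FiniteIndex := ⟨by rw [hi]; exact U.index_ne_zero_of_finite⟩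
  let τ : X →* Abelianization (U.comap ξ) := MonoidHom.transfer Abelianization.of
  have h1 : τ z = 1 := Abelianization.commutator_subset_ker τ hzc
  have h2 : τ z = Abelianization.of ⟨z ^ (U.comap ξ).index, by
      simp [Subgroup.mem_comap, hzξ]⟩ := MonoidHom.transfer_eq_pow _ z fun k g _ => by
    rw [mul_assoc, ← Subgroup.mem_center_iff.mp ((Subgroup.center X).pow_mem hz k) g, inv_mul_cancel_left]
  rw [h1] at h2
  simp only [hi] at h2
  refine ⟨by simp [Subgroup.mem_comap, hzξ], ?_⟩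
  rw [← Abelianization.ker_of]
  exact h2.symm

section twoPart

variable {X : Type*} [Group X] (ξ : X →* Cfsg.Sz F m) (hs : Function.Surjective ξ)
  (hc : ξ.ker ≤ Subgroup.center X)

include hs hc

omit [Fintype F] h hs in
theorem central_of_map_eq_one {z : X} (e : ξ z = 1) (x : X) : z * x = x * z :=
  (Subgroup.mem_center_iff.mp (hc e) x).symm

omit [Fintype F] h hs in
theorem comm_congr {x x' y y' : X} (ex : ξ x = ξ x') (ey : ξ y = ξ y') : ⁅x, y⁆ = ⁅x', y'⁆ := by
  have hu : ξ (x * x'⁻¹) = 1 := by rw [map_mul, map_inv, ex, mul_inv_cancel]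
  have hv : ξ (y * y'⁻¹) = 1 := by rw [map_mul, map_inv, ey, mul_inv_cancel]
  have e1 : x = (x * x'⁻¹) * x' := by group
  have e2 : y = (y * y'⁻¹) * y' := by group
  rw [e1, e2]
  generalize x * x'⁻¹ = u at hu ⊢
  generalize y * y'⁻¹ = v at hv ⊢
  simp only [commutatorElement_def]
  have cu : ∀ w, u * w = w * u := central_of_map_eq_one ξ hc hu
  have cv : ∀ w, v * w = w * v := central_of_map_eq_one ξ hc hv
  calc u * x' * (v * y') * (u * x')⁻¹ * (v * y')⁻¹
      = u * (x' * v) * (y' * x'⁻¹) * u⁻¹ * y'⁻¹ * v⁻¹ := by group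
    _ = u * (v * x') * (y' * x'⁻¹) * u⁻¹ * y'⁻¹ * v⁻¹ := by rw [cv x']
    _ = u * ((v * x' * y' * x'⁻¹) * u⁻¹) * y'⁻¹ * v⁻¹ := by group
    _ = u * (u⁻¹ * (v * x' * y' * x'⁻¹)) * y'⁻¹ * v⁻¹ := by
        rw [central_of_map_eq_one ξ hc (z := u⁻¹) (by simp [hu])]
    _ = v * (x' * y' * x'⁻¹ * y'⁻¹) * v⁻¹ := by group
    _ = x' * y' * x'⁻¹ * y'⁻¹ := by rw [cv]; group

/-- `[x, y] = 1` when `x` lies over the centre of the root group and `y` over the root group. -/
theorem lift_zGroup_central (hm : 2 ≤ m) {x y : X} (hx : ξ x ∈ zGroup h) (hy : ξ y ∈ rootGroup h) :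
    x * y = y * x := by
  classical
  let t : F → F → X := fun a b => Function.surjInv hs (T h a b)
  have ht : ∀ a b, ξ (t a b) = T h a b := fun a b => Function.surjInv_eq hs _
  have hker : ∀ b a, ξ ⁅t 0 b, t a 0⁆ = 1 := fun b a => by
    rw [map_commutatorElement, ht, ht, commutatorElement_eq_one_iff_mul_comm]
    exact T_zero_central h b a 0
  let : CommGroup ξ.ker :=
    { (inferInstance : Group ξ.ker) with
      mul_comm := fun u v => Subtype.ext (central_of_map_eq_one ξ hc u.2 v) }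
  have hadd1 : ∀ b b' a, ⁅t 0 (b + b'), t a 0⁆ = ⁅t 0 b, t a 0⁆ * ⁅t 0 b', t a 0⁆ := fun b b' a => by
    rw [comm_congr ξ hc (x' := t 0 b * t 0 b') (y' := t a 0) (by rw [map_mul, ht, ht, ht, T_zero_mul]) rfl,
      show ⁅t 0 b * t 0 b', t a 0⁆ = t 0 b * ⁅t 0 b', t a 0⁆ * (t 0 b)⁻¹ * ⁅t 0 b, t a 0⁆ by
        simp only [commutatorElement_def]; group,
      ← central_of_map_eq_one ξ hc (hker b' a) (t 0 b), mul_inv_cancel_right]
    exact central_of_map_eq_one ξ hc (hker b' a) _
  have hadd2 : ∀ b a a', ⁅t 0 b, t (a + a') 0⁆ = ⁅t 0 b, t a 0⁆ * ⁅t 0 b, t a' 0⁆ := fun b a a' => by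
    have e : ξ (t (a + a') 0) = ξ (t 0 (θ m a * a') * (t a 0 * t a' 0)) := by
      simp only [map_mul, ht]
      rw [T_mul, T_zero_mul]
      congr 1
      linear_combination -(θ m a * a') * h.two_eq_zero
    rw [comm_congr ξ hc (x' := t 0 b) rfl e]
    have hz : ⁅t 0 b, t 0 (θ m a * a')⁆ = 1 := by
      by_cases he : θ m a * a' = 0
      · rw [he, comm_congr ξ hc (x := t 0 b) (x' := t 0 b) (y := t 0 0) (y' := 1) rfl (by rw [ht, T_zero, map_one])]
        simp
      · obtain ⟨c, -, hc'⟩ := h.θ_mul_self_surjective _ he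
        rw [← hc', comm_congr ξ hc (x := t 0 b) (x' := t 0 b) (y := t 0 (θ m c * c)) (y' := t c 0 * t c 0) rfl
          (by rw [map_mul, ht, ht, T_sq])]
        have h2 : ⁅t 0 b, t c 0⁆ * ⁅t 0 b, t c 0⁆ = 1 := by
          rw [← hadd1 b b c, h.add_self, comm_congr ξ hc (x := t 0 0) (x' := 1) (y := t c 0) (y' := t c 0)
            (by rw [ht, T_zero, map_one]) rfl]
          simp
        rw [show ⁅t 0 b, t c 0 * t c 0⁆ = ⁅t 0 b, t c 0⁆ * (t c 0 * ⁅t 0 b, t c 0⁆ * (t c 0)⁻¹) by
            simp only [commutatorElement_def]; group,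
          ← central_of_map_eq_one ξ hc (hker b c) (t c 0), mul_inv_cancel_right, h2]
    have hcomm := commutatorElement_eq_one_iff_mul_comm.mp hz
    rw [show ⁅t 0 b, t 0 (θ m a * a') * (t a 0 * t a' 0)⁆ = ⁅t 0 b, t 0 (θ m a * a')⁆ *
        (t 0 (θ m a * a') * (⁅t 0 b, t a 0⁆ * (t a 0 * ⁅t 0 b, t a' 0⁆ * (t a 0)⁻¹)) * (t 0 (θ m a * a'))⁻¹) by
        simp only [commutatorElement_def]; group,
      hz, ← central_of_map_eq_one ξ hc (hker b a') (t a 0), mul_inv_cancel_right, one_mul,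
      ← central_of_map_eq_one ξ hc (z := ⁅t 0 b, t a 0⁆ * ⁅t 0 b, t a' 0⁆)
        (by rw [map_mul, hker, hker, mul_one]) (t 0 (θ m a * a')), mul_inv_cancel_right]
  let φ : F →+ F →+ Additive ξ.ker := AddMonoidHom.mk' (fun b => AddMonoidHom.mk'
      (fun a => Additive.ofMul (⟨_, hker b a⟩ : ξ.ker)) (fun a a' => by
        rw [← ofMul_mul]; exact congrArg Additive.ofMul (Subtype.ext (hadd2 b a a'))))
    (fun b b' => AddMonoidHom.ext fun a =>
      congrArg (Additive.ofMul (α := ξ.ker)) (Subtype.ext (hadd1 b b' a)))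
  obtain ⟨k, hk⟩ := IsCyclic.exists_generator (α := Fˣ)
  have hord : orderOf k = 2 ^ (2 * m + 1) - 1 := by
    rw [← h.card_units_natCard]; exact orderOf_eq_card_of_forall_mem_zpowers hk
  set l := θ m (k : F) * k with hl
  have hl0 : l ≠ 0 := mul_ne_zero (θ_ne_zero m k.ne_zero) k.ne_zero
  have hφ : ∀ b a, φ b a = 0 := biadd_eq_zero h φ (k : F) l⁻¹ (fun b a => by
    refine congrArg Additive.ofMul (Subtype.ext ?_)
    show ⁅t 0 b, t ((k : F) * a) 0⁆ = ⁅t 0 (l⁻¹ * b), t a 0⁆
    set u := Function.surjInv hs (H h k)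
    have hu : ξ u = H h k := Function.surjInv_eq hs _
    calc ⁅t 0 b, t ((k : F) * a) 0⁆ = ⁅u * t 0 (l⁻¹ * b) * u⁻¹, u * t a 0 * u⁻¹⁆ := by
          refine comm_congr ξ hc ?_ ?_
          · rw [map_mul, map_mul, map_inv, hu, ht, ht, H_conj_zero, ← hl, mul_inv_cancel_left₀ hl0]
          · rw [map_mul, map_mul, map_inv, hu, ht, ht, H_conj_T, mul_zero]
      _ = u * ⁅t 0 (l⁻¹ * b), t a 0⁆ * u⁻¹ := by simp only [commutatorElement_def]; group
      _ = ⁅t 0 (l⁻¹ * b), t a 0⁆ := by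
          rw [← central_of_map_eq_one ξ hc (hker _ _) u, mul_inv_cancel_right]) (fun j hj e => by
    have e1 : (k : F) ^ (2 ^ (m + 1) + 1 + 2 ^ j) = 1 := by
      rw [pow_add, pow_succ, ← e, show (k : F) ^ 2 ^ (m + 1) = θ m (k : F) from rfl, ← hl, mul_inv_cancel₀ hl0]
    have e2 : k ^ (2 ^ (m + 1) + 1 + 2 ^ j) = 1 := Units.ext (by rw [Units.val_pow_eq_pow_val, e1, Units.val_one])
    have h1 := Nat.le_of_dvd (by positivity) (orderOf_dvd_of_pow_eq_one e2)
    rw [hord] at h1
    have hj' : 2 ^ j ≤ 2 ^ (2 * m) := Nat.pow_le_pow_right (by norm_num) (by omega)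
    have hm' : 2 ^ (m + 1) * 2 ≤ 2 ^ (2 * m) := by
      rw [← pow_succ]; exact Nat.pow_le_pow_right (by norm_num) (by omega)
    have h8 : 2 ^ 3 ≤ 2 ^ (m + 1) := Nat.pow_le_pow_right (by norm_num) (by omega)
    rw [pow_succ 2 (2 * m)] at h1
    omega)
  obtain ⟨b, hb⟩ := hx
  obtain ⟨a, b', hab⟩ := hy
  rw [← commutatorElement_eq_one_iff_mul_comm,
    comm_congr ξ hc (x := x) (x' := t 0 b) (y := y) (y' := t a b') (by rw [ht, hb]) (by rw [ht, hab])]
  have hzero : ∀ a, ⁅t 0 b, t a 0⁆ = 1 := fun a => congrArg (fun z : Additive ξ.ker => ((Additive.toMul z : ξ.ker) : X)) (hφ b a)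
  by_cases he : b' = 0
  · rw [he]; exact hzero a
  obtain ⟨c, -, hc'⟩ := h.θ_mul_self_surjective b' he
  rw [comm_congr ξ hc (x := t 0 b) (x' := t 0 b) (y := t a b') (y' := t c 0 * t c 0 * t a 0) rfl
    (by rw [map_mul, map_mul, ht, ht, ht, T_sq, T_zero_mul, add_zero, hc'])]
  have hcm : ∀ a, t 0 b * t a 0 = t a 0 * t 0 b := fun a => commutatorElement_eq_one_iff_mul_comm.mp (hzero a)
  rw [commutatorElement_eq_one_iff_mul_comm]
  exact (Commute.mul_right (Commute.mul_right (hcm c) (hcm c)) (hcm a))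

theorem two_part (hm : 2 ≤ m) (w : (rootGroup h).comap ξ) (hw : w ∈ commutator ((rootGroup h).comap ξ))
    (h1 : ξ w = 1) (h2 : (w : X) ^ 2 = 1) : (w : X) = 1 := by
  classical
  let P := (rootGroup h).comap ξ
  let Zc : Subgroup X := (zGroup h).comap ξ
  let : CommGroup Zc :=
    { (inferInstance : Group Zc) with
      mul_comm := fun u v => Subtype.ext (lift_zGroup_central h ξ hs hc hm u.2 (zGroup_le h v.2)) }
  let t : F → X := fun a => Function.surjInv hs (T h a 0)
  have ht : ∀ a, ξ (t a) = T h a 0 := fun a => Function.surjInv_eq hs _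
  have htP : ∀ a, ξ (t a) ∈ rootGroup h := fun a => ⟨a, 0, ht a⟩
  obtain ⟨k, hk⟩ := IsCyclic.exists_generator (α := Fˣ)
  have hord : orderOf k = 2 ^ (2 * m + 1) - 1 := by
    rw [← h.card_units_natCard]; exact orderOf_eq_card_of_forall_mem_zpowers hk
  set u := Function.surjInv hs (H h k) with hudef
  have hu : ξ u = H h k := Function.surjInv_eq hs _
  have hnorm : ∀ (i : ℕ) (d : X), d ∈ Zc → u ^ i * d * (u ^ i)⁻¹ ∈ Zc := by
    rintro i d ⟨b, hb⟩
    refine ⟨θ m ((k ^ i : Fˣ) : F) * ((k ^ i : Fˣ) : F) * b, ?_⟩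
    rw [map_mul, map_mul, map_inv, map_pow, hu, hb, show H h k ^ i = H h (k ^ i) from ((HHom h).map_pow k i).symm,
      H_conj_zero]
  let σ : ℕ → Zc →* Zc := fun i =>
    { toFun := fun d => ⟨u ^ i * d.1 * (u ^ i)⁻¹, hnorm i _ d.2⟩
      map_one' := Subtype.ext (by simp)
      map_mul' := fun a b => Subtype.ext (by simp only [Subgroup.coe_mul]; group) }
  let n := 2 ^ (2 * m + 1) - 1
  let N : Zc →* Zc := ∏ i ∈ Finset.range n, σ i
  have hNapp : ∀ d, N d = ∏ i ∈ Finset.range n, σ i d := fun d => MonoidHom.finsetProd_apply _ _ _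
  have hun : ξ (u ^ n) = 1 := by
    rw [map_pow, hu, show H h k ^ n = H h (k ^ n) from ((HHom h).map_pow k n).symm,
      show k ^ n = 1 by simp only [n, ← hord, pow_orderOf_eq_one], H_one]
  have hshift : ∀ d, N (σ 1 d) = N d := by
    intro d
    rw [hNapp, hNapp]
    have e : ∀ i, σ i (σ 1 d) = σ (i + 1) d := fun i => Subtype.ext (by simp only [σ, MonoidHom.coe_mk, OneHom.coe_mk]; group)
    simp only [e]
    have e0 : σ n d = σ 0 d := Subtype.ext (by
      simp only [σ, MonoidHom.coe_mk, OneHom.coe_mk, pow_zero, one_mul, inv_one, mul_one]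
      rw [central_of_map_eq_one ξ hc hun, mul_inv_cancel_right])
    obtain ⟨j, hj⟩ : ∃ j, n = j + 1 := ⟨n - 1, by have := h.eight_le_card; rw [h.card] at this; omega⟩
    rw [hj] at e0 ⊢
    rw [Finset.prod_range_succ, Finset.prod_range_succ' (fun i => σ i d), e0]
  -- the commutator of lifts depends only on first coordinates
  have hmem : ∀ x ∈ P, ∀ y ∈ P, ⁅x, y⁆ ∈ Zc := by
    rintro x ⟨a, b, hx⟩ y ⟨c, d, hy⟩
    refine ⟨θ m a * c + θ m c * a, ?_⟩
    rw [map_commutatorElement, hx, hy, commutatorElement_def, T_comm h a b c d]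
    group
  have hcz : ∀ d ∈ Zc, ∀ y ∈ P, d * y = y * d := fun d hd y hy => lift_zGroup_central h ξ hs hc hm hd hy
  have hfirst : ∀ x ∈ P, ∀ a b, ξ x = T h a b → ∀ y ∈ P, ⁅x, y⁆ = ⁅t a, y⁆ := by
    intro x hx a b e y hy
    obtain ⟨d, hd⟩ := hs (T h 0 b)
    rw [comm_congr ξ hc (x := x) (x' := d * t a) (y := y) (y' := y)
      (by rw [map_mul, hd, ht, T_zero_mul, add_zero, e]) rfl,
      show ⁅d * t a, y⁆ = d * ⁅t a, y⁆ * d⁻¹ * ⁅d, y⁆ by simp only [commutatorElement_def]; group,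
      commutatorElement_eq_one_iff_mul_comm.mpr (hcz d ⟨b, hd⟩ y hy), mul_one,
      hcz d ⟨b, hd⟩ _ (zGroup_le h (hmem _ (htP a) y hy)), mul_inv_cancel_right]
  have hswap : ∀ x y : X, ⁅x, y⁆ = ⁅y, x⁆⁻¹ := fun x y => (commutatorElement_inv y x).symm
  let φ0 : F → F → Zc := fun a c => N ⟨⁅t a, t c⁆, hmem _ (htP a) _ (htP c)⟩
  have hadd : ∀ a a' c, φ0 (a + a') c = φ0 a c * φ0 a' c := by
    intro a a' c
    simp only [φ0]
    rw [← map_mul]
    congr 1
    apply Subtype.ext
    simp only [Subgroup.coe_mul]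
    obtain ⟨b, hb⟩ : ∃ b, ξ (t a * t a') = T h (a + a') b := ⟨_, by rw [map_mul, ht, ht, T_mul]⟩
    have hP : t a * t a' ∈ P := P.mul_mem (htP a) (htP a')
    rw [← hfirst _ hP _ _ hb (t c) (htP c),
      show ⁅t a * t a', t c⁆ = t a * ⁅t a', t c⁆ * (t a)⁻¹ * ⁅t a, t c⁆ by
        simp only [commutatorElement_def]; group,
      ← hcz _ (hmem _ (htP a') _ (htP c)) _ (htP a), mul_inv_cancel_right]
    exact hcz _ (hmem _ (htP a') _ (htP c)) _ (zGroup_le h (hmem _ (htP a) _ (htP c)))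
  have hanti : ∀ a c, φ0 a c = (φ0 c a)⁻¹ := fun a c => by
    simp only [φ0]; rw [← map_inv]; congr 1; exact Subtype.ext (hswap _ _)
  have hadd' : ∀ a c c', φ0 a (c + c') = φ0 a c * φ0 a c' := fun a c c' => by
    rw [hanti, hadd, mul_inv, ← hanti, ← hanti]
  let φ : F →+ F →+ Additive Zc := AddMonoidHom.mk' (fun a => AddMonoidHom.mk'
      (fun c => Additive.ofMul (φ0 a c)) (fun c c' => by rw [← ofMul_mul, hadd']))
    (fun a a' => AddMonoidHom.ext fun c => congrArg (Additive.ofMul (α := Zc)) (hadd a a' c))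
  have hφ : ∀ a c, φ a c = 0 := biadd_eq_zero h φ (k : F) (k : F)⁻¹ (fun a c => by
    refine congrArg Additive.ofMul ?_
    show φ0 a ((k : F) * c) = φ0 ((k : F)⁻¹ * a) c
    simp only [φ0]
    rw [← hshift ⟨⁅t ((k : F)⁻¹ * a), t c⁆, _⟩]
    congr 1
    apply Subtype.ext
    simp only [σ, MonoidHom.coe_mk, OneHom.coe_mk, pow_one]
    rw [show u * ⁅t ((k : F)⁻¹ * a), t c⁆ * u⁻¹ = ⁅u * t ((k : F)⁻¹ * a) * u⁻¹, u * t c * u⁻¹⁆ by
      simp only [commutatorElement_def]; group]
    refine comm_congr ξ hc ?_ ?_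
    · rw [map_mul, map_mul, map_inv, hu, ht, ht, H_conj_T, mul_zero, mul_inv_cancel_left₀ k.ne_zero]
    · rw [map_mul, map_mul, map_inv, hu, ht, ht, H_conj_T, mul_zero]) (fun j hj e => by
    have e1 : (k : F) ^ (2 ^ j + 1) = 1 := by rw [pow_succ, ← e, inv_mul_cancel₀ k.ne_zero]
    have e2 : k ^ (2 ^ j + 1) = 1 := Units.ext (by rw [Units.val_pow_eq_pow_val, e1, Units.val_one])
    have h1 := Nat.le_of_dvd (by positivity) (orderOf_dvd_of_pow_eq_one e2)
    rw [hord] at h1
    have hj' : 2 ^ j ≤ 2 ^ (2 * m) := Nat.pow_le_pow_right (by norm_num) (by omega)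
    have h4 : 2 ^ 2 ≤ 2 ^ (2 * m) := Nat.pow_le_pow_right (by norm_num) (by omega)
    rw [pow_succ 2 (2 * m)] at h1
    omega)
  -- the commutator subgroup is killed by N
  let D : Subgroup P :=
    { carrier := {d | ∃ hd : (d : X) ∈ Zc, N ⟨_, hd⟩ = 1}
      one_mem' := ⟨Zc.one_mem, N.map_one⟩
      mul_mem' := by
        rintro a b ⟨ha, ha'⟩ ⟨hb, hb'⟩
        exact ⟨Zc.mul_mem ha hb, (N.map_mul ⟨_, ha⟩ ⟨_, hb⟩).trans (by rw [ha', hb', one_mul])⟩
      inv_mem' := by
        rintro a ⟨ha, ha'⟩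
        exact ⟨Zc.inv_mem ha, (N.map_inv ⟨_, ha⟩).trans (by rw [ha', inv_one])⟩ }
  have hD : commutator P ≤ D := by
    rw [commutator_def, Subgroup.commutator_le]
    rintro ⟨x, hx⟩ - ⟨y, hy⟩ -
    obtain ⟨a, b, ea⟩ := id (Subgroup.mem_comap.mp hx)
    obtain ⟨c, d, ec⟩ := id (Subgroup.mem_comap.mp hy)
    refine ⟨hmem x hx y hy, ?_⟩
    have e : ⁅x, y⁆ = ⁅t a, t c⁆ := by
      rw [hfirst x hx a b ea y hy, hswap, hfirst y hy c d ec _ (htP a), ← hswap]
    rw [← (show φ0 a c = 1 from hφ a c)]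
    exact congrArg N (Subtype.ext e)
  obtain ⟨hwz, hwN⟩ := hD hw
  have hfix : ∀ i, σ i ⟨(w : X), hwz⟩ = ⟨(w : X), hwz⟩ := fun i => Subtype.ext (by
    simp only [σ, MonoidHom.coe_mk, OneHom.coe_mk]
    rw [← central_of_map_eq_one ξ hc h1 (u ^ i), mul_inv_cancel_right])
  rw [hNapp, Finset.prod_congr rfl (fun i _ => hfix i), Finset.prod_const, Finset.card_range] at hwN
  have hwn : (w : X) ^ n = 1 := congrArg Subtype.val hwN
  obtain ⟨j, hj⟩ : ∃ j, n = 2 * j + 1 := ⟨2 ^ (2 * m) - 1, by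
    have : 1 ≤ 2 ^ (2 * m) := Nat.one_le_two_pow
    simp only [n, pow_succ]
    omega⟩
  rwa [hj, pow_succ, pow_mul, h2, one_pow, one_mul] at hwn

end twoPart

theorem inf_commutator_eq_bot {X : Type*} [Group X] (ξ : X →* Cfsg.Sz F m) (hs : Function.Surjective ξ)
    (hc : ξ.ker ≤ Subgroup.center X) (hm : 2 ≤ m) : ξ.ker ⊓ commutator X = ⊥ := by
  classical
  have hfin : Finite (commutator X) := Schur.finite_commutator ξ hc
  have : Finite ↥(ξ.ker ⊓ commutator X) :=
    Finite.of_injective (Subgroup.inclusion inf_le_right) (Subgroup.inclusion_injective _)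
  by_contra hne
  obtain ⟨p, hp, hpd⟩ := Nat.exists_prime_and_dvd fun e => hne (Subgroup.eq_bot_of_card_eq _ e)
  have : Fact p.Prime := ⟨hp⟩
  obtain ⟨⟨z, hz⟩, hzo⟩ := exists_prime_orderOf_dvd_card' (G := ↥(ξ.ker ⊓ commutator X)) p hpd
  obtain ⟨hz1, hz2⟩ := Subgroup.mem_inf.mp hz
  have hzo' : orderOf z = p := by rwa [Subgroup.orderOf_mk] at hzo
  -- a subgroup of index prime to p carrying no p-torsion
  obtain ⟨U, hU, hkill⟩ : ∃ U : Subgroup (Cfsg.Sz F m), ¬ p ∣ U.index ∧
      ∀ w : U.comap ξ, w ∈ commutator (U.comap ξ) → ξ w = 1 → (w : X) ^ p = 1 → (w : X) = 1 := by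
    by_cases hp2 : p = 2
    · subst hp2
      exact ⟨rootGroup h, odd_index_rootGroup h, fun w => two_part h ξ hs hc hm w⟩
    · obtain ⟨P⟩ := Sylow.nonempty (p := p) (G := Cfsg.Sz F m)
      refine ⟨P, P.not_dvd_index, fun w hw _ _ => ?_⟩
      have hcyc : IsCyclic (P : Subgroup (Cfsg.Sz F m)) := by
        by_cases hd : p ∣ Nat.card (Cfsg.Sz F m)
        · rcases prime_dvd_card_cases h hp hd with e | e | e
          · exact absurd e hp2
          · let S : Sylow p (torus h) := default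
            have hS : IsPGroup p ((S : Subgroup (torus h)).map (torus h).subtype) := S.isPGroup'.map _
            have hidx : ¬ p ∣ ((S : Subgroup (torus h)).map (torus h).subtype).index := by
              rw [Subgroup.index_map_subtype]
              intro e'
              rcases hp.dvd_mul.mp e' with e' | e'
              · exact S.not_dvd_index e'
              · exact exists_torus_sylow h e e'
            have := isCyclic_torus h
            have : IsCyclic ((hS.toSylow hidx : Sylow p (Cfsg.Sz F m)) : Subgroup (Cfsg.Sz F m)) :=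
              isCyclic_of_injective _ (Subgroup.inclusion_injective (Subgroup.map_subtype_le (S : Subgroup (torus h))))
            exact isCyclic_of_surjective ((hS.toSylow hidx).equiv P).toMonoidHom ((hS.toSylow hidx).equiv P).surjective
          · exact sylow_isCyclic h e P
        · obtain ⟨j, hj⟩ := IsPGroup.iff_card.mp P.isPGroup'
          rcases j with _ | j
          · rw [pow_zero] at hj
            have := (Nat.card_eq_one_iff_unique.mp hj).1
            exact isCyclic_of_subsingleton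
          · exact absurd ((dvd_pow_self p j.succ_ne_zero).trans
              (hj ▸ (P : Subgroup (Cfsg.Sz F m)).card_subgroup_dvd_card)) hd
      let f : (P : Subgroup (Cfsg.Sz F m)).comap ξ →* (P : Subgroup (Cfsg.Sz F m)) := ξ.subgroupComap _
      let : CommGroup ((P : Subgroup (Cfsg.Sz F m)).comap ξ) :=
        commGroupOfCyclicCenterQuotient f fun x hx => Subgroup.mem_center_iff.mpr fun y =>
          Subtype.ext (Subgroup.mem_center_iff.mp (hc (congrArg Subtype.val hx)) _)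
      have hbot : commutator ((P : Subgroup (Cfsg.Sz F m)).comap ξ) = ⊥ := by
        rw [commutator_def, eq_bot_iff, Subgroup.commutator_le]
        intro a _ b _
        rw [Subgroup.mem_bot, commutatorElement_eq_one_iff_mul_comm]
        exact mul_comm a b
      rw [hbot, Subgroup.mem_bot] at hw
      rw [hw]; rfl
  obtain ⟨hm', hcomm⟩ := transfer_step ξ hs U (hc hz1) hz1 hz2
  have h1 := hkill ⟨_, hm'⟩ hcomm (by simp [show ξ z = 1 from hz1])
    (by
      show (z ^ U.index) ^ p = 1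
      rw [← pow_mul, mul_comm, pow_mul, ← hzo', pow_orderOf_eq_one, one_pow])
  have h2 : p ∣ U.index := hzo' ▸ orderOf_dvd_of_pow_eq_one h1
  exact hU h2

/-- The Schur multiplier is trivial. -/
theorem multiplier_lie_trivial (hm : 2 ≤ m) :
    Cfsg.HasCyclicSchurMultiplier ↥(Cfsg.Lie.Sz F (2 ^ (m + 1))) 1 := by
  have : Finite ↥(Cfsg.Lie.Sz F (2 ^ (m + 1))) := Finite.of_equiv _ (minorEquiv h).toEquiv
  refine Schur.hasCyclicSchurMultiplier_one_of fun X _ ξ hs hc => ?_
  have := inf_commutator_eq_bot h ((minorEquiv h).symm.toMonoidHom.comp ξ)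
    ((minorEquiv h).symm.surjective.comp hs) (fun x hx => hc (by
      have : (minorEquiv h).symm (ξ x) = (minorEquiv h).symm 1 := by rw [map_one]; exact hx
      exact (minorEquiv h).symm.injective this)) hm
  rwa [show ((minorEquiv h).symm.toMonoidHom.comp ξ).ker = ξ.ker by
    ext x; simp [MonoidHom.mem_ker]] at this

end Cfsg.Agent.Suzuki
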