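import Mathlib.FieldTheory.Finite.Basic
import Mathlib.Algebra.CharP.Two
import Mathlib.Tactic

/-! The field with `2^(2m+1)` elements, the Tits endomorphism `θ`, and the form `f(x,y) = xy + x^(θ+2) + y^θ`. -/

namespace Cfsg.Agent.Suzuki

/-- Hypotheses on the field of definition of a Suzuki group. -/
structure SzField (F : Type*) [Field F] [Fintype F] (m : ℕ) : Prop where
  one_le : 1 ≤ m
  card : Fintype.card F = 2 ^ (2 * m + 1)

section defs

variable {F : Type*} [Field F]

/-- `θ x = x^(2^(m+1))`. -/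
def θ (m : ℕ) (x : F) : F := x ^ 2 ^ (m + 1)

/-- `r x = x^(2^m)`, so that `θ x = (r x)^2`. -/
def hθ (m : ℕ) (x : F) : F := x ^ 2 ^ m

/-- The first coordinate of the ovoid point with parameters `(x, y)`. -/
def fz (m : ℕ) (x y : F) : F := x * y + x ^ (2 ^ (m + 1) + 2) + y ^ (2 ^ (m + 1))

theorem fz_eq (m : ℕ) (x y : F) : fz m x y = x * y + θ m x * x ^ 2 + θ m y := by
  rw [fz, θ, θ, pow_add]

theorem θ_mul (m : ℕ) (x y : F) : θ m (x * y) = θ m x * θ m y := mul_pow _ _ _

theorem θ_inv (m : ℕ) (x : F) : θ m x⁻¹ = (θ m x)⁻¹ := inv_pow _ _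

theorem θ_pow (m : ℕ) (x : F) (n : ℕ) : θ m (x ^ n) = θ m x ^ n := by rw [θ, θ, pow_right_comm]

theorem θ_div (m : ℕ) (x y : F) : θ m (x / y) = θ m x / θ m y := div_pow _ _ _

@[simp] theorem θ_zero (m : ℕ) : θ m (0 : F) = 0 := zero_pow (by positivity)

@[simp] theorem θ_one (m : ℕ) : θ m (1 : F) = 1 := one_pow _

theorem hθ_sq (m : ℕ) (x : F) : hθ m x * hθ m x = θ m x := by
  rw [hθ, θ, ← pow_add]; congr 1; ring

theorem hθ_mul (m : ℕ) (x y : F) : hθ m (x * y) = hθ m x * hθ m y := mul_pow _ _ _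

@[simp] theorem hθ_one (m : ℕ) : hθ m (1 : F) = 1 := one_pow _

theorem hθ_ne_zero (m : ℕ) {x : F} (hx : x ≠ 0) : hθ m x ≠ 0 := pow_ne_zero _ hx

theorem θ_ne_zero (m : ℕ) {x : F} (hx : x ≠ 0) : θ m x ≠ 0 := pow_ne_zero _ hx

end defs

namespace SzField

variable {F : Type*} [Field F] [Fintype F] {m : ℕ} (h : SzField F m)

theorem charP (h : SzField F m) : CharP F 2 := by
  obtain ⟨p, hp⟩ := CharP.exists F
  have := hp
  obtain ⟨n, hn, hc⟩ := FiniteField.card F p
  rw [h.card] at hc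
  have h2 : 2 = p := by
    have : (2 : ℕ) ∣ p ^ (n : ℕ) := hc ▸ dvd_pow_self 2 (by omega)
    exact (Nat.prime_dvd_prime_iff_eq Nat.prime_two hn).mp (Nat.prime_two.dvd_of_dvd_pow this)
  exact h2 ▸ hp

include h

theorem two_eq_zero : (2 : F) = 0 := by
  have := h.charP
  exact CharTwo.two_eq_zero

theorem add_self (x : F) : x + x = 0 := by
  have := h.charP
  exact CharTwo.add_self_eq_zero x

theorem neg_eq (x : F) : -x = x := by
  have := h.charP
  exact CharTwo.neg_eq x

theorem sub_eq_add (x y : F) : x - y = x + y := by rw [sub_eq_add_neg, h.neg_eq]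

theorem eq_iff_add_eq_zero (x y : F) : x = y ↔ x + y = 0 := by
  rw [← h.sub_eq_add, sub_eq_zero]

theorem eight_le_card : 8 ≤ Fintype.card F := by
  rw [h.card]
  calc (8 : ℕ) = 2 ^ (2 * 1 + 1) := by norm_num
    _ ≤ _ := Nat.pow_le_pow_right (by norm_num) (by have := h.one_le; omega)

theorem θ_add (x y : F) : θ m (x + y) = θ m x + θ m y := by
  have := h.charP
  exact add_pow_char_pow x y 2 (m + 1)

theorem hθ_add (x y : F) : hθ m (x + y) = hθ m x + hθ m y := by
  have := h.charP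
  exact add_pow_char_pow x y 2 m

theorem θ_θ (x : F) : θ m (θ m x) = x ^ 2 := by
  rw [θ, θ, ← pow_mul, ← pow_add, show m + 1 + (m + 1) = (2 * m + 1) + 1 by ring, pow_succ 2 (2 * m + 1),
    pow_mul, ← h.card, FiniteField.pow_card]

theorem θ_hθ (x : F) : θ m (hθ m x) = x := by
  rw [θ, hθ, ← pow_mul, ← pow_add, show m + (m + 1) = 2 * m + 1 by ring, ← h.card, FiniteField.pow_card]

theorem hθ_θ (x : F) : hθ m (θ m x) = x := by
  rw [θ, hθ, ← pow_mul, ← pow_add, show m + 1 + m = 2 * m + 1 by ring, ← h.card, FiniteField.pow_card]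

theorem θ_injective : Function.Injective (θ m : F → F) := fun a b e => by
  rw [← h.hθ_θ a, ← h.hθ_θ b, e]

theorem θ_eq_zero {x : F} : θ m x = 0 ↔ x = 0 :=
  ⟨fun e => h.θ_injective (e.trans (θ_zero m).symm), fun e => by rw [e, θ_zero]⟩

theorem sq_eq_self {x : F} (hx : x ^ 2 = x) : x = 0 ∨ x = 1 := by
  have : x * (x - 1) = 0 := by rw [mul_sub, ← pow_two, hx, mul_one, sub_self]
  rcases mul_eq_zero.mp this with e | e
  · exact Or.inl e
  · exact Or.inr (sub_eq_zero.mp e)

/-- `θ` has only the fixed points `0` and `1`. -/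
theorem θ_eq_self {x : F} (hx : θ m x = x) : x = 0 ∨ x = 1 := by
  refine h.sq_eq_self ?_
  have := h.θ_θ x
  rw [hx, hx] at this
  exact this.symm

theorem add_θ_ne_one (t : F) : t + θ m t ≠ 1 := by
  intro e
  have h1 : θ m t + t ^ 2 = 1 := by
    have := congrArg (θ m) e
    rwa [h.θ_add, h.θ_θ, θ_one] at this
  have h2 : t ^ 2 = t := by linear_combination h1 - e
  rcases h.sq_eq_self h2 with rfl | rfl
  · simp at e
  · rw [θ_one, h.add_self] at e; exact zero_ne_one e

theorem fz_zero : fz m (0 : F) 0 = 0 := by simp [fz_eq]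

theorem fz_eq_zero {x y : F} (e : fz m x y = 0) : x = 0 ∧ y = 0 := by
  rw [fz_eq] at e
  by_cases hx : x = 0
  · subst hx
    simp [h.θ_eq_zero] at e
    exact ⟨rfl, e⟩
  · exfalso
    have hθx := θ_ne_zero m hx
    obtain ⟨t, rfl⟩ : ∃ t, y = t * (θ m x * x) :=
      ⟨y / (θ m x * x), by field_simp⟩
    rw [θ_mul, θ_mul, h.θ_θ] at e
    have e' : (x ^ 2 * θ m x) * (t + 1 + θ m t) = 0 := by linear_combination e
    rcases mul_eq_zero.mp e' with e'' | e''
    · exact mul_ne_zero (pow_ne_zero 2 hx) hθx e''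
    · apply h.add_θ_ne_one t
      linear_combination e'' - h.two_eq_zero

/-- Image of `(x, y)` under the inversion swapping the base points. -/
theorem fz_inversion {x y : F} (hz : fz m x y ≠ 0) :
    fz m (y / fz m x y) (x / fz m x y) = 1 / fz m x y := by
  set z := fz m x y with hzdef
  have hθz := θ_ne_zero m hz
  rw [fz_eq, θ_div, θ_div]
  field_simp
  have hθzv : θ m z = θ m x * θ m y + x ^ 2 * θ m x ^ 2 + y ^ 2 := by
    rw [hzdef, fz_eq, h.θ_add, h.θ_add, θ_mul, θ_mul, θ_pow, h.θ_θ, h.θ_θ]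
  rw [hθzv]
  have hzv : z = x * y + θ m x * x ^ 2 + θ m y := fz_eq m x y
  rw [hzv]
  linear_combination (y * x * θ m x * θ m y + y * x ^ 3 * θ m x ^ 2) * h.two_eq_zero

theorem card_units_natCard : Nat.card Fˣ = 2 ^ (2 * m + 1) - 1 := by
  rw [Nat.card_units, Nat.card_eq_fintype_card, h.card]

/-- `k ↦ θ(k) k` is a bijection of the nonzero elements. -/
theorem θ_mul_self_injective {k l : F} (hk : k ≠ 0) (hl : l ≠ 0) (e : θ m k * k = θ m l * l) : k = l := by
  have h1 : θ m (k / l) * (k / l) = 1 := by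
    rw [θ_div]; field_simp [θ_ne_zero m hl]; exact e
  set u := k / l
  have h2 : u ^ 2 * θ m u = 1 := by
    have := congrArg (θ m) h1
    rwa [θ_mul, h.θ_θ, θ_one] at this
  have hu : u = 1 := by
    have : u * (θ m u * u) = 1 := by linear_combination h2
    rwa [h1, mul_one] at this
  exact (div_eq_one_iff_eq hl).mp hu

theorem θ_mul_self_surjective (b : F) (hb : b ≠ 0) : ∃ k : F, k ≠ 0 ∧ θ m k * k = b := by
  let φ : Fˣ → Fˣ := fun k => Units.mk0 (θ m (k : F) * k) (mul_ne_zero (θ_ne_zero m k.ne_zero) k.ne_zero)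
  have hφ : Function.Injective φ := fun a c e => by
    apply Units.ext
    exact h.θ_mul_self_injective a.ne_zero c.ne_zero (congrArg Units.val e)
  obtain ⟨k, hk⟩ := Finite.surjective_of_injective hφ (Units.mk0 b hb)
  exact ⟨k, k.ne_zero, congrArg Units.val hk⟩

theorem exists_θ_ne : ∃ c : F, θ m c ≠ c := by
  by_contra hc
  push Not at hc
  have hsub : (Set.univ : Set F) ⊆ {0, 1} := fun x _ => by simpa using h.θ_eq_self (hc x)
  have := Set.ncard_le_ncard hsub
  rw [Set.ncard_univ, Nat.card_eq_fintype_card, Set.ncard_pair zero_ne_one] at this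
  have := h.eight_le_card
  omega

end SzField

end Cfsg.Agent.Suzuki
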