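import Cfsg.Prelude.Def_KGroupFacts
import Cfsg.Agent.Lib.Suzuki.Tori
import Cfsg.Agent.Lib.Suzuki.Minor

/-! Automorphisms of the Suzuki groups: inner times field automorphisms. -/

namespace Cfsg.Agent.Suzuki

open scoped Pointwise
open Polynomial

variable {F : Type*} [Field F] [Fintype F] {m : ℕ} (h : SzField F m)

include h

/-- A polynomial over the prime field whose roots are exactly the Galois conjugates of `k`. -/
theorem exists_conjugates_poly (k : F) :
    ∃ S : Finset ℕ, ∀ x : F, ∑ i ∈ S, x ^ i = ∏ j ∈ Finset.range (2 * m + 1), (x - k ^ 2 ^ j) := by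
  classical
  have := h.charP
  let g : F[X] := ∏ j ∈ Finset.range (2 * m + 1), (X - C (k ^ 2 ^ j))
  have hfrob : g.map (frobenius F 2) = g := by
    simp only [g, Polynomial.map_prod, Polynomial.map_sub, Polynomial.map_X, Polynomial.map_C, frobenius_def,
      ← pow_mul, ← pow_succ]
    rw [Finset.prod_range_succ, Finset.prod_range_succ' (n := 2 * m)]
    congr 1
    rw [pow_zero, pow_one, ← h.card, FiniteField.pow_card]
  have hcoeff : ∀ i, g.coeff i = 0 ∨ g.coeff i = 1 := by
    intro i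
    have := congrArg (fun p => Polynomial.coeff p i) hfrob
    simp only [Polynomial.coeff_map, frobenius_def] at this
    exact h.sq_eq_self this
  refine ⟨(Finset.range (g.natDegree + 1)).filter fun i => g.coeff i = 1, fun x => ?_⟩
  rw [show ∏ j ∈ Finset.range (2 * m + 1), (x - k ^ 2 ^ j) = g.eval x by
    simp only [g, Polynomial.eval_prod, Polynomial.eval_sub, Polynomial.eval_X, Polynomial.eval_C],
    Polynomial.eval_eq_sum_range, Finset.sum_filter]
  refine Finset.sum_congr rfl fun i _ => ?_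
  rcases hcoeff i with e | e <;> simp [e]

/-- A ring endomorphism of `F` is a power of the Frobenius map. -/
theorem exists_frobenius_pow (f : F →+* F) : ∃ j < 2 * m + 1, ∀ x, f x = x ^ 2 ^ j := by
  obtain ⟨k, hk⟩ := IsCyclic.exists_generator (α := Fˣ)
  obtain ⟨S, hS⟩ := exists_conjugates_poly h (k : F)
  have h0 : ∑ i ∈ S, (k : F) ^ i = 0 := by
    rw [hS]; exact Finset.prod_eq_zero (Finset.mem_range.mpr (show 0 < 2 * m + 1 by omega)) (by simp)
  have h1 : ∑ i ∈ S, f k ^ i = 0 := by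
    simp only [← map_pow, ← map_sum, h0, map_zero]
  rw [hS, Finset.prod_eq_zero_iff] at h1
  obtain ⟨j, hj, e⟩ := h1
  refine ⟨j, Finset.mem_range.mp hj, fun x => ?_⟩
  by_cases hx : x = 0
  · rw [hx, map_zero, zero_pow (by positivity)]
  obtain ⟨i, hi⟩ := Subgroup.mem_zpowers_iff.mp (hk (Units.mk0 x hx))
  have hx' : x = (k : F) ^ i := by
    rw [← Units.val_zpow_eq_zpow_val, hi, Units.val_mk0]
  rw [hx', map_zpow₀, sub_eq_zero.mp e, ← zpow_natCast, ← zpow_natCast, ← zpow_mul, ← zpow_mul, mul_comm]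

/-! ### Field automorphisms -/

/-- Entrywise action of a Frobenius power on `SL₄`. -/
def frobSL (j : ℕ) : Matrix.SpecialLinearGroup (Fin 4) F →* Matrix.SpecialLinearGroup (Fin 4) F :=
  haveI := h.charP
  Matrix.SpecialLinearGroup.map (iterateFrobenius F 2 j)

theorem frobSL_coe (j : ℕ) (g : Matrix.SpecialLinearGroup (Fin 4) F) :
    (frobSL h j g).1 = g.1.map (fun x => x ^ 2 ^ j) := by
  have := h.charP
  ext a b
  rfl

theorem frob_add (j : ℕ) (x y : F) : (x + y) ^ 2 ^ j = x ^ 2 ^ j + y ^ 2 ^ j := by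
  have := h.charP
  exact add_pow_char_pow x y 2 j

theorem frobSL_tEl (j : ℕ) (a b : F) : frobSL h j (tEl m a b) = tEl m (a ^ 2 ^ j) (b ^ 2 ^ j) := by
  apply Subtype.ext
  rw [frobSL_coe, tEl_coe, tEl_coe]
  ext r s
  fin_cases r <;> fin_cases s <;>
    simp [frob_add h, fz_eq, θ_pow, mul_pow, ← pow_mul, mul_comm]

theorem frobSL_hEl (j : ℕ) (k : Fˣ) : frobSL h j (hEl m k) = hEl m (k ^ 2 ^ j) := by
  apply Subtype.ext
  rw [frobSL_coe, hEl_coe, hEl_coe]
  ext r s
  fin_cases r <;> fin_cases s <;>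
    simp [hθ, mul_pow, ← pow_mul, mul_comm, inv_pow]

theorem frobSL_wEl (j : ℕ) : frobSL h j wEl = wEl := by
  apply Subtype.ext
  rw [frobSL_coe, wEl_coe]
  ext r s
  fin_cases r <;> fin_cases s <;> simp

theorem frobSL_mem (j : ℕ) (g : Cfsg.Sz F m) : frobSL h j g.1 ∈ Cfsg.Sz F m := by
  have hT : ∀ a b, frobSL h j (T h a b).1 ∈ Cfsg.Sz F m := fun a b => by
    rw [show (T h a b).1 = tEl m a b from rfl, frobSL_tEl]; exact tEl_mem h _ _
  have hH : ∀ k, frobSL h j (H h k).1 ∈ Cfsg.Sz F m := fun k => by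
    rw [show (H h k).1 = hEl m k from rfl, frobSL_hEl]; exact hEl_mem h _
  by_cases hg : g ∈ borel F m
  · obtain ⟨a, b, k, rfl⟩ := borel_form h hg
    rw [Subgroup.coe_mul, map_mul]
    exact (Cfsg.Sz F m).mul_mem (hT a b) (hH k)
  · obtain ⟨x, y, a, b, k, rfl⟩ := bruhat h hg
    simp only [Subgroup.coe_mul, map_mul]
    refine (Cfsg.Sz F m).mul_mem ((Cfsg.Sz F m).mul_mem (hT x y) ?_) ((Cfsg.Sz F m).mul_mem (hT a b) (hH k))
    rw [show (W h).1 = (wEl : Matrix.SpecialLinearGroup (Fin 4) F) from rfl, frobSL_wEl]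
    exact wEl_mem h

/-- Field endomorphism of the Suzuki group. -/
def frobHom (j : ℕ) : Cfsg.Sz F m →* Cfsg.Sz F m :=
  ((frobSL h j).comp (Cfsg.Sz F m).subtype).codRestrict _ (frobSL_mem h j)

theorem frobHom_injective (j : ℕ) : Function.Injective (frobHom h j) := by
  intro x y e
  have := h.charP
  have e' := congrArg (fun z : Cfsg.Sz F m => z.1.1) e
  simp only [show ∀ z, (frobHom h j z).1 = frobSL h j z.1 from fun _ => rfl, frobSL_coe] at e'
  refine Subtype.ext (Subtype.ext (Matrix.ext fun a b => ?_))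
  exact iterateFrobenius_inj F 2 j (congrFun (congrFun e' a) b)

/-- Field automorphism of the Suzuki group. -/
noncomputable def frobAut (j : ℕ) : MulAut (Cfsg.Sz F m) :=
  MulEquiv.ofBijective (frobHom h j) ⟨frobHom_injective h j, Finite.surjective_of_injective (frobHom_injective h j)⟩

theorem frobAut_T (j : ℕ) (a b : F) : frobAut h j (T h a b) = T h (a ^ 2 ^ j) (b ^ 2 ^ j) :=
  Subtype.ext (frobSL_tEl h j a b)

theorem frobAut_H (j : ℕ) (k : Fˣ) : frobAut h j (H h k) = H h (k ^ 2 ^ j) :=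
  Subtype.ext (frobSL_hEl h j k)

theorem frobAut_W (j : ℕ) : frobAut h j (W h) = W h := Subtype.ext (frobSL_wEl h j)

/-! ### Normalising an automorphism -/

theorem aut_borel {α : MulAut (Cfsg.Sz F m)} (hR : ∀ x ∈ rootGroup h, α x ∈ rootGroup h) :
    ∀ x ∈ borel F m, α x ∈ borel F m := by
  intro x hx
  rw [← normalizer_rootGroup h] at hx
  refine fix_pinf_of_conj_mem h (hR _ (⟨0, 1, rfl⟩ : T h 0 1 ∈ rootGroup h)) (fun e => ?_) ?_
  · rw [EmbeddingLike.map_eq_one_iff] at e
    exact one_ne_zero ((eq_one_iff_T h).mp e).2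
  · rw [← map_inv, ← map_mul, ← map_mul]
    exact hR _ ((Subgroup.mem_normalizer_iff.mp hx _).mp ⟨0, 1, rfl⟩)

theorem exists_gen : ∃ k : Fˣ, (∀ x : Fˣ, ∃ i : ℕ, k ^ i = x) ∧ k ≠ 1 ∧ orderOf k = 2 ^ (2 * m + 1) - 1 := by
  obtain ⟨k, hk⟩ := IsCyclic.exists_generator (α := Fˣ)
  have hord : orderOf k = 2 ^ (2 * m + 1) - 1 := by
    rw [← h.card_units_natCard]; exact orderOf_eq_card_of_forall_mem_zpowers hk
  refine ⟨k, fun x => (mem_powers_iff_mem_zpowers.mpr (hk x) : x ∈ Submonoid.powers k), fun e => ?_, hord⟩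
  rw [e, orderOf_one] at hord
  have := h.eight_le_card
  rw [h.card] at this
  omega

theorem exists_normalised (α : MulAut (Cfsg.Sz F m)) :
    ∃ u, (∀ x ∈ rootGroup h, u * α x * u⁻¹ ∈ rootGroup h) ∧ ∀ x ∈ torus h, u * α x * u⁻¹ ∈ torus h := by
  have : Fact (Nat.Prime 2) := ⟨Nat.prime_two⟩
  obtain ⟨g, hg⟩ := exists_conj_isPGroup_le h ((isPGroup_rootGroup h).map α.toMonoidHom)
  have hR : ∀ x ∈ rootGroup h, g * α x * g⁻¹ ∈ rootGroup h := fun x hx => hg _ ⟨x, hx, rfl⟩
  let β : MulAut (Cfsg.Sz F m) := MulAut.conj g * α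
  have hβ : ∀ x, β x = g * α x * g⁻¹ := fun x => rfl
  obtain ⟨k, hk, hk1, hord⟩ := exists_gen h
  set x := β (H h k) with hx
  have hxb : x ∈ borel F m := aut_borel h (fun y hy => hR y hy) _ (H_mem_borel h k)
  have hxo : orderOf x = 2 ^ (2 * m + 1) - 1 := by
    rw [hx, MulEquiv.orderOf_eq, show H h k = HHom h k from rfl, orderOf_injective _ (H_injective h), hord]
  have hx1 : x ≠ 1 := by
    rw [hx, Ne, EmbeddingLike.map_eq_one_iff, ← H_one h]
    exact fun e => hk1 (H_injective h e)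
  obtain ⟨v, hv⟩ : ∃ v, v * x * v⁻¹ ∈ torus h := by
    rcases classify h hx1 with ⟨v, hv⟩ | hv | ⟨C, hC, hxC⟩
    · exfalso
      refine hx1 (orderOf_eq_one_iff.mp (Nat.eq_one_of_dvd_coprimes (coprime_three (m := m)).1 ?_ (dvd_of_eq hxo)))
      rw [← orderOf_conj_eq v x]
      exact orderOf_dvd_root h hv
    · exact hv
    · exact absurd hxb (fun e => fixFree_of_mem_member h hC hxC hx1 _ pinf_mem e)
  obtain ⟨l, hl⟩ := (mem_torus h).mp hv
  have hl1 : l ≠ 1 := by
    rintro rfl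
    rw [H_one, conj_eq_one_iff] at hl
    exact hx1 hl
  -- the second fixed point of `x`
  obtain ⟨p, hp, hpne, hxp⟩ : ∃ p ∈ Cfsg.suzukiOvoid F m, p ≠ Cfsg.suzukiPointInfinity F ∧ x • p = p := by
    have hfix : ∀ p : Projectivization F (Fin 4 → F), H h l • p = p → x • v⁻¹ • p = v⁻¹ • p := fun p e => by
      rw [← hl, mul_smul, mul_smul] at e
      rw [eq_inv_smul_iff]; exact e
    by_cases e : v⁻¹ • Cfsg.suzukiPointInfinity F = Cfsg.suzukiPointInfinity F
    · refine ⟨v⁻¹ • pt m (0 : F) 0, smul_mem_ovoid _ (pt_mem _ _), fun e' => ?_, hfix _ (H_smul_pt_zero h l)⟩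
      exact pt_ne_pinf (m := m) (0 : F) 0 (smul_left_cancel v⁻¹ (e'.trans e.symm))
    · exact ⟨_, smul_mem_ovoid _ pinf_mem, e, hfix _ (H_smul_pinf h l)⟩
  obtain ⟨c, d, rfl⟩ := (mem_ovoid.mp hp).resolve_left hpne
  refine ⟨(T h c d)⁻¹ * g, fun y hy => ?_, fun y hy => ?_⟩
  · have h1 := (rootGroup h).mul_mem ((rootGroup h).mul_mem ((rootGroup h).inv_mem ⟨c, d, rfl⟩) (hR y hy))
      (⟨c, d, rfl⟩ : T h c d ∈ rootGroup h)
    convert! h1 using 1
    group
  · obtain ⟨w, rfl⟩ := (mem_torus h).mp hy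
    obtain ⟨i, rfl⟩ := hk w
    obtain ⟨l', hl'⟩ := fix_two h (g := (T h c d)⁻¹ * x * T h c d)
      (by rw [mul_smul, mul_smul, T_smul_pinf, show x • Cfsg.suzukiPointInfinity F = Cfsg.suzukiPointInfinity F from hxb,
        inv_smul_eq_iff, T_smul_pinf])
      (by rw [mul_smul, mul_smul, T_smul_pt_zero, hxp, inv_smul_eq_iff, T_smul_pt_zero])
    have e : (T h c d)⁻¹ * g * α (H h (k ^ i)) * ((T h c d)⁻¹ * g)⁻¹ = ((T h c d)⁻¹ * x * T h c d) ^ i := by
      have hbi : β (H h (k ^ i)) = x ^ i := by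
        rw [hx, ← map_pow, ← show H h (k ^ i) = H h k ^ i from (HHom h).map_pow k i]
      calc (T h c d)⁻¹ * g * α (H h (k ^ i)) * ((T h c d)⁻¹ * g)⁻¹
          = (T h c d)⁻¹ * (g * α (H h (k ^ i)) * g⁻¹) * T h c d := by group
        _ = (T h c d)⁻¹ * x ^ i * T h c d := by rw [← hβ, hbi]
        _ = ((T h c d)⁻¹ * x * T h c d) ^ i := by
            have := (conj_pow (a := (T h c d)⁻¹) (b := x) (i := i)).symm
            simpa using this
    rw [e, hl']
    exact (torus h).pow_mem ((mem_torus h).mpr ⟨l', rfl⟩) i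

/-- An automorphism fixing the Borel subgroup pointwise is trivial. -/
theorem eq_self_of_fix_borel {α : MulAut (Cfsg.Sz F m)} (hT : ∀ a b, α (T h a b) = T h a b)
    (hH : ∀ k, α (H h k) = H h k) : ∀ g, α g = g := by
  obtain ⟨k, -, hk1, -⟩ := exists_gen h
  have hw : W h * α (W h) ∈ torus h := by
    rcases card_normalizer_torus_le h (α (W h)) (by
      rw [Subgroup.mem_normalizer_iff]
      have hpush : ∀ y ∈ torus h, α (W h) * y * (α (W h))⁻¹ ∈ torus h := fun y hy => by
        obtain ⟨l, rfl⟩ := (mem_torus h).mp hy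
        rw [← hH l, ← map_inv, ← map_mul, ← map_mul, W_inv, W_conj_H, hH]
        exact (mem_torus h).mpr ⟨_, rfl⟩
      intro y
      refine ⟨hpush y, fun hy => ?_⟩
      have h2 := hpush _ hy
      have hinv : (α (W h))⁻¹ = α (W h) := by rw [← map_inv, W_inv]
      rw [hinv] at h2
      have hsq : α (W h) * α (W h) = 1 := by rw [← map_mul, W_mul_self, map_one]
      rw [show α (W h) * (α (W h) * y * α (W h)) * α (W h) = (α (W h) * α (W h)) * y * (α (W h) * α (W h)) by group,
        hsq, one_mul, mul_one] at h2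
      exact h2) with e | e
    · exfalso
      obtain ⟨l, hl⟩ := (mem_torus h).mp e
      have : W h = H h l := α.injective (by rw [hl, hH])
      exact exists_factor_not_borel h (this ▸ H_mem_borel h l)
    · exact e
  obtain ⟨l, hl⟩ := (mem_torus h).mp hw
  have hWl : α (W h) = W h * H h l := by rw [← hl, ← mul_assoc, W_mul_self, one_mul]
  have hpinf : ∀ g, α g • Cfsg.suzukiPointInfinity F = g • Cfsg.suzukiPointInfinity F := by
    intro g
    by_cases hg : g ∈ borel F m
    · obtain ⟨a, b, k, rfl⟩ := borel_form h hg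
      rw [map_mul, hT, hH]
    · obtain ⟨x, y, a, b, k, rfl⟩ := bruhat h hg
      simp only [map_mul, hT, hH, hWl, mul_smul, H_smul_pinf, T_smul_pinf]
  intro g
  have hall : ∀ p ∈ Cfsg.suzukiOvoid F m, (g⁻¹ * α g) • p = p := by
    intro p hp
    obtain ⟨u, rfl⟩ := exists_smul_pinf h hp
    calc (g⁻¹ * α g) • u • Cfsg.suzukiPointInfinity F
        = g⁻¹ • α g • α u • Cfsg.suzukiPointInfinity F := by rw [mul_smul, hpinf u]
      _ = g⁻¹ • α (g * u) • Cfsg.suzukiPointInfinity F := by rw [map_mul, mul_smul (α g)]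
      _ = u • Cfsg.suzukiPointInfinity F := by rw [hpinf, mul_smul, inv_smul_smul]
  have := fix_three h pinf_mem (pt_mem (m := m) (0 : F) 0) (pt_mem (m := m) (1 : F) 0)
    (pt_ne_pinf _ _).symm (fun e => zero_ne_one (pt_inj e).1) (pt_ne_pinf _ _).symm
    (hall _ pinf_mem) (hall _ (pt_mem _ _)) (hall _ (pt_mem _ _))
  exact (inv_mul_eq_one.mp this).symm

theorem exists_inner_mul_frob (α : MulAut (Cfsg.Sz F m)) :
    ∃ j < 2 * m + 1, ∃ u, α = MulAut.conj u * frobAut h j := by
  obtain ⟨u, hR, hTo⟩ := exists_normalised h α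
  -- coordinates of the normalised automorphism
  have hA : ∀ a b, ∃ c d, u * α (T h a b) * u⁻¹ = T h c d := fun a b => hR _ ⟨a, b, rfl⟩
  choose A B hAB using hA
  have hE : ∀ k, ∃ l, u * α (H h k) * u⁻¹ = H h l := fun k => (mem_torus h).mp (hTo _ ((mem_torus h).mpr ⟨k, rfl⟩))
  choose E hEk using hE
  let β : MulAut (Cfsg.Sz F m) := MulAut.conj u * α
  have hβ : ∀ x, β x = u * α x * u⁻¹ := fun x => rfl
  have hβT : ∀ a b, β (T h a b) = T h (A a b) (B a b) := hAB
  have hβH : ∀ k, β (H h k) = H h (E k) := hEk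
  -- central elements go to central elements
  have hA0 : ∀ b, A 0 b = 0 := fun b => by
    have h1 : β (T h 0 b) * β (T h 0 b) = 1 := by rw [← map_mul, T_sq, θ_zero, zero_mul, T_zero, map_one]
    rw [hβT, T_sq] at h1
    rcases mul_eq_zero.mp ((eq_one_iff_T h).mp h1).2 with e | e
    · exact h.θ_eq_zero.mp e
    · exact e
  have hAind : ∀ a b, A a b = A a 0 := fun a b => by
    have h1 : β (T h a b) = β (T h 0 b) * β (T h a 0) := by rw [← map_mul, T_zero_mul, add_zero]
    rw [hβT, hβT, hβT, hA0, T_zero_mul] at h1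
    exact (T_injective h h1).1
  have hAadd : ∀ a a', A (a + a') 0 = A a 0 + A a' 0 := fun a a' => by
    have h1 : β (T h a 0) * β (T h a' 0) = β (T h (a + a') (0 + 0 + θ m a * a')) := by rw [← map_mul, T_mul]
    rw [hβT, hβT, hβT, T_mul] at h1
    exact ((T_injective h h1).1.trans (hAind _ _)).symm
  have hAmul : ∀ (k : Fˣ) a, A ((k : F) * a) 0 = (E k : F) * A a 0 := fun k a => by
    have h1 : β (H h k * T h a 0 * (H h k)⁻¹) = H h (E k) * T h (A a 0) (B a 0) * (H h (E k))⁻¹ := by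
      rw [map_mul, map_mul, map_inv, hβT, hβH]
    rw [H_conj_T, H_conj_T, hβT, mul_zero] at h1
    exact (T_injective h h1).1
  have hc : A 1 0 ≠ 0 := fun e => by
    have h1 : β (T h 1 0) * β (T h 1 0) = 1 := by rw [hβT, T_sq, e, θ_zero, zero_mul, T_zero]
    rw [← map_mul, EmbeddingLike.map_eq_one_iff] at h1
    exact T_one_zero_sq_ne h h1
  set c := A 1 0 with hcdef
  have hEmul : ∀ k l, E (k * l) = E k * E l := fun k l => by
    have h1 : β (H h (k * l)) = β (H h k) * β (H h l) := by rw [H_mul, map_mul]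
    rw [hβH, hβH, hβH, ← H_mul] at h1
    exact H_injective h h1
  let f : F →+* F :=
    { toFun := fun a => A a 0 / c
      map_one' := div_self hc
      map_zero' := by show A 0 0 / c = 0; rw [hA0, zero_div]
      map_add' := fun a a' => by show A (a + a') 0 / c = _; rw [hAadd, add_div]
      map_mul' := fun a a' => by
        show A (a * a') 0 / c = A a 0 / c * (A a' 0 / c)
        by_cases ha : a = 0
        · simp [ha, hA0]
        have e1 := hAmul (Units.mk0 a ha) a'
        have e2 := hAmul (Units.mk0 a ha) 1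
        rw [Units.val_mk0] at e1 e2
        rw [mul_one, ← hcdef] at e2
        rw [e1, e2]
        field_simp }
  obtain ⟨j, hj, hf⟩ := exists_frobenius_pow h f
  have hAf : ∀ a, A a 0 = c * a ^ 2 ^ j := fun a => by
    rw [← hf]; show A a 0 = c * (A a 0 / c); field_simp
  have hEf : ∀ k, (E k : F) = (k : F) ^ 2 ^ j := fun k => by
    have h1 := hAmul k 1
    rw [mul_one, hAf, hAf, one_pow, mul_one] at h1
    exact (mul_left_cancel₀ hc (h1.trans (mul_comm _ _))).symm
  refine ⟨j, hj, u⁻¹ * H h (Units.mk0 c hc), ?_⟩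
  -- what remains fixes the Borel subgroup
  let γ : MulAut (Cfsg.Sz F m) := (MulAut.conj (H h (Units.mk0 c hc)) * frobAut h j)⁻¹ * β
  have hγ : ∀ x y, β x = H h (Units.mk0 c hc) * frobAut h j y * (H h (Units.mk0 c hc))⁻¹ → γ x = y := by
    intro x y e
    show (MulAut.conj (H h (Units.mk0 c hc)) * frobAut h j).symm (β x) = y
    rw [MulEquiv.symm_apply_eq, e]
    rfl
  have hγH : ∀ k, γ (H h k) = H h k := fun k => hγ _ _ (by
    rw [frobAut_H, hβH, H_inv, ← H_mul, ← H_mul]
    congr 1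
    rw [mul_comm (Units.mk0 c hc), mul_inv_cancel_right]
    exact Units.ext (by rw [hEf, Units.val_pow_eq_pow_val]))
  have hex : ∀ a b, ∃ d, γ (T h a b) = T h a d := by
    intro a b
    have hl0 : θ m c * c ≠ 0 := mul_ne_zero (θ_ne_zero m hc) hc
    have : Function.Surjective (fun x : F => x ^ 2 ^ j) := by
      have := h.charP
      exact Finite.surjective_of_injective (iterateFrobenius_inj F 2 j)
    obtain ⟨d, hd⟩ := this (B a b / (θ m c * c))
    refine ⟨d, hγ _ _ ?_⟩
    rw [frobAut_T, H_conj_T, Units.val_mk0, hβT, hAind, hAf]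
    simp only at hd
    rw [hd, mul_div_cancel₀ _ hl0]
  choose D hD using hex
  have hD0 : ∀ b, D 0 b = b := by
    have hone : D 0 1 = 1 := by
      have h1 : γ (T h 1 0) * γ (T h 1 0) = γ (T h 0 1) := by rw [← map_mul, T_sq, θ_one, one_mul]
      rw [hD, hD, T_sq, θ_one, one_mul] at h1
      exact (T_injective h h1).2.symm
    intro b
    by_cases hb : b = 0
    · have h1 : γ (T h 0 0) = 1 := by rw [T_zero, map_one]
      rw [hD, eq_one_iff_T] at h1
      subst hb; exact h1.2
    obtain ⟨k, hk0, hk⟩ := h.θ_mul_self_surjective b hb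
    have e1 : H h (Units.mk0 k hk0) * T h 0 1 * (H h (Units.mk0 k hk0))⁻¹ = T h 0 b := by
      rw [H_conj_zero, Units.val_mk0, hk, mul_one]
    have h1 := congrArg γ e1
    rw [map_mul, map_mul, map_inv, hγH, hD, hD, hone, e1] at h1
    exact (T_injective h h1).2.symm
  have hsplit : ∀ a b, D a b = b + D a 0 := fun a b => by
    have h1 : γ (T h a b) = γ (T h 0 b) * γ (T h a 0) := by rw [← map_mul, T_zero_mul, add_zero]
    rw [hD, hD, hD, hD0, T_zero_mul] at h1
    exact (T_injective h h1).2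
  have hDz : ∀ a, D a 0 = 0 := by
    have hscale : ∀ (k : Fˣ) a, D ((k : F) * a) 0 = θ m (k : F) * k * D a 0 := fun k a => by
      have h1 : γ (H h k * T h a 0 * (H h k)⁻¹) = H h k * T h a (D a 0) * (H h k)⁻¹ := by
        rw [map_mul, map_mul, map_inv, hγH, hD]
      rw [H_conj_T, H_conj_T, hD, mul_zero] at h1
      exact (T_injective h h1).2
    have hadd : ∀ a a', D (a + a') 0 = D a 0 + D a' 0 := fun a a' => by
      have h1 : γ (T h a 0) * γ (T h a' 0) = γ (T h (a + a') (0 + 0 + θ m a * a')) := by rw [← map_mul, T_mul]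
      rw [hD, hD, hD, T_mul] at h1
      have h2 := (T_injective h h1).2
      rw [hsplit (a + a')] at h2
      linear_combination -h2
    have h1 : D 1 0 = 0 := by
      obtain ⟨c', hc'⟩ := h.exists_θ_ne
      have hc0 : c' ≠ 0 := fun e => hc' (by rw [e, θ_zero])
      have hc1 : c' + 1 ≠ 0 := fun e => hc' (by rw [(h.eq_iff_add_eq_zero _ _).mpr e, θ_one])
      have e1 := hscale (Units.mk0 _ hc1) 1
      have e2 := hscale (Units.mk0 _ hc0) 1
      rw [Units.val_mk0, mul_one] at e1 e2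
      rw [hadd, e2, h.θ_add, θ_one] at e1
      have e3 : (θ m c' + c') * D 1 0 = 0 := by linear_combination -e1
      exact (mul_eq_zero.mp e3).resolve_left fun e => hc' ((h.eq_iff_add_eq_zero _ _).mpr e)
    intro a
    by_cases ha : a = 0
    · subst ha; exact hD0 0
    · have := hscale (Units.mk0 a ha) 1
      rwa [Units.val_mk0, mul_one, h1, mul_zero] at this
  have hid := eq_self_of_fix_borel h (α := γ) (fun a b => by rw [hD, hsplit, hDz, add_zero]) hγH
  have hγ1 : γ = 1 := MulEquiv.ext hid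
  have hβeq : β = MulAut.conj (H h (Units.mk0 c hc)) * frobAut h j := (inv_mul_eq_one.mp hγ1).symm
  calc α = (MulAut.conj u)⁻¹ * β := (inv_mul_cancel_left _ _).symm
    _ = MulAut.conj (u⁻¹ * H h (Units.mk0 c hc)) * frobAut h j := by rw [hβeq, map_mul, map_inv, mul_assoc]

theorem frob_unique {i j : ℕ} (hi : i < 2 * m + 1) (hj : j < 2 * m + 1) {u : Cfsg.Sz F m}
    (e : frobAut h j = MulAut.conj u * frobAut h i) : i = j := by
  obtain ⟨k, -, -, hord⟩ := exists_gen h
  have hu : u ∈ borel F m := by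
    have e1 := DFunLike.congr_fun e (T h 0 1)
    simp only [MulAut.mul_apply, MulAut.conj_apply, frobAut_T, zero_pow (Nat.two_pow_pos _).ne', one_pow] at e1
    refine fix_pinf_of_conj_mem h (⟨0, 1, rfl⟩ : T h 0 1 ∈ rootGroup h) (fun e => ?_) (by rw [← e1]; exact ⟨0, 1, rfl⟩)
    exact one_ne_zero ((eq_one_iff_T h).mp e).2
  obtain ⟨a, b, l, rfl⟩ := borel_form h hu
  have e2 := DFunLike.congr_fun e (H h k)
  simp only [MulAut.mul_apply, MulAut.conj_apply, frobAut_H] at e2
  have e3 : T h 0 0 * H h (k ^ 2 ^ j) * T h a b = T h a b * H h (k ^ 2 ^ i) := by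
    rw [T_zero, one_mul, e2, show T h a b * H h l * H h (k ^ 2 ^ i) * (T h a b * H h l)⁻¹ * T h a b =
      T h a b * (H h l * H h (k ^ 2 ^ i) * (H h l)⁻¹) by group, H_inv, ← H_mul, ← H_mul,
      mul_comm l, mul_inv_cancel_right]
  rw [mul_assoc, show H h (k ^ 2 ^ j) * T h a b =
    (H h (k ^ 2 ^ j) * T h a b * (H h (k ^ 2 ^ j))⁻¹) * H h (k ^ 2 ^ j) by group, H_conj_T, ← mul_assoc, T_mul] at e3
  have e4 := (TH_unique h e3).2.2
  have hlt : ∀ r < 2 * m + 1, 2 ^ r < 2 ^ (2 * m + 1) - 1 := by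
    intro r hr
    have h1 : 2 ^ r ≤ 2 ^ (2 * m) := Nat.pow_le_pow_right (by norm_num) (by omega)
    have h2 : 2 ^ 2 ≤ 2 ^ (2 * m) := Nat.pow_le_pow_right (by norm_num) (by have := h.one_le; omega)
    rw [pow_succ 2 (2 * m)]
    omega
  have := pow_injOn_Iio_orderOf (x := k) (by rw [hord]; exact hlt j hj) (by rw [hord]; exact hlt i hi) e4
  exact (Nat.pow_right_injective le_rfl this).symm

theorem card_out : Nat.card (Cfsg.Out (Cfsg.Sz F m)) = 2 * m + 1 := by
  let f : Fin (2 * m + 1) → Cfsg.Out (Cfsg.Sz F m) := fun j => QuotientGroup.mk (frobAut h j)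
  have hf : Function.Bijective f := by
    constructor
    · intro i j e
      obtain ⟨v, hv⟩ := QuotientGroup.eq.mp e
      refine Fin.ext (frob_unique h i.2 j.2 (u := frobAut h i v) ?_)
      have e' : frobAut h j = frobAut h i * MulAut.conj v := by rw [hv, mul_inv_cancel_left]
      rw [e']
      refine MulEquiv.ext fun x => ?_
      simp only [MulAut.mul_apply, MulAut.conj_apply, map_mul, map_inv]
    · intro q
      induction q using QuotientGroup.induction_on with | _ α => ?_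
      obtain ⟨j, hj, u, rfl⟩ := exists_inner_mul_frob h α
      refine ⟨⟨j, hj⟩, ?_⟩
      show QuotientGroup.mk (frobAut h j) = QuotientGroup.mk (MulAut.conj u * frobAut h j)
      rw [QuotientGroup.eq]
      refine ⟨(frobAut h j).symm u, MulEquiv.ext fun x => (frobAut h j).injective ?_⟩
      simp [MulAut.mul_apply, MulAut.conj_apply, mul_assoc]
  rw [← Nat.card_eq_of_bijective f hf, Nat.card_fin]

omit [Fintype F] h in
theorem card_out_congr {A B : Type*} [Group A] [Group B] (e : A ≃* B) :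
    Nat.card (Cfsg.Out B) = Nat.card (Cfsg.Out A) := by
  have hmap : (Cfsg.Inn A).map (MulAut.congr e).toMonoidHom = Cfsg.Inn B := by
    ext φ
    constructor
    · rintro ⟨_, ⟨a, rfl⟩, rfl⟩
      exact ⟨e a, MulEquiv.ext fun x => by simp [MulAut.congr, MulAut.conj_apply]⟩
    · rintro ⟨b, rfl⟩
      exact ⟨_, ⟨e.symm b, rfl⟩, MulEquiv.ext fun x => by simp [MulAut.congr, MulAut.conj_apply]⟩
  exact (Nat.card_congr (QuotientGroup.congr _ _ (MulAut.congr e) hmap).toEquiv).symm

end Cfsg.Agent.Suzuki
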