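import Cfsg.Agent.Lib.Suzuki.Tori

/-! The maximal solvable subgroups of the Suzuki groups: point stabilisers and torus normalisers. -/

namespace Cfsg.Agent.Suzuki

open scoped Pointwise commutatorElement

set_option linter.unusedSectionVars false

variable {F : Type*} [Field F] [Fintype F] {m : ℕ} (h : SzField F m)

/-- Common features of the three kinds of maximal tori. -/
structure TorType (C : Subgroup (Cfsg.Sz F m)) (e : ℕ) : Prop where
  ti : ∀ c ∈ C, c ≠ 1 → Subgroup.centralizer {c} = C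
  comm : ∀ a ∈ C, ∀ b ∈ C, a * b = b * a
  odd : ¬ 2 ∣ Nat.card C
  one_lt : 1 < Nat.card C
  he : e = 2 ∨ e = 4
  card_normalizer : Nat.card (Subgroup.normalizer (C : Set (Cfsg.Sz F m))) = e * Nat.card C

/-- Image of a subgroup under conjugation. -/
abbrev conjSub (g : Cfsg.Sz F m) (C : Subgroup (Cfsg.Sz F m)) : Subgroup (Cfsg.Sz F m) :=
  C.map (MulAut.conj g).toMonoidHom

theorem mem_conjSub {g x : Cfsg.Sz F m} {C : Subgroup (Cfsg.Sz F m)} :
    x ∈ conjSub g C ↔ g⁻¹ * x * g ∈ C := by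
  rw [Subgroup.mem_map_equiv, MulAut.conj_symm_apply]

theorem normalizer_conjSub (g : Cfsg.Sz F m) (C : Subgroup (Cfsg.Sz F m)) :
    Subgroup.normalizer (conjSub g C : Set (Cfsg.Sz F m)) = conjSub g (Subgroup.normalizer (C : Set (Cfsg.Sz F m))) :=
  (Subgroup.map_normalizer_eq_of_bijective C (f := (MulAut.conj g).toMonoidHom) (MulAut.conj g).bijective).symm

include h

theorem TorType.conj {C : Subgroup (Cfsg.Sz F m)} {e : ℕ} (hC : TorType C e) (g : Cfsg.Sz F m) :
    TorType (conjSub g C) e := by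
  have hinj := (MulAut.conj g).injective
  refine ⟨fun c hc hc1 => ?_, fun a ha b hb => ?_, ?_, ?_, hC.he, ?_⟩
  · rw [mem_conjSub] at hc
    have hne : g⁻¹ * c * g ≠ 1 := fun e => hc1 (by
      calc c = g * (g⁻¹ * c * g) * g⁻¹ := by group
        _ = 1 := by rw [e]; group)
    ext w
    rw [mem_conjSub, ← hC.ti _ hc hne, ← centralizer_conj_mem h,
      show g * (g⁻¹ * c * g) * g⁻¹ = c by group]
  · obtain ⟨a', ha', rfl⟩ := ha
    obtain ⟨b', hb', rfl⟩ := hb
    simp only [MulEquiv.coe_toMonoidHom, ← map_mul]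
    rw [hC.comm a' ha' b' hb']
  · rw [Subgroup.card_map_of_injective hinj]; exact hC.odd
  · rw [Subgroup.card_map_of_injective hinj]; exact hC.one_lt
  · rw [normalizer_conjSub, Subgroup.card_map_of_injective hinj, Subgroup.card_map_of_injective hinj]
    exact hC.card_normalizer

theorem torType_member {C : Subgroup (Cfsg.Sz F m)} (hC : IsMember C) : TorType C 4 := by
  refine ⟨member_ti h hC, fun a ha b hb => member_comm h hC ha hb, fun hd => ?_, ?_, Or.inr rfl, ?_⟩
  · exact (prime_q_sq_facts (m := m) Nat.prime_two (hd.trans (member_card_dvd h hC))).1 rfl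
  · have := five_le_card h hC; omega
  · obtain ⟨A, B, -, -, -, -, hNA, hNB, hall⟩ := exists_tori h
    have key : ∀ D : Subgroup (Cfsg.Sz F m), Nat.card (Subgroup.normalizer (D : Set (Cfsg.Sz F m))) = 4 * Nat.card D → ConjTo D C →
        Nat.card (Subgroup.normalizer (C : Set (Cfsg.Sz F m))) = 4 * Nat.card C := by
      rintro D hD ⟨u, hu⟩
      have hCD : C = conjSub u⁻¹ D := by
        ext x; rw [mem_conjSub, hu x, inv_inv]
      rw [hCD, normalizer_conjSub, Subgroup.card_map_of_injective (MulAut.conj u⁻¹).injective,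
        Subgroup.card_map_of_injective (MulAut.conj u⁻¹).injective, hD]
    rcases hall C hC with e | e
    · exact key A hNA e
    · exact key B hNB e

theorem card_normalizer_torus :
    Nat.card (Subgroup.normalizer (torus h : Set (Cfsg.Sz F m))) = 2 * Nat.card (torus h) := by
  have hW : ∀ y ∈ torus h, W h * y * (W h)⁻¹ ∈ torus h := by
    intro y hy
    obtain ⟨k, rfl⟩ := (mem_torus h).mp hy
    rw [W_inv, W_conj_H]
    exact (mem_torus h).mpr ⟨_, rfl⟩
  have hWn : W h ∈ Subgroup.normalizer (torus h : Set (Cfsg.Sz F m)) := by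
    rw [Subgroup.mem_normalizer_iff]
    refine fun y => ⟨hW y, fun hy => ?_⟩
    have := hW _ hy
    rwa [W_inv, show W h * (W h * y * W h) * W h = (W h * W h) * y * (W h * W h) by group, W_mul_self, one_mul,
      mul_one] at this
  have hWT : W h ∉ torus h := fun e => by
    obtain ⟨k, hk⟩ := (mem_torus h).mp e
    exact exists_factor_not_borel h (hk ▸ H_mem_borel h k)
  set N := Subgroup.normalizer (torus h : Set (Cfsg.Sz F m))
  let f : Bool × torus h → N := fun p =>
    if p.1 then ⟨W h * p.2.1, N.mul_mem hWn (Subgroup.le_normalizer p.2.2)⟩ else ⟨p.2.1, Subgroup.le_normalizer p.2.2⟩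
  have hf : Function.Bijective f := by
    constructor
    · rintro ⟨_ | _, x⟩ ⟨_ | _, y⟩ e <;> simp only [f, Subtype.mk.injEq, if_true, if_false, Bool.false_eq_true] at e
      · exact congrArg (Prod.mk false) (Subtype.ext e)
      · exact absurd (by rw [eq_mul_inv_of_mul_eq e.symm]; exact (torus h).mul_mem x.2 ((torus h).inv_mem y.2)) hWT
      · exact absurd (by rw [eq_mul_inv_of_mul_eq e]; exact (torus h).mul_mem y.2 ((torus h).inv_mem x.2)) hWT
      · exact congrArg (Prod.mk true) (Subtype.ext (mul_left_cancel e))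
    · rintro ⟨g, hg⟩
      rcases card_normalizer_torus_le h g hg with e | e
      · exact ⟨(false, ⟨g, e⟩), rfl⟩
      · exact ⟨(true, ⟨_, e⟩), Subtype.ext (show W h * (W h * g) = g by rw [← mul_assoc, W_mul_self, one_mul])⟩
  rw [← Nat.card_eq_of_bijective f hf, Nat.card_prod]
  simp

theorem torType_torus : TorType (torus h) 2 := by
  have h8 := h.eight_le_card
  rw [h.card] at h8
  refine ⟨fun c hc hc1 => ?_, fun a ha b hb => torus_comm h ha hb, ?_, ?_, Or.inl rfl, card_normalizer_torus h⟩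
  · obtain ⟨k, rfl⟩ := (mem_torus h).mp hc
    exact centralizer_H h fun e => hc1 (by rw [e, H_one])
  · rw [card_torus]
    have := q_even (m := m)
    omega
  · rw [card_torus]; omega

theorem TorType.not_orderOf_two {C : Subgroup (Cfsg.Sz F m)} {e : ℕ} (hC : TorType C e) {x : Cfsg.Sz F m}
    (hx : x ∈ C) {n : ℕ} (h2 : x ^ 2 ^ n = 1) : x = 1 := by
  refine orderOf_eq_one_iff.mp (Nat.eq_one_of_dvd_coprimes ?_ (orderOf_dvd_of_pow_eq_one h2)
    (Subgroup.orderOf_mk x hx ▸ orderOf_dvd_natCard (⟨x, hx⟩ : C)))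
  exact Nat.Coprime.pow_left _ ((Nat.Prime.coprime_iff_not_dvd Nat.prime_two).mpr hC.odd)

theorem pow_four_of_conj_root {x u : Cfsg.Sz F m} (hu : u * x * u⁻¹ ∈ rootGroup h) : x ^ 4 = 1 := by
  have h1 : ((⟨_, hu⟩ : rootGroup h)) ^ 4 = 1 :=
    Monoid.exponent_dvd_iff_forall_pow_eq_one.mp (exponent_rootGroup h).dvd _
  have h2 : (u * x * u⁻¹) ^ 4 = 1 := congrArg Subtype.val h1
  rwa [conj_pow, conj_eq_one_iff] at h2

/-- Elements of the normaliser outside the torus are 2-elements. -/
theorem TorType.sub_two {C : Subgroup (Cfsg.Sz F m)} {e : ℕ} (hC : TorType C e) {y : Cfsg.Sz F m}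
    (hy : y ∈ Subgroup.normalizer (C : Set (Cfsg.Sz F m))) (hyC : y ∉ C) : y ^ 4 = 1 := by
  set N := Subgroup.normalizer (C : Set (Cfsg.Sz F m))
  have : (C.subgroupOf N).Normal := Subgroup.normal_in_normalizer
  have hidx : Nat.card (N ⧸ C.subgroupOf N) = e := by
    have h1 := Subgroup.card_eq_card_quotient_mul_card_subgroup (C.subgroupOf N)
    rw [Nat.card_congr (Subgroup.subgroupOfEquivOfLe (Subgroup.le_normalizer (H := C))).toEquiv, hC.card_normalizer] at h1
    exact (Nat.eq_of_mul_eq_mul_right (by have := hC.one_lt; omega) h1).symm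
  have hye : y ^ e ∈ C := by
    have h1 : (QuotientGroup.mk (⟨y, hy⟩ : N) : N ⧸ C.subgroupOf N) ^ e = 1 := by
      rw [← hidx]; exact pow_card_eq_one'
    rw [← QuotientGroup.mk_pow, QuotientGroup.eq_one_iff] at h1
    exact h1
  by_cases hy1 : y = 1
  · rw [hy1, one_pow]
  rcases classify h hy1 with ⟨u, hu⟩ | ht | ht
  · exact pow_four_of_conj_root h hu
  all_goals exfalso
  -- an element of odd order normalising and not in `C`
  all_goals apply hyC
  all_goals
    have hodd : Nat.Coprime e (orderOf y) := by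
      have hk : ∃ k, ¬ 2 ∣ k ∧ orderOf y ∣ k := by
        first
        | (obtain ⟨u, hu⟩ := ht
           refine ⟨_, (torType_torus h).odd, ?_⟩
           rw [← orderOf_conj_eq u y, card_torus]; exact orderOf_dvd_torus h hu)
        | (obtain ⟨D, hD, hyD⟩ := ht
           exact ⟨_, (torType_member h hD).odd, member_orderOf_dvd h hD hyD⟩)
      obtain ⟨k, hk2, hk⟩ := hk
      refine Nat.Coprime.coprime_dvd_right hk ?_
      rcases hC.he with rfl | rfl
      · exact (Nat.Prime.coprime_iff_not_dvd Nat.prime_two).mpr hk2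
      · exact Nat.Coprime.pow_left 2 ((Nat.Prime.coprime_iff_not_dvd Nat.prime_two).mpr hk2)
    obtain ⟨i, hi⟩ := exists_pow_eq_self_of_coprime (Nat.Coprime.symm hodd).symm
    rw [← hi]
    exact C.pow_mem hye i

/-- An involution of the normaliser inverts the torus. -/
theorem TorType.invert {C : Subgroup (Cfsg.Sz F m)} {e : ℕ} (hC : TorType C e) {x : Cfsg.Sz F m}
    (hx : x ∈ Subgroup.normalizer (C : Set (Cfsg.Sz F m))) (h2 : orderOf x = 2) {c : Cfsg.Sz F m} (hc : c ∈ C) :
    x * c * x⁻¹ = c⁻¹ := by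
  have hxx : x * x = 1 := by rw [← pow_two, ← h2, pow_orderOf_eq_one]
  have hxi : x⁻¹ = x := inv_eq_of_mul_eq_one_left hxx
  have hc' := (Subgroup.mem_normalizer_iff.mp hx c).mp hc
  set d := c * (x * c * x⁻¹) with hd
  have hdC : d ∈ C := C.mul_mem hc hc'
  have hfix : x * d * x⁻¹ = d := by
    rw [hd, hC.comm c hc _ hc', hxi]
    rw [show x * (x * c * x * c) * x = (x * x) * c * (x * c * x) by group, hxx, one_mul]
    rw [hC.comm c hc _ (by rw [← hxi] at *; simpa [hxi] using hc')]
  suffices hd1 : d = 1 by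
    rw [hd] at hd1
    exact (inv_eq_of_mul_eq_one_right hd1).symm
  by_contra hne
  have hxC : x ∈ C := by
    rw [← hC.ti d hdC hne, Subgroup.mem_centralizer_singleton_iff]
    calc x * d = x * d * x⁻¹ * x := by group
      _ = d * x := by rw [hfix]
  have := hC.not_orderOf_two h hxC (n := 1) (by rw [pow_one, ← h2, pow_orderOf_eq_one])
  rw [this, orderOf_one] at h2
  omega

theorem fixed_point_unique {x : Cfsg.Sz F m} (hx1 : x ≠ 1) {n : ℕ} (h2 : x ^ 2 ^ n = 1)
    {p p' : Projectivization F (Fin 4 → F)} (hp : p ∈ Cfsg.suzukiOvoid F m) (hp' : p' ∈ Cfsg.suzukiOvoid F m)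
    (e : x • p = p) (e' : x • p' = p') : p = p' := by
  obtain ⟨u, hu⟩ := exists_conj_mem_rootGroup h h2
  obtain ⟨a, b, hab⟩ := hu
  have hne : T h a b ≠ 1 := by rw [← hab, Ne, conj_eq_one_iff]; exact hx1
  have key : ∀ r ∈ Cfsg.suzukiOvoid F m, x • r = r → u • r = Cfsg.suzukiPointInfinity F := fun r hr er =>
    T_fix_eq h hne (smul_mem_ovoid u hr) (by rw [← hab, mul_smul, mul_smul, inv_smul_smul, er])
  exact smul_left_cancel u ((key p hp e).trans (key p' hp' e').symm)

theorem exists_fixed_point {x : Cfsg.Sz F m} {n : ℕ} (h2 : x ^ 2 ^ n = 1) :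
    ∃ p ∈ Cfsg.suzukiOvoid F m, x • p = p := by
  obtain ⟨u, hu⟩ := exists_conj_mem_rootGroup h h2
  obtain ⟨a, b, hab⟩ := hu
  refine ⟨u⁻¹ • Cfsg.suzukiPointInfinity F, smul_mem_ovoid _ pinf_mem, ?_⟩
  rw [eq_inv_smul_iff, ← mul_smul, ← mul_smul, hab, T_smul_pinf]

/-- Every solvable subgroup lies in a point stabiliser or in a torus normaliser. -/
theorem solvable_le {M : Subgroup (Cfsg.Sz F m)} (hM : Group.IsSolvable M) (hne : M ≠ ⊥) :
    (∃ p ∈ Cfsg.suzukiOvoid F m, ∀ g ∈ M, g • p = p) ∨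
      ∃ C e, TorType C e ∧ ((∃ u, C = conjSub u (torus h)) ∨ IsMember C) ∧
        M ≤ Subgroup.normalizer (C : Set (Cfsg.Sz F m)) := by
  classical
  -- a non-trivial abelian normal subgroup
  obtain ⟨V, hVn, hVc, z, hzV, hz1⟩ : ∃ V : Subgroup (Cfsg.Sz F m), (∀ g ∈ M, ∀ v ∈ V, g * v * g⁻¹ ∈ V) ∧
      (∀ a ∈ V, ∀ b ∈ V, a * b = b * a) ∧ ∃ z ∈ V, z ≠ 1 := by
    have hex : ∃ n, derivedSeries M n = ⊥ := (Group.isSolvable_def M).mp hM
    have hpos : Nat.find hex ≠ 0 := fun e => by
      have := Nat.find_spec hex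
      rw [e, derivedSeries_zero] at this
      exact hne ((Subgroup.eq_bot_iff_forall M).mpr fun x hx => by
        have h1 : (⟨x, hx⟩ : M) ∈ (⊥ : Subgroup M) := this ▸ Subgroup.mem_top _
        exact congrArg Subtype.val (Subgroup.mem_bot.mp h1))
    obtain ⟨n, hn⟩ := Nat.exists_eq_succ_of_ne_zero hpos
    have hlast : derivedSeries M n ≠ ⊥ := Nat.find_min hex (by omega)
    refine ⟨(derivedSeries M n).map M.subtype, fun g hg v hv => ?_, fun a ha b hb => ?_, ?_⟩
    · obtain ⟨v', hv', rfl⟩ := hv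
      exact ⟨_, (derivedSeries_normal (G := M) n).conj_mem v' hv' ⟨g, hg⟩, rfl⟩
    · obtain ⟨a', ha', rfl⟩ := ha
      obtain ⟨b', hb', rfl⟩ := hb
      have h1 := Nat.find_spec hex
      rw [hn, Nat.succ_eq_add_one, derivedSeries_succ] at h1
      have h2 : ⁅a', b'⁆ ∈ (⊥ : Subgroup M) := h1 ▸ Subgroup.commutator_mem_commutator ha' hb'
      rw [Subgroup.mem_bot, commutatorElement_eq_one_iff_mul_comm] at h2
      rw [← map_mul, h2, map_mul]
    · obtain ⟨v, hv, hv1⟩ := (Subgroup.bot_or_exists_ne_one _).resolve_left hlast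
      exact ⟨_, ⟨v, hv, rfl⟩, fun e => hv1 (Subtype.ext e)⟩
  rcases classify h hz1 with ⟨u, hu⟩ | ⟨u, hu⟩ | ⟨C, hC, hzC⟩
  · left
    refine ⟨u⁻¹ • Cfsg.suzukiPointInfinity F, smul_mem_ovoid _ pinf_mem, fun g hg => ?_⟩
    have hVR : ∀ v ∈ V, u * v * u⁻¹ ∈ rootGroup h := fun v hv =>
      centralizer_le h hu (fun e => hz1 (conj_eq_one_iff.mp e)) (by
        rw [centralizer_conj_mem h, show u⁻¹ * (u * v * u⁻¹) * u = v by group,
          Subgroup.mem_centralizer_singleton_iff]
        exact hVc v hv z hzV)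
    have hb : u * g * u⁻¹ ∈ borel F m := fix_pinf_of_conj_mem h hu (fun e => hz1 (conj_eq_one_iff.mp e)) (by
      convert! hVR _ (hVn g hg z hzV) using 1
      group)
    have h1 : (u * g * u⁻¹) • Cfsg.suzukiPointInfinity F = Cfsg.suzukiPointInfinity F := hb
    rwa [mul_smul, mul_smul, ← eq_inv_smul_iff] at h1
  all_goals right
  on_goal 1 =>
    have hC : TorType (conjSub u⁻¹ (torus h)) 2 := (torType_torus h).conj h _
    have hzC : z ∈ conjSub u⁻¹ (torus h) := by rw [mem_conjSub, inv_inv]; exact hu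
    refine ⟨_, _, hC, Or.inl ⟨_, rfl⟩, fun g hg => ?_⟩
  on_goal 2 =>
    refine ⟨_, _, torType_member h hC, Or.inr hC, fun g hg => ?_⟩
    replace hC := torType_member h hC
  all_goals
    refine TI.mem_normalizer_of_conj hC.ti hzC hz1 ?_
    rw [← hC.ti z hzC hz1, Subgroup.mem_centralizer_singleton_iff]
    exact hVc _ (hVn g hg z hzV) z hzV

theorem isSolvable_normalizer {C : Subgroup (Cfsg.Sz F m)} {e : ℕ} (hC : TorType C e) :
    Group.IsSolvable (Subgroup.normalizer (C : Set (Cfsg.Sz F m))) := by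
  set N := Subgroup.normalizer (C : Set (Cfsg.Sz F m))
  have : (C.subgroupOf N).Normal := Subgroup.normal_in_normalizer
  have h1 : Group.IsSolvable (C.subgroupOf N) := Group.isSolvable_of_comm fun a b =>
    Subtype.ext (Subtype.ext (hC.comm _ a.2 _ b.2))
  have hidx : Nat.card (N ⧸ C.subgroupOf N) = e := by
    have h1 := Subgroup.card_eq_card_quotient_mul_card_subgroup (C.subgroupOf N)
    rw [Nat.card_congr (Subgroup.subgroupOfEquivOfLe (Subgroup.le_normalizer (H := C))).toEquiv, hC.card_normalizer] at h1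
    exact (Nat.eq_of_mul_eq_mul_right (by have := hC.one_lt; omega) h1).symm
  have : Fact (Nat.Prime 2) := ⟨Nat.prime_two⟩
  have hp : IsPGroup 2 (N ⧸ C.subgroupOf N) := by
    rcases hC.he with rfl | rfl
    · exact IsPGroup.of_card (n := 1) (by rw [hidx, pow_one])
    · exact IsPGroup.of_card (n := 2) (by rw [hidx]; norm_num)
  have := hp.isNilpotent
  have h2 : Group.IsSolvable (N ⧸ C.subgroupOf N) := inferInstance
  exact Group.isSolvable_of_ker_le_range (C.subgroupOf N).subtype (QuotientGroup.mk' (C.subgroupOf N))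
    (by simp)

theorem isSolvable_stabilizer {p : Projectivization F (Fin 4 → F)} (hp : p ∈ Cfsg.suzukiOvoid F m) :
    Group.IsSolvable (MulAction.stabilizer (Cfsg.Sz F m) p) := by
  obtain ⟨u, rfl⟩ := exists_smul_pinf h hp
  rw [MulAction.stabilizer_smul_eq_stabilizer_map_conj]
  have : Fact (Nat.Prime 2) := ⟨Nat.prime_two⟩
  set B := borel F m
  have : ((rootGroup h).subgroupOf B).Normal :=
    (Subgroup.normal_subgroupOf_iff_le_normalizer (rootGroup_le_borel h)).mpr (borel_le_normalizer h)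
  have hsurj : ∀ q : B ⧸ (rootGroup h).subgroupOf B, ∃ k : Fˣ, q = QuotientGroup.mk ⟨H h k, H_mem_borel h k⟩ := by
    intro q
    induction q using QuotientGroup.induction_on with | _ g => ?_
    obtain ⟨a, b, k, hk⟩ := borel_form h g.2
    refine ⟨k, QuotientGroup.eq.mpr ?_⟩
    rw [Subgroup.mem_subgroupOf, Subgroup.coe_mul, Subgroup.coe_inv, hk]
    show (T h a b * H h k)⁻¹ * H h k ∈ rootGroup h
    rw [mul_inv_rev, mul_assoc, H_inv]
    have := (Subgroup.mem_normalizer_iff.mp (borel_le_normalizer h (H_mem_borel h k⁻¹)) _).mp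
      ((rootGroup h).inv_mem (⟨a, b, rfl⟩ : T h a b ∈ rootGroup h))
    rwa [H_inv, inv_inv, mul_assoc] at this
  have h2 : Group.IsSolvable (B ⧸ (rootGroup h).subgroupOf B) := Group.isSolvable_of_comm fun x y => by
    obtain ⟨k, rfl⟩ := hsurj x
    obtain ⟨l, rfl⟩ := hsurj y
    rw [← QuotientGroup.mk_mul, ← QuotientGroup.mk_mul]
    exact congrArg _ (Subtype.ext (torus_comm h ((mem_torus h).mpr ⟨k, rfl⟩) ((mem_torus h).mpr ⟨l, rfl⟩)))
  have h1 : Group.IsSolvable ((rootGroup h).subgroupOf B) := by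
    have := ((isPGroup_rootGroup h).of_equiv (Subgroup.subgroupOfEquivOfLe (rootGroup_le_borel h)).symm).isNilpotent
    infer_instance
  have h3 : Group.IsSolvable B := Group.isSolvable_of_ker_le_range ((rootGroup h).subgroupOf B).subtype
    (QuotientGroup.mk' ((rootGroup h).subgroupOf B)) (by simp)
  exact Group.isSolvable_of_surjective
    (f := (Subgroup.equivMapOfInjective B _ (MulAut.conj u).injective).toMonoidHom)
    (Subgroup.equivMapOfInjective B _ (MulAut.conj u).injective).surjective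

end Cfsg.Agent.Suzuki
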