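import Cfsg.Agent.Lib.Suzuki.TorType
import Cfsg.Agent.Lib.Suzuki.Structure

/-! Transitive actions of the Suzuki groups with fixity two. -/

set_option autoImplicit false
set_option linter.unusedSectionVars false
set_option linter.style.haveILetI false

namespace Cfsg.Agent.Suzuki.FixTwo

open MulAction

variable {F : Type*} [Field F] [Fintype F] {m : ℕ} (h : SzField F m)
variable {Ω : Type*} [MulAction (Cfsg.Sz F m) Ω]

local notation "S" => Cfsg.Sz F m

theorem three (hfix : ∀ g : S, g ≠ 1 → Nat.card (fixedBy Ω g) ≤ 2) [Finite Ω] {g : S} (hg : g ≠ 1)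
    {p q r : Ω} (hpq : p ≠ q) (hpr : p ≠ r) (hqr : q ≠ r) (hp : g • p = p) (hq : g • q = q)
    (hr : g • r = r) : False := by
  have hsub : ({p, q, r} : Set Ω) ⊆ fixedBy Ω g := by
    rintro x (rfl | rfl | rfl) <;> assumption
  have h3 := Set.ncard_le_ncard hsub (Set.toFinite _)
  rw [Set.ncard_eq_three.mpr ⟨p, q, r, hpq, hpr, hqr, rfl⟩, ← Nat.card_coe_set_eq] at h3
  exact absurd (h3.trans (hfix g hg)) (by norm_num)

/-- The square of an element commuting with a non-identity element fixes its fixed points. -/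
theorem sq_fix (hfix : ∀ g : S, g ≠ 1 → Nat.card (fixedBy Ω g) ≤ 2) [Finite Ω] {g x : S} (hg : g ≠ 1)
    (hmaps : ∀ p : Ω, g • p = p → g • x • p = x • p) {p : Ω} (hp : g • p = p) : (x * x) • p = p := by
  by_cases h1 : x • p = p
  · rw [mul_smul, h1, h1]
  by_contra h2
  rw [mul_smul] at h2
  exact three hfix hg (Ne.symm h1) (Ne.symm h2) (fun e => h1 (smul_left_cancel x e.symm))
    hp (hmaps p hp) (hmaps _ (hmaps p hp))

theorem maps_of_comm {g x : S} (hc : x * g = g * x) (p : Ω) (hp : g • p = p) : g • x • p = x • p := by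
  rw [← mul_smul, ← hc, mul_smul, hp]

include h

theorem exists_sqrt_zGroup (b : F) : ∃ r ∈ rootGroup h, r * r = T h 0 b := by
  by_cases hb : b = 0
  · exact ⟨1, one_mem _, by rw [hb, T_zero, mul_one]⟩
  obtain ⟨a, -, ha⟩ := h.θ_mul_self_surjective b hb
  exact ⟨T h a 0, ⟨a, 0, rfl⟩, by rw [T_sq, ha]⟩

theorem exists_sqrt_torus (k : Fˣ) : ∃ l : Fˣ, H h k = H h l * H h l := by
  obtain ⟨l, hl⟩ := Finite.surjective_of_injective (f := fun l : Fˣ => l * l) (fun a b e => by
    have e' : a * a = b * b := e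
    refine mul_inv_eq_one.mp (units_sq_eq_one h ?_)
    rw [mul_mul_mul_comm, e', ← mul_inv, mul_inv_cancel]) k
  have hl' : l * l = k := hl
  exact ⟨l, by rw [← H_mul, hl']⟩

variable [Finite Ω]

/-- A fixed point of an involution is fixed by a whole Borel subgroup. -/
theorem borel_fix (hfix : ∀ g : S, g ≠ 1 → Nat.card (fixedBy Ω g) ≤ 2) {p : Ω}
    (hp : T h (0 : F) 1 • p = p) : ∀ g ∈ borel F m, g • p = p := by
  classical
  have hz1 : ∀ b : F, b ≠ 0 → T h 0 b ≠ 1 := fun b hb e => hb ((eq_one_iff_T h).mp e).2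
  set z := T h (0 : F) 1 with hz
  have hz0 : z ≠ 1 := hz1 1 one_ne_zero
  have hcomm : ∀ r ∈ rootGroup h, r * z = z * r := by
    rintro _ ⟨a, b, rfl⟩; exact (T_zero_central h 1 a b).symm
  have hZ : ∀ (b : F) (q : Ω), z • q = q → T h 0 b • q = q := by
    intro b q hq
    obtain ⟨r, hr, e⟩ := exists_sqrt_zGroup h b
    rw [← e]
    exact sq_fix hfix hz0 (maps_of_comm (hcomm r hr)) hq
  have hHmaps : ∀ (k : Fˣ) (q : Ω), z • q = q → z • H h k • q = H h k • q := by
    intro k q hq
    have e : (H h k)⁻¹ * z * H h k = T h 0 (θ m ((k⁻¹ : Fˣ) : F) * ((k⁻¹ : Fˣ) : F) * 1) := by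
      rw [← H_conj_zero, ← H_inv, inv_inv]
    have h1 : ((H h k)⁻¹ * z * H h k) • q = q := e ▸ hZ _ q hq
    rwa [mul_smul, mul_smul, inv_smul_eq_iff] at h1
  have hH : ∀ (k : Fˣ) (q : Ω), z • q = q → H h k • q = q := by
    intro k q hq
    obtain ⟨l, e⟩ := exists_sqrt_torus h k
    rw [e]
    exact sq_fix hfix hz0 (hHmaps l) hq
  have hR : ∀ a b, T h a b • p = p := by
    intro a b
    by_contra hne
    have ha : a ≠ 0 := fun e => hne (e ▸ hZ b p hp)
    have hzq : z • T h a b • p = T h a b • p := maps_of_comm (hcomm _ ⟨a, b, rfl⟩) p hp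
    have hzero : ∀ c, T h 0 c • p = p := fun c => hZ c p hp
    have hswap : ∀ c : F, c ≠ 0 → ∀ d, T h c d • p ≠ p := by
      intro c hc d e
      apply hne
      set k : Fˣ := Units.mk0 (a / c) (div_ne_zero ha hc) with hk
      have hkp := hH k p hp
      have h1 : (H h k * T h c d * (H h k)⁻¹) • p = p := by
        rw [mul_smul, mul_smul, inv_smul_eq_iff.mpr hkp.symm, e, hkp]
      rw [H_conj_T, Units.val_mk0, div_mul_cancel₀ a hc] at h1
      have h2 := T_zero_mul h (b + θ m (a / c) * (a / c) * d) a (θ m (a / c) * (a / c) * d)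
      rw [show b + θ m (a / c) * (a / c) * d + θ m (a / c) * (a / c) * d = b by
        rw [add_assoc, h.add_self, add_zero]] at h2
      rw [← h2, mul_smul, h1, hzero]
    obtain ⟨c, hc0, hca⟩ : ∃ c : F, c ≠ 0 ∧ c ≠ a := by
      by_contra hcon
      push Not at hcon
      have h8 := h.eight_le_card
      have : (Finset.univ : Finset F) ⊆ {0, a} := fun x _ => by
        by_cases hx : x = 0
        · simp [hx]
        · simp [hcon x hx]
      have := (Finset.card_le_card this).trans Finset.card_le_two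
      rw [Finset.card_univ] at this
      omega
    have hac : a + c ≠ 0 := fun e => hca ((h.eq_iff_add_eq_zero _ _).mpr (by rw [add_comm]; exact e))
    -- two swaps make a fixed point
    have hq2 : T h a b • p = T h c 0 • p := by
      by_contra hne2
      exact three hfix hz0 (hswap a ha b).symm (hswap c hc0 0).symm hne2 hp hzq
        (maps_of_comm (hcomm _ ⟨c, 0, rfl⟩) p hp)
    have hprod : ((T h c 0)⁻¹ * T h a b) • p = p := by rw [mul_smul, hq2, inv_smul_smul]
    rw [T_inv, T_mul] at hprod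
    exact hswap _ (by rw [add_comm]; exact hac) _ hprod
  intro g hg
  obtain ⟨a, b, k, rfl⟩ := borel_form h hg
  rw [mul_smul, hH k p hp, hR]

theorem torus_member {c : S} (hc : c ≠ 1) (hodd : ¬ 2 ∣ orderOf c) :
    ∃ (C : Subgroup S) (e : ℕ), TorType C e ∧ c ∈ C ∧
      (e = 2 → Nat.card C = 2 ^ (2 * m + 1) - 1) := by
  rcases classify h hc with ⟨u, hu⟩ | ⟨u, hu⟩ | ⟨C, hC, hcC⟩
  · exfalso
    obtain ⟨j, hj⟩ := isPGroup_rootGroup h ⟨_, hu⟩
    have h1 : (u * c * u⁻¹) ^ 2 ^ j = 1 := congrArg Subtype.val hj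
    rw [conj_pow, conj_eq_one_iff] at h1
    obtain ⟨i, -, hi⟩ := (Nat.dvd_prime_pow Nat.prime_two).mp (orderOf_dvd_of_pow_eq_one h1)
    rcases i with _ | i
    · exact hc (orderOf_eq_one_iff.mp (by simpa using hi))
    · exact hodd (hi ▸ dvd_pow_self 2 (by omega))
  · refine ⟨conjSub u⁻¹ (torus h), 2, (torType_torus h).conj h u⁻¹, mem_conjSub.mpr (by rwa [inv_inv]),
      fun _ => ?_⟩
    rw [Subgroup.card_map_of_injective (MulAut.conj u⁻¹).injective, card_torus]
  · exact ⟨C, 4, torType_member h hC, hcC, fun e => absurd e (by norm_num)⟩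

theorem main (htr : IsPretransitive S Ω) (hfix : ∀ g : S, g ≠ 1 → Nat.card (fixedBy Ω g) ≤ 2)
    (hex : ∃ g : S, g ≠ 1 ∧ Nat.card (fixedBy Ω g) = 2) :
    (Nat.card Ω = (2 ^ (2 * m + 1)) ^ 2 + 1 ∧ IsMultiplyPretransitive S Ω 2) ∨
    (Nat.card Ω = (2 ^ (2 * m + 1)) ^ 2 * ((2 ^ (2 * m + 1)) ^ 2 + 1) ∧
      ∀ α : Ω, Nat.card (stabilizer S α) = 2 ^ (2 * m + 1) - 1) := by
  classical
  haveI := htr
  obtain ⟨g₀, hg₀, hg₀2⟩ := hex
  obtain ⟨⟨a₀, ha₀⟩, ⟨b₀, hb₀⟩, hab₀⟩ :=
    Finite.one_lt_card_iff_nontrivial.mp (by rw [hg₀2]; norm_num : 1 < Nat.card (fixedBy Ω g₀))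
  by_cases heven : 2 ∣ Nat.card (stabilizer S a₀)
  · left
    haveI : Fact (Nat.Prime 2) := ⟨Nat.prime_two⟩
    obtain ⟨t, ht⟩ := exists_prime_orderOf_dvd_card' (G := stabilizer S a₀) 2 heven
    obtain ⟨u, hu⟩ := isConj_iff.mp (involutions_conj h ((Subgroup.orderOf_coe t).trans ht)
      (x := (t : S)) (y := T h 0 1) (orderOf_eq_prime_iff.mpr
        ⟨by rw [pow_two, T_sq, θ_zero, zero_mul, T_zero],
          fun e => one_ne_zero ((eq_one_iff_T h).mp e).2⟩))
    set p := u • a₀ with hp
    have hzp : T h (0 : F) 1 • p = p := by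
      rw [hp, ← hu, mul_smul, mul_smul, inv_smul_smul, mem_stabilizer_iff.mp t.2]
    have hB := borel_fix h hfix hzp
    obtain ⟨q, hq⟩ : ∃ q : Ω, q ≠ p := by
      by_cases e : a₀ = p
      · exact ⟨b₀, fun e' => hab₀ (Subtype.ext (e.trans e'.symm))⟩
      · exact ⟨a₀, e⟩
    have hne : stabilizer S p ≠ ⊤ := fun e => by
      obtain ⟨g, hg⟩ := exists_smul_eq S p q
      exact hq (hg.symm.trans (mem_stabilizer_iff.mp (e ▸ Subgroup.mem_top g)))
    have hstab : stabilizer S p = borel F m :=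
      le_antisymm (le_borel_of_ne_top h (fun g hg => hB g (rootGroup_le_borel h hg)) hne) hB
    refine ⟨?_, ?_⟩
    · rw [← index_stabilizer_of_transitive S p, hstab, index_borel h]
    · have htrans : ∀ q : Ω, q ≠ p → ∃ g ∈ borel F m, g • W h • p = q := by
        intro q hq
        obtain ⟨g, hg⟩ := exists_smul_eq S p q
        have hgB : g ∉ borel F m := fun hb => hq (hg.symm.trans (hB g hb))
        obtain ⟨x, y, a, b, k, rfl⟩ := bruhat h hgB
        refine ⟨T h x y, T_mem_borel h x y, ?_⟩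
        rw [← hg, mul_smul, mul_smul, hB _ ((borel F m).mul_mem (T_mem_borel h a b) (H_mem_borel h k))]
      refine is_two_pretransitive_iff.mpr ?_
      intro a b c d hab hcd
      obtain ⟨g, hg⟩ := exists_smul_eq S a p
      obtain ⟨g', hg'⟩ := exists_smul_eq S c p
      obtain ⟨r, hr, hr'⟩ := htrans (g • b) (fun e => hab (smul_left_cancel g (hg.trans e.symm)))
      obtain ⟨r', hr₁, hr₁'⟩ := htrans (g' • d) (fun e => hcd (smul_left_cancel g' (hg'.trans e.symm)))
      refine ⟨g'⁻¹ * (r' * r⁻¹) * g, ?_, ?_⟩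
      · rw [mul_smul, hg, mul_smul, inv_smul_eq_iff, hg', hB _ ((borel F m).mul_mem hr₁ ((borel F m).inv_mem hr))]
      · rw [mul_smul, mul_smul, inv_smul_eq_iff, mul_smul, inv_smul_eq_iff.mpr hr'.symm, hr₁']
  · right
    have hstabs : ∀ α : Ω, Nat.card (stabilizer S α) = Nat.card (stabilizer S a₀) := fun α =>
      Nat.card_congr (stabilizerEquivStabilizer (exists_smul_eq S a₀ α).choose_spec.symm).toEquiv.symm
    set K := stabilizer S a₀ with hK
    have hoddK : ∀ x ∈ K, ¬ 2 ∣ orderOf x := fun x hx hd =>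
      heven (hd.trans (Subgroup.orderOf_dvd_natCard K hx))
    have key : ∀ c ∈ K, c ≠ 1 → ∃ (C : Subgroup S) (e : ℕ), TorType C e ∧ c ∈ C ∧ C ≤ K ∧
        (e = 2 → Nat.card C = 2 ^ (2 * m + 1) - 1) ∧
        Subgroup.normalizer (C : Set S) ⊓ K ≤ C := by
      intro c hc hc1
      obtain ⟨C, e, hC, hcC, he⟩ := torus_member h hc1 (hoddK c hc)
      refine ⟨C, e, hC, hcC, fun x hx => ?_, he, ?_⟩
      · obtain ⟨j, hj⟩ := Nat.odd_iff.mpr (Nat.two_dvd_ne_zero.mp hC.odd)
        have e1 : x = x ^ (j + 1) * x ^ (j + 1) := by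
          rw [← pow_add, show j + 1 + (j + 1) = Nat.card C + 1 by omega, pow_succ,
            orderOf_dvd_iff_pow_eq_one.mp (Subgroup.orderOf_dvd_natCard C hx), one_mul]
        rw [mem_stabilizer_iff, e1]
        exact sq_fix hfix hc1 (maps_of_comm (hC.comm _ (C.pow_mem hx _) c hcC)) hc
      · rintro x ⟨hxN, hxK⟩
        haveI : (C.subgroupOf (Subgroup.normalizer (C : Set S))).Normal := Subgroup.normal_in_normalizer
        have hidx : (C.subgroupOf (Subgroup.normalizer (C : Set S))).index = e := by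
          have h1 := (C.subgroupOf (Subgroup.normalizer (C : Set S))).card_mul_index
          rw [Nat.card_congr (Subgroup.subgroupOfEquivOfLe Subgroup.le_normalizer).toEquiv,
            hC.card_normalizer, mul_comm] at h1
          exact Nat.eq_of_mul_eq_mul_right Nat.card_pos h1
        have h1 := Subgroup.pow_index_mem (C.subgroupOf (Subgroup.normalizer (C : Set S))) ⟨x, hxN⟩
        rw [hidx, Subgroup.mem_subgroupOf] at h1
        have h1' : x ^ e ∈ C := h1
        have hco : Nat.Coprime e (orderOf x) := by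
          have h2 : Nat.Coprime 2 (orderOf x) :=
            (Nat.Prime.coprime_iff_not_dvd Nat.prime_two).mpr (hoddK x hxK)
          rcases hC.he with rfl | rfl
          · exact h2
          · exact Nat.Coprime.pow_left 2 h2
        obtain ⟨j, hj⟩ := exists_pow_eq_self_of_coprime hco
        rw [← hj]
        exact C.pow_mem h1' j
    have hg₀K : g₀ ∈ K := ha₀
    obtain ⟨C, e, hC, hgC, hCK, he, hNC⟩ := key g₀ hg₀K hg₀
    -- the conjugates of `C` in `K` cover too much
    have spread : ∀ (D : Subgroup S) (e' : ℕ), TorType D e' → D ≤ K →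
        Subgroup.normalizer (D : Set S) ⊓ K ≤ D →
        Nat.card {x : S // ∃ g ∈ K, g⁻¹ * x * g ∈ D ∧ g⁻¹ * x * g ≠ 1} =
          (D.relIndex K) * (Nat.card D - 1) := by
      intro D e' hD hDK hND
      haveI : Fintype D := Fintype.ofFinite D
      rw [show Nat.card D - 1 = Nat.card {d : D // d ≠ 1} by
        rw [Nat.card_eq_fintype_card, Nat.card_eq_fintype_card, Fintype.card_subtype_compl,
          Fintype.card_subtype_eq], show D.relIndex K = Nat.card (K ⧸ D.subgroupOf K) from rfl,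
        ← Nat.card_prod]
      refine (Nat.card_eq_of_bijective (fun q : (K ⧸ D.subgroupOf K) × {d : D // d ≠ 1} =>
        (⟨(q.1.out : S) * q.2.1 * (q.1.out : S)⁻¹, q.1.out, q.1.out.2, ?_, ?_⟩ :
          {x : S // ∃ g ∈ K, g⁻¹ * x * g ∈ D ∧ g⁻¹ * x * g ≠ 1})) ⟨?_, ?_⟩).symm
      · simp [mul_assoc]
      · intro e
        exact q.2.2 (Subtype.ext (by simpa [mul_assoc] using e))
      · rintro ⟨q, d⟩ ⟨q', d'⟩ heq
        have heq' : (q.out : S) * d.1 * (q.out : S)⁻¹ = (q'.out : S) * d'.1 * (q'.out : S)⁻¹ :=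
          congrArg Subtype.val heq
        have hmem : (q.out : S)⁻¹ * q'.out ∈ Subgroup.normalizer (D : Set S) := by
          have h1 : ((q.out : S)⁻¹ * q'.out) * d'.1 * ((q.out : S)⁻¹ * q'.out)⁻¹ = d.1 := by
            rw [show ((q.out : S)⁻¹ * q'.out) * d'.1 * ((q.out : S)⁻¹ * q'.out)⁻¹ =
              (q.out : S)⁻¹ * ((q'.out : S) * d'.1 * (q'.out : S)⁻¹) * q.out by group, ← heq']
            group
          set w := (q.out : S)⁻¹ * q'.out
          have hd' : (d'.1 : S) ≠ 1 := fun e => d'.2 (Subtype.ext e)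
          refine Subgroup.mem_normalizer_iff.mpr fun y => ?_
          rw [← hD.ti d'.1 d'.1.2 hd']
          conv_rhs => rw [hD.ti d'.1 d'.1.2 hd', ← hD.ti d.1 d.1.2 fun e => d.2 (Subtype.ext e), ← h1]
          have hh := centralizer_conj_mem h (g := ((d'.1 : D) : S)) (u := w) (w := w * y * w⁻¹)
          rw [show w⁻¹ * (w * y * w⁻¹) * w = y by group] at hh
          first | exact hh | exact hh.symm
        have hq : q = q' := by
          rw [← Quotient.out_eq' q, ← Quotient.out_eq' q']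
          exact Quotient.sound' (QuotientGroup.leftRel_apply.mpr (Subgroup.mem_subgroupOf.mpr
            (hND ⟨hmem, K.mul_mem (K.inv_mem q.out.2) q'.out.2⟩)))
        subst hq
        have hd : d = d' := Subtype.ext (Subtype.ext (mul_left_cancel (mul_right_cancel heq')))
        subst hd; rfl
      · rintro ⟨x, g, hgK, hgx, hgx1⟩
        set q : K ⧸ D.subgroupOf K := QuotientGroup.mk ⟨g, hgK⟩ with hq
        obtain ⟨⟨d, hd⟩, hd'⟩ := QuotientGroup.mk_out_eq_mul (D.subgroupOf K) ⟨g, hgK⟩
        have hdD : (d : S) ∈ D := hd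
        have hout : (q.out : S) = g * d := congrArg Subtype.val hd'
        refine ⟨(q, ⟨⟨(d : S)⁻¹ * (g⁻¹ * x * g) * d, D.mul_mem (D.mul_mem (D.inv_mem hdD) hgx) hdD⟩,
          fun e => hgx1 ?_⟩), Subtype.ext ?_⟩
        · have e' : (d : S)⁻¹ * (g⁻¹ * x * g) * d = 1 := congrArg Subtype.val e
          calc g⁻¹ * x * g = d * ((d : S)⁻¹ * (g⁻¹ * x * g) * d) * (d : S)⁻¹ := by group
            _ = 1 := by rw [e']; group
        · show (q.out : S) * _ * (q.out : S)⁻¹ = x
          rw [hout]
          group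
    have hCK1 : C.relIndex K = 1 := by
      by_contra hne
      have hmul : Nat.card C * C.relIndex K = Nat.card K := by
        rw [← Nat.card_congr (Subgroup.subgroupOfEquivOfLe hCK).toEquiv]
        exact (C.subgroupOf K).card_mul_index
      have hC3 : ∀ (D : Subgroup S) (e' : ℕ), TorType D e' → 3 ≤ Nat.card D := fun D e' hD => by
        have h1 := hD.one_lt
        have h2 := hD.odd
        omega
      have hU := spread C e hC hCK hNC
      set U := {x : S | ∃ g ∈ K, g⁻¹ * x * g ∈ C ∧ g⁻¹ * x * g ≠ 1} with hUdef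
      have hUcard : U.ncard = C.relIndex K * (Nat.card C - 1) := (Nat.card_coe_set_eq U).symm.trans hU
      have hUK : U ⊆ (K : Set S) \ {1} := by
        rintro x ⟨g, hg, hx, hx1⟩
        refine ⟨?_, fun e => hx1 (by rw [Set.mem_singleton_iff.mp e]; group)⟩
        have := K.mul_mem (K.mul_mem hg (hCK hx)) (K.inv_mem hg)
        simpa [mul_assoc] using this
      have hKcard : ((K : Set S) \ {1}).ncard = Nat.card K - 1 := by
        rw [Set.ncard_sdiff_singleton_of_mem K.one_mem, ← Nat.card_coe_set_eq]; rfl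
      have hpos : 1 ≤ C.relIndex K := Nat.one_le_iff_ne_zero.mpr fun e0 => by
        rw [e0, mul_zero] at hmul
        exact Nat.card_pos.ne' hmul.symm
      obtain ⟨x, hxK, hxU⟩ : ∃ x ∈ (K : Set S) \ {1}, x ∉ U := by
        by_contra hcon
        push Not at hcon
        have := Set.ncard_le_ncard hcon (Set.toFinite _)
        rw [hKcard, hUcard, Nat.mul_sub, mul_one, mul_comm, hmul] at this
        have : 2 ≤ C.relIndex K := by omega
        have h2 : C.relIndex K ≤ Nat.card K := Nat.le_of_dvd Nat.card_pos ⟨Nat.card C, by rw [← hmul, mul_comm]⟩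
        omega
      obtain ⟨D, e', hD, hxD, hDK, -, hND⟩ := key x hxK.1 hxK.2
      have hmul' : Nat.card D * D.relIndex K = Nat.card K := by
        rw [← Nat.card_congr (Subgroup.subgroupOfEquivOfLe hDK).toEquiv]
        exact (D.subgroupOf K).card_mul_index
      set V := {x : S | ∃ g ∈ K, g⁻¹ * x * g ∈ D ∧ g⁻¹ * x * g ≠ 1} with hVdef
      have hVcard : V.ncard = D.relIndex K * (Nat.card D - 1) :=
        (Nat.card_coe_set_eq V).symm.trans (spread D e' hD hDK hND)
      have hVK : V ⊆ ((K : Set S) \ {1}) \ U := by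
        rintro y ⟨g, hg, hy, hy1⟩
        refine ⟨⟨?_, fun e => hy1 (by rw [Set.mem_singleton_iff.mp e]; group)⟩, ?_⟩
        · have := K.mul_mem (K.mul_mem hg (hDK hy)) (K.inv_mem hg)
          simpa [mul_assoc] using this
        rintro ⟨g', hg', hy', hy1'⟩
        apply hxU
        set w := g⁻¹ * g' with hw
        have hwD : conjSub w C = D := by
          have hCw := hC.conj h w
          have hmem : g⁻¹ * y * g ∈ conjSub w C := by
            rw [mem_conjSub, show w⁻¹ * (g⁻¹ * y * g) * w = g'⁻¹ * y * g' by rw [hw]; group]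
            exact hy'
          rw [← hCw.ti _ hmem hy1, hD.ti _ hy hy1]
        refine ⟨w, K.mul_mem (K.inv_mem hg) hg', ?_, fun e => hxK.2 ?_⟩
        · rw [← mem_conjSub, hwD]; exact hxD
        · rw [Set.mem_singleton_iff]
          calc x = w * (w⁻¹ * x * w) * w⁻¹ := by group
            _ = 1 := by rw [e]; group
      have hle := Set.ncard_le_ncard hVK (Set.toFinite _)
      rw [Set.ncard_sdiff hUK (Set.toFinite _), hKcard, hUcard, hVcard] at hle
      have a1 : C.relIndex K * 3 ≤ Nat.card K := by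
        rw [← hmul, mul_comm (Nat.card C)]; exact Nat.mul_le_mul_left _ (hC3 C e hC)
      have a2 : D.relIndex K * 3 ≤ Nat.card K := by
        rw [← hmul', mul_comm (Nat.card D)]; exact Nat.mul_le_mul_left _ (hC3 D e' hD)
      rw [Nat.mul_sub, mul_one, mul_comm, hmul', Nat.mul_sub, mul_one, mul_comm, hmul] at hle
      omega
    have hKC : K = C := le_antisymm (Subgroup.relIndex_eq_one.mp hCK1) hCK
    have he2 : e = 2 := by
      set N := Subgroup.normalizer (C : Set S)
      have hsub : orbit N a₀ ⊆ fixedBy Ω g₀ := by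
        rintro _ ⟨⟨n, hn⟩, rfl⟩
        show g₀ • n • a₀ = n • a₀
        have h1 : n⁻¹ * g₀ * n ∈ K := hKC ▸ (Subgroup.mem_normalizer_iff'.mp hn _).mpr (by
          rw [show n * (n⁻¹ * g₀) = g₀ by group]; exact hgC)
        have h2 := mem_stabilizer_iff.mp h1
        rwa [mul_smul, mul_smul, inv_smul_eq_iff] at h2
      have horb : (orbit N a₀).ncard = e := by
        rw [← index_stabilizer]
        have hst : stabilizer N a₀ = C.subgroupOf N := by
          ext x
          rw [mem_stabilizer_iff, Subgroup.mem_subgroupOf, ← hKC]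
          rfl
        rw [hst]
        have h1 := (C.subgroupOf N).card_mul_index
        rw [Nat.card_congr (Subgroup.subgroupOfEquivOfLe Subgroup.le_normalizer).toEquiv,
          hC.card_normalizer, mul_comm] at h1
        exact Nat.eq_of_mul_eq_mul_right Nat.card_pos h1
      have := Set.ncard_le_ncard hsub (Set.toFinite _)
      rw [horb, ← Nat.card_coe_set_eq, hg₀2] at this
      rcases hC.he with r | r <;> omega
    refine ⟨?_, fun α => by rw [hstabs α, hKC, he he2]⟩
    have h1 := K.card_mul_index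
    rw [index_stabilizer_of_transitive S a₀, hKC, he he2, card_Sz h] at h1
    have hpos : 0 < 2 ^ (2 * m + 1) - 1 := by
      have := h.eight_le_card; rw [h.card] at this; omega
    exact Nat.eq_of_mul_eq_mul_left hpos (h1.trans (mul_comm _ _))

end Cfsg.Agent.Suzuki.FixTwo
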