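import Cfsg.Prelude.Def_LieExceptional
import Cfsg.Agent.Lib.Suzuki.Field

/-! The ovoid model of the Suzuki group: root group `T`, torus `H`, inversion `w`, and their action on the ovoid. -/

namespace Cfsg.Agent.Suzuki

open scoped Pointwise

variable {F : Type*} [Field F] {m : ℕ}

/-- Vector of the finite point with parameters `(x, y)`. -/
def ptVec (m : ℕ) (x y : F) : Fin 4 → F := ![fz m x y, y, x, 1]

theorem ptVec_ne (m : ℕ) (x y : F) : ptVec m x y ≠ 0 := fun e => by
  have := congrFun e 3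
  simp [ptVec] at this

/-- Point with parameters `(x, y)`. -/
def pt (m : ℕ) (x y : F) : Projectivization F (Fin 4 → F) := Projectivization.mk F _ (ptVec_ne m x y)

/-- The point `(1,0,0,0)`. -/
abbrev pinf : Projectivization F (Fin 4 → F) := Cfsg.suzukiPointInfinity F

theorem mem_ovoid {p : Projectivization F (Fin 4 → F)} :
    p ∈ Cfsg.suzukiOvoid F m ↔ p = pinf ∨ ∃ x y, p = pt m x y := by
  constructor
  · rintro ⟨v, hv, rfl, rfl | ⟨x, y, rfl⟩⟩
    · exact Or.inl rfl
    · exact Or.inr ⟨x, y, rfl⟩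
  · rintro (rfl | ⟨x, y, rfl⟩)
    · exact ⟨_, _, rfl, Or.inl rfl⟩
    · exact ⟨_, ptVec_ne m x y, rfl, Or.inr ⟨x, y, rfl⟩⟩

theorem pinf_mem : pinf ∈ Cfsg.suzukiOvoid F m := mem_ovoid.mpr (Or.inl rfl)

theorem pt_mem (x y : F) : pt m x y ∈ Cfsg.suzukiOvoid F m := mem_ovoid.mpr (Or.inr ⟨x, y, rfl⟩)

theorem pt_ne_pinf (x y : F) : pt m x y ≠ pinf := by
  intro e
  rw [pt, pinf, Cfsg.suzukiPointInfinity, Projectivization.mk_eq_mk_iff'] at e
  obtain ⟨a, ha⟩ := e
  have := congrFun ha 3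
  simp [ptVec] at this

theorem pt_inj {x y x' y' : F} (e : pt m x y = pt m x' y') : x = x' ∧ y = y' := by
  rw [pt, pt, Projectivization.mk_eq_mk_iff'] at e
  obtain ⟨a, ha⟩ := e
  have h3 : a = 1 := by simpa [ptVec] using congrFun ha 3
  subst h3
  exact ⟨(by simpa [ptVec] using (congrFun ha 2).symm), (by simpa [ptVec] using (congrFun ha 1).symm)⟩

theorem pt_zero_zero [Fintype F] : pt m (0 : F) 0 = Cfsg.suzukiPointZero F := by
  rw [pt, Cfsg.suzukiPointZero]
  congr 1
  simp [ptVec, fz_eq]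

theorem smul_proj (g : Matrix.SpecialLinearGroup (Fin 4) F) (v : Fin 4 → F) (hv : v ≠ 0)
    (hgv : Matrix.mulVec (g : Matrix (Fin 4) (Fin 4) F) v ≠ 0) :
    g • Projectivization.mk F v hv = Projectivization.mk F (Matrix.mulVec (g : Matrix (Fin 4) (Fin 4) F) v) hgv := rfl

theorem mulVec_ne_zero (g : Matrix.SpecialLinearGroup (Fin 4) F) {v : Fin 4 → F} (hv : v ≠ 0) :
    Matrix.mulVec (g : Matrix (Fin 4) (Fin 4) F) v ≠ 0 := fun e => hv (by
  have h1 : Matrix.mulVec ((g⁻¹ * g : Matrix.SpecialLinearGroup (Fin 4) F) : Matrix (Fin 4) (Fin 4) F) v = 0 := by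
    rw [Matrix.SpecialLinearGroup.coe_mul, ← Matrix.mulVec_mulVec, e, Matrix.mulVec_zero]
  rwa [inv_mul_cancel, Matrix.SpecialLinearGroup.coe_one, Matrix.one_mulVec] at h1)

theorem smul_mk_eq {g : Matrix.SpecialLinearGroup (Fin 4) F} {v w : Fin 4 → F} {hv : v ≠ 0} {hw : w ≠ 0}
    (c : F) (e : c • w = Matrix.mulVec (g : Matrix (Fin 4) (Fin 4) F) v) :
    g • Projectivization.mk F v hv = Projectivization.mk F w hw := by
  rw [smul_proj g v hv (mulVec_ne_zero g hv), Projectivization.mk_eq_mk_iff']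
  exact ⟨c, e⟩

variable [Fintype F] (h : SzField F m)

/-- The root element `T(a,b)`, sending `(x,y)` to `(x + a, y + a^θ x + b)`. -/
def tEl (m : ℕ) (a b : F) : Matrix.SpecialLinearGroup (Fin 4) F :=
  ⟨!![1, a, b + θ m a * a, fz m a b; 0, 1, θ m a, b; 0, 0, 1, a; 0, 0, 0, 1], by
    simp [Matrix.det_succ_row_zero, Fin.sum_univ_succ]⟩

/-- The torus element attached to `k`. -/
def hEl (m : ℕ) (k : Fˣ) : Matrix.SpecialLinearGroup (Fin 4) F :=
  ⟨!![hθ m (k : F) * k, 0, 0, 0; 0, hθ m (k : F), 0, 0; 0, 0, (hθ m (k : F))⁻¹, 0;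
      0, 0, 0, (hθ m (k : F) * k)⁻¹], by
    have h1 := hθ_ne_zero m k.ne_zero
    have h2 := k.ne_zero
    simp [Matrix.det_succ_row_zero, Fin.sum_univ_succ]
    field_simp⟩

/-- The inversion. -/
def wEl : Matrix.SpecialLinearGroup (Fin 4) F :=
  ⟨!![0, 0, 0, 1; 0, 0, 1, 0; 0, 1, 0, 0; 1, 0, 0, 0], by
    simp [Matrix.det_succ_row_zero, Fin.sum_univ_succ, Fin.succAbove]
    ring⟩

theorem tEl_coe (m : ℕ) (a b : F) : (tEl m a b : Matrix (Fin 4) (Fin 4) F) =
    !![1, a, b + θ m a * a, fz m a b; 0, 1, θ m a, b; 0, 0, 1, a; 0, 0, 0, 1] := rfl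

theorem hEl_coe (m : ℕ) (k : Fˣ) : (hEl m k : Matrix (Fin 4) (Fin 4) F) =
    !![hθ m (k : F) * k, 0, 0, 0; 0, hθ m (k : F), 0, 0; 0, 0, (hθ m (k : F))⁻¹, 0;
      0, 0, 0, (hθ m (k : F) * k)⁻¹] := rfl

theorem wEl_coe : (wEl : Matrix.SpecialLinearGroup (Fin 4) F).1 =
    !![0, 0, 0, 1; 0, 0, 1, 0; 0, 1, 0, 0; 1, 0, 0, 0] := rfl

theorem tEl_zero : tEl m (0 : F) 0 = 1 := by
  apply Subtype.ext
  ext i j
  fin_cases i <;> fin_cases j <;> simp [tEl, fz_eq]

theorem hEl_one : hEl m (1 : Fˣ) = (1 : Matrix.SpecialLinearGroup (Fin 4) F) := by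
  apply Subtype.ext
  ext i j
  fin_cases i <;> fin_cases j <;> simp [hEl]

theorem hEl_mul (k l : Fˣ) : hEl m (k * l) = hEl m k * hEl m l := by
  apply Subtype.ext
  simp only [Matrix.SpecialLinearGroup.coe_mul, Matrix.SpecialLinearGroup.coe_one, tEl_coe, hEl_coe, wEl_coe]
  ext i j
  fin_cases i <;> fin_cases j <;>
    simp [Matrix.mul_apply, Fin.sum_univ_succ, hθ_mul] <;> ring

theorem wEl_mul_self : (wEl : Matrix.SpecialLinearGroup (Fin 4) F) * wEl = 1 := by
  apply Subtype.ext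
  simp only [Matrix.SpecialLinearGroup.coe_mul, Matrix.SpecialLinearGroup.coe_one, tEl_coe, hEl_coe, wEl_coe]
  ext i j
  fin_cases i <;> fin_cases j <;> simp [Matrix.mul_apply, Fin.sum_univ_succ]

theorem wEl_conj_hEl (k : Fˣ) : wEl * hEl m k * wEl = hEl m k⁻¹ := by
  apply Subtype.ext
  simp only [Matrix.SpecialLinearGroup.coe_mul, Matrix.SpecialLinearGroup.coe_one, tEl_coe, hEl_coe, wEl_coe]
  ext i j
  fin_cases i <;> fin_cases j <;>
    simp [Matrix.mul_apply, Fin.sum_univ_succ, hθ, inv_pow, mul_comm]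

include h

theorem tEl_mul (a b c d : F) :
    tEl m a b * tEl m c d = tEl m (a + c) (b + d + θ m a * c) := by
  have hac : θ m (a + c) = θ m a + θ m c := h.θ_add a c
  have hz : fz m (a + c) (b + d + θ m a * c) =
      fz m a b + a * d + (b + θ m a * a) * c + fz m c d := by
    simp only [fz_eq, h.θ_add, θ_mul, h.θ_θ]
    linear_combination (θ m a * a * c + θ m c * a * c + a ^ 2 * θ m c + c ^ 2 * θ m a) * h.two_eq_zero
  apply Subtype.ext
  simp only [Matrix.SpecialLinearGroup.coe_mul, Matrix.SpecialLinearGroup.coe_one, tEl_coe, hEl_coe, wEl_coe]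
  ext i j
  fin_cases i <;> fin_cases j <;>
    simp [Matrix.mul_apply, Fin.sum_univ_succ, hac, hz] <;>
    first
    | ring1
    | linear_combination (θ m a * c) * h.two_eq_zero
    | linear_combination (-(θ m a * c)) * h.two_eq_zero
    | linear_combination (θ m c * a) * h.two_eq_zero
    | linear_combination (-(θ m c * a)) * h.two_eq_zero

theorem tEl_inv (a b : F) : (tEl m a b)⁻¹ = tEl m a (b + θ m a * a) := by
  refine (eq_inv_of_mul_eq_one_left ?_).symm
  rw [tEl_mul h, h.add_self]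
  have : b + θ m a * a + b + θ m a * a = 0 := by linear_combination (b + θ m a * a) * h.two_eq_zero
  rw [this, tEl_zero]

theorem hEl_conj_tEl (k : Fˣ) (a b : F) :
    hEl m k * tEl m a b * hEl m k⁻¹ = tEl m ((k : F) * a) (θ m (k : F) * k * b) := by
  have h1 := hθ_ne_zero m k.ne_zero
  have h2 := k.ne_zero
  have h3 : θ m (k : F) = hθ m (k : F) * hθ m (k : F) := (hθ_sq m _).symm
  have hz : fz m ((k : F) * a) (θ m (k : F) * k * b) = θ m (k : F) * k ^ 2 * fz m a b := by
    simp only [fz_eq, θ_mul, h.θ_θ]; ring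
  have h4 : hθ m ((k : F)⁻¹) = (hθ m (k : F))⁻¹ := by
    rw [hθ, hθ, inv_pow]
  apply Subtype.ext
  simp only [Matrix.SpecialLinearGroup.coe_mul, Matrix.SpecialLinearGroup.coe_one, tEl_coe, hEl_coe, wEl_coe]
  ext i j
  fin_cases i <;> fin_cases j <;>
    simp [Matrix.mul_apply, Fin.sum_univ_succ, θ_mul, hz, h4, h1, h2, mul_inv] <;>
    (try simp only [h3]) <;> field_simp

/-- Action of `T(a,b)` on finite points. -/
theorem tEl_smul_pt (a b x y : F) : tEl m a b • pt m x y = pt m (x + a) (y + θ m a * x + b) := by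
  refine smul_mk_eq 1 ?_
  rw [one_smul]
  have hz : fz m (x + a) (y + θ m a * x + b) = fz m x y + a * y + (b + θ m a * a) * x + fz m a b := by
    simp only [fz_eq, h.θ_add, θ_mul, h.θ_θ]
    linear_combination (θ m a * x * a + θ m x * x * a + a ^ 2 * θ m x + x ^ 2 * θ m a) * h.two_eq_zero
  funext i
  fin_cases i <;> simp [ptVec, tEl, Matrix.mulVec, dotProduct, Fin.sum_univ_succ, hz] <;> ring

omit h in
theorem tEl_smul_pinf (a b : F) : tEl m a b • (pinf : Projectivization F (Fin 4 → F)) = pinf := by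
  refine smul_mk_eq 1 ?_
  funext i
  fin_cases i <;> simp [tEl, Matrix.mulVec, dotProduct, Fin.sum_univ_succ]

theorem hEl_smul_pt (k : Fˣ) (x y : F) :
    hEl m k • pt m x y = pt m ((k : F) * x) (θ m (k : F) * k * y) := by
  refine smul_mk_eq (hθ m (k : F) * k)⁻¹ ?_
  have h1 := hθ_ne_zero m k.ne_zero
  have h2 := k.ne_zero
  have h3 : θ m (k : F) = hθ m (k : F) * hθ m (k : F) := (hθ_sq m _).symm
  have hz : fz m ((k : F) * x) (θ m (k : F) * k * y) = θ m (k : F) * k ^ 2 * fz m x y := by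
    simp only [fz_eq, θ_mul, h.θ_θ]; ring
  funext i
  fin_cases i <;> simp [ptVec, hEl, Matrix.mulVec, dotProduct, Fin.sum_univ_succ, hz] <;> (try simp only [h3]) <;> field_simp

omit h in
theorem hEl_smul_pinf (k : Fˣ) : hEl m k • (pinf : Projectivization F (Fin 4 → F)) = pinf := by
  refine smul_mk_eq (hθ m (k : F) * k) ?_
  funext i
  fin_cases i <;> simp [hEl, Matrix.mulVec, dotProduct, Fin.sum_univ_succ]

omit h in
theorem wEl_smul_pinf :
    (wEl : Matrix.SpecialLinearGroup (Fin 4) F) • (pinf : Projectivization F (Fin 4 → F)) = pt m 0 0 := by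
  refine smul_mk_eq 1 ?_
  funext i
  fin_cases i <;> simp [ptVec, fz_eq, wEl, Matrix.mulVec, dotProduct, Fin.sum_univ_succ]

omit h in
theorem wEl_smul_pt_zero :
    (wEl : Matrix.SpecialLinearGroup (Fin 4) F) • pt m (0 : F) 0 = pinf := by
  refine smul_mk_eq 1 ?_
  funext i
  fin_cases i <;> simp [ptVec, fz_eq, wEl, Matrix.mulVec, dotProduct, Fin.sum_univ_succ]

theorem wEl_smul_pt {x y : F} (hz : fz m x y ≠ 0) :
    (wEl : Matrix.SpecialLinearGroup (Fin 4) F) • pt m x y = pt m (y / fz m x y) (x / fz m x y) := by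
  refine smul_mk_eq (fz m x y) ?_
  funext i
  fin_cases i <;>
    simp [ptVec, wEl, Matrix.mulVec, dotProduct, Fin.sum_univ_succ, h.fz_inversion hz] <;> field_simp

theorem mem_Sz_of_mapsTo (g : Matrix.SpecialLinearGroup (Fin 4) F)
    (hg : ∀ p ∈ Cfsg.suzukiOvoid F m, g • p ∈ Cfsg.suzukiOvoid F m) : g ∈ Cfsg.Sz F m := by
  have : Finite (Cfsg.suzukiOvoid F m) := Subtype.finite
  exact MulAction.mem_stabilizer_set_iff_smul_set_subset (Set.toFinite _) |>.mpr
    (by rintro _ ⟨p, hp, rfl⟩; exact hg p hp)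

theorem tEl_mem (a b : F) : tEl m a b ∈ Cfsg.Sz F m := by
  refine mem_Sz_of_mapsTo h _ fun p hp => ?_
  rcases mem_ovoid.mp hp with rfl | ⟨x, y, rfl⟩
  · rw [tEl_smul_pinf]; exact pinf_mem
  · rw [tEl_smul_pt h]; exact pt_mem _ _

theorem hEl_mem (k : Fˣ) : hEl m k ∈ Cfsg.Sz F m := by
  refine mem_Sz_of_mapsTo h _ fun p hp => ?_
  rcases mem_ovoid.mp hp with rfl | ⟨x, y, rfl⟩
  · rw [hEl_smul_pinf]; exact pinf_mem
  · rw [hEl_smul_pt h]; exact pt_mem _ _

theorem wEl_mem : (wEl : Matrix.SpecialLinearGroup (Fin 4) F) ∈ Cfsg.Sz F m := by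
  refine mem_Sz_of_mapsTo h _ fun p hp => ?_
  rcases mem_ovoid.mp hp with rfl | ⟨x, y, rfl⟩
  · rw [wEl_smul_pinf (m := m)]; exact pt_mem _ _
  · by_cases hz : fz m x y = 0
    · obtain ⟨rfl, rfl⟩ := h.fz_eq_zero hz
      rw [wEl_smul_pt_zero]; exact pinf_mem
    · rw [wEl_smul_pt h hz]; exact pt_mem _ _

/-- The only elements fixing both base points are the torus elements. -/
theorem eq_hEl_of_fix {g : Matrix.SpecialLinearGroup (Fin 4) F} (hg : g ∈ Cfsg.Sz F m)
    (h1 : g • (pinf : Projectivization F (Fin 4 → F)) = pinf) (h0 : g • pt m (0 : F) 0 = pt m 0 0) :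
    ∃ k : Fˣ, g = hEl m k := by
  set G : Matrix (Fin 4) (Fin 4) F := (g : Matrix (Fin 4) (Fin 4) F) with hG
  rw [show (pinf : Projectivization F (Fin 4 → F)) = Cfsg.suzukiPointInfinity F from rfl,
    Cfsg.suzukiPointInfinity, smul_proj g _ _ (mulVec_ne_zero g (by simp)),
    Projectivization.mk_eq_mk_iff'] at h1
  obtain ⟨α, hα⟩ := h1
  have g10 : G 1 0 = 0 := by simpa [Matrix.mulVec, dotProduct, Fin.sum_univ_succ, hG] using (congrFun hα 1).symm
  have g20 : G 2 0 = 0 := by simpa [Matrix.mulVec, dotProduct, Fin.sum_univ_succ, hG] using (congrFun hα 2).symm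
  have g30 : G 3 0 = 0 := by simpa [Matrix.mulVec, dotProduct, Fin.sum_univ_succ, hG] using (congrFun hα 3).symm
  rw [pt, smul_proj g _ _ (mulVec_ne_zero g (ptVec_ne m 0 0)), Projectivization.mk_eq_mk_iff'] at h0
  obtain ⟨β, hβ⟩ := h0
  have g03 : G 0 3 = 0 := by simpa [ptVec, fz_eq, Matrix.mulVec, dotProduct, Fin.sum_univ_succ, hG] using (congrFun hβ 0).symm
  have g13 : G 1 3 = 0 := by simpa [ptVec, fz_eq, Matrix.mulVec, dotProduct, Fin.sum_univ_succ, hG] using (congrFun hβ 1).symm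
  have g23 : G 2 3 = 0 := by simpa [ptVec, fz_eq, Matrix.mulVec, dotProduct, Fin.sum_univ_succ, hG] using (congrFun hβ 2).symm
  -- where the finite points go
  have himg : ∀ x y : F, ∃ x' y' c : F, c ≠ 0 ∧
      c • ptVec m x' y' = Matrix.mulVec G (ptVec m x y) := by
    intro x y
    have hm : g • pt m x y ∈ Cfsg.suzukiOvoid F m := by
      have := MulAction.mem_stabilizer_iff.mp hg
      rw [← this]
      exact Set.smul_mem_smul_set (pt_mem x y)
    rcases mem_ovoid.mp hm with e | ⟨x', y', e⟩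
    · exfalso
      have : g • pt m x y = g • (pinf : Projectivization F (Fin 4 → F)) := by
        rw [e]
        refine (smul_mk_eq α ?_).symm
        exact hα
      exact pt_ne_pinf x y (smul_left_cancel g this)
    · rw [pt, pt, smul_proj g _ _ (mulVec_ne_zero g (ptVec_ne m x y)), Projectivization.mk_eq_mk_iff'] at e
      obtain ⟨c, hc⟩ := e
      refine ⟨x', y', c, ?_, hc⟩
      rintro rfl
      rw [zero_smul] at hc
      exact mulVec_ne_zero g (ptVec_ne m x y) hc.symm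
  have hrow3 : ∀ x y : F, G 3 1 * y + G 3 2 * x + G 3 3 ≠ 0 := by
    intro x y
    obtain ⟨x', y', c, hc, e⟩ := himg x y
    have := congrFun e 3
    simp [ptVec, Matrix.mulVec, dotProduct, Fin.sum_univ_succ, g30] at this
    rw [show G 3 1 * y + G 3 2 * x + G 3 3 = c by rw [this]; ring]
    exact hc
  have g31 : G 3 1 = 0 := by
    by_contra hne
    exact hrow3 0 (-(G 3 3) / G 3 1) (by field_simp; ring)
  have g32 : G 3 2 = 0 := by
    by_contra hne
    exact hrow3 (-(G 3 3) / G 3 2) 0 (by field_simp; ring)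
  have g33 : G 3 3 ≠ 0 := by simpa [g31, g32] using hrow3 0 0
  set δ := G 3 3 with hδ
  -- the fundamental identity
  have key : ∀ x y : F,
      fz m ((G 2 1 * y + G 2 2 * x) / δ) ((G 1 1 * y + G 1 2 * x) / δ) =
        (G 0 0 * fz m x y + G 0 1 * y + G 0 2 * x) / δ := by
    intro x y
    obtain ⟨x', y', c, hc, e⟩ := himg x y
    have e0 := congrFun e 0
    have e1 := congrFun e 1
    have e2 := congrFun e 2
    have e3 := congrFun e 3
    simp [ptVec, Matrix.mulVec, dotProduct, Fin.sum_univ_succ, g10, g20, g30, g03, g13, g23, g31, g32] at e0 e1 e2 e3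
    rw [e3] at e0 e1 e2
    have hx : x' = (G 2 1 * y + G 2 2 * x) / δ := by field_simp; linear_combination e2
    have hy : y' = (G 1 1 * y + G 1 2 * x) / δ := by field_simp; linear_combination e1
    rw [← hx, ← hy]
    field_simp
    linear_combination e0
  obtain ⟨hσ2, hσq⟩ : 4 ≤ 2 ^ (m + 1) ∧ 2 ^ (m + 1) + 2 < Fintype.card F := by
    have h1 := h.one_le
    have : 4 ≤ 2 ^ (m + 1) := by
      calc (4 : ℕ) = 2 ^ 2 := by norm_num
        _ ≤ _ := Nat.pow_le_pow_right (by norm_num) (by omega)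
    refine ⟨this, ?_⟩
    rw [h.card]
    have : 2 * 2 ^ (m + 1) ≤ 2 ^ (2 * m + 1) := by
      rw [← pow_succ']; exact Nat.pow_le_pow_right (by norm_num) (by omega)
    omega
  -- comparing coefficients
  have vanish : ∀ (A B C D : F),
      (∀ x : F, A * x ^ (2 ^ (m + 1) + 2) + B * x ^ 2 ^ (m + 1) + C * x ^ 2 + D * x = 0) →
        A = 0 ∧ B = 0 ∧ C = 0 ∧ D = 0 := by
    intro A B C D hv
    classical
    let P : Polynomial F := Polynomial.C A * Polynomial.X ^ (2 ^ (m + 1) + 2) +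
      Polynomial.C B * Polynomial.X ^ 2 ^ (m + 1) + Polynomial.C C * Polynomial.X ^ 2 + Polynomial.C D * Polynomial.X
    have hP : P = 0 := by
      refine Polynomial.eq_zero_of_natDegree_lt_card_of_eval_eq_zero' P Finset.univ (fun x _ => ?_) ?_
      · simpa [P] using hv x
      · rw [Finset.card_univ]
        refine lt_of_le_of_lt ?_ hσq
        simp only [P]
        compute_degree
        all_goals omega
    have hc : ∀ n, P.coeff n = 0 := fun n => by rw [hP, Polynomial.coeff_zero]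
    have c1 := hc 1
    have c2 := hc 2
    have c3 := hc (2 ^ (m + 1))
    have c4 := hc (2 ^ (m + 1) + 2)
    simp only [P, Polynomial.coeff_add, Polynomial.coeff_C_mul, Polynomial.coeff_X_pow, Polynomial.coeff_X] at c1 c2 c3 c4
    refine ⟨?_, ?_, ?_, ?_⟩
    · simpa [show 2 ^ (m+1) + 2 ≠ 2 ^ (m+1) by omega, show 2 ^ (m+1) + 2 ≠ 2 by omega, show (1:ℕ) ≠ 2 ^ (m+1) + 2 by omega] using c4
    · simpa [show 2 ^ (m+1) ≠ 2 ^ (m+1) + 2 by omega, show 2 ^ (m+1) ≠ 2 by omega, show (1:ℕ) ≠ 2 ^ (m+1) by omega] using c3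
    · simpa [show 2 ≠ 2 ^ (m+1) + 2 by omega, show 2 ≠ 2 ^ (m+1) by omega] using c2
    · simpa [show 1 ≠ 2 ^ (m+1) + 2 by omega, show 1 ≠ 2 ^ (m+1) by omega] using c1
  obtain ⟨hα', hB, -, hD⟩ := vanish
    (θ m (G 2 2 / δ) * (G 2 2 / δ) ^ 2 - G 0 0 / δ) (θ m (G 1 2 / δ))
    ((G 2 2 / δ) * (G 1 2 / δ)) (-(G 0 2 / δ)) (fun x => by
      have e := key x 0
      simp only [fz_eq, θ_zero, mul_zero, zero_add, add_zero] at e
      rw [mul_div_right_comm (G 2 2) x δ, mul_div_right_comm (G 1 2) x δ, θ_mul, θ_mul] at e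
      have hp : (x : F) ^ 2 ^ (m + 1) = θ m x := rfl
      rw [pow_add, hp]
      linear_combination e)
  obtain ⟨hA', hB', hC', hD'⟩ := vanish
    (θ m (G 2 1 / δ) * (G 2 1 / δ) ^ 2) (θ m (G 1 1 / δ) - G 0 0 / δ)
    ((G 2 1 / δ) * (G 1 1 / δ)) (-(G 0 1 / δ)) (fun y => by
      have e := key 0 y
      simp only [fz_eq, θ_zero, mul_zero, zero_mul, zero_add, add_zero] at e
      rw [mul_div_right_comm (G 2 1) y δ, mul_div_right_comm (G 1 1) y δ, θ_mul, θ_mul] at e
      have hp : (y : F) ^ 2 ^ (m + 1) = θ m y := rfl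
      rw [pow_add, hp]
      linear_combination e)
  have g12 : G 1 2 = 0 := by simpa [g33] using h.θ_eq_zero.mp hB
  have g02 : G 0 2 = 0 := by simpa [g33] using hD
  have g01 : G 0 1 = 0 := by simpa [g33] using hD'
  have g21 : G 2 1 = 0 := by
    rcases mul_eq_zero.mp hA' with e | e
    · simpa [g33] using h.θ_eq_zero.mp e
    · simpa [g33] using e
  set e := G 2 2 / δ with he
  set b := G 1 1 / δ with hb
  have hαe : G 0 0 / δ = θ m e * e ^ 2 := (sub_eq_zero.mp hα').symm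
  have hbe : b = θ m e * e := by
    apply h.θ_injective
    rw [sub_eq_zero.mp hB', hαe, θ_mul, h.θ_θ]; ring
  have hdet : G 0 0 * G 1 1 * G 2 2 * δ = 1 := by
    have := g.2
    rw [show (g.1 : Matrix (Fin 4) (Fin 4) F) = G from rfl] at this
    simp [Matrix.det_succ_row_zero, Fin.sum_univ_succ, Fin.succAbove, g10, g20, g30, g03, g13, g23, g31, g32, g12, g02, g01, g21] at this
    linear_combination this
  have e00 : G 0 0 = θ m e * e ^ 2 * δ := by rw [← hαe]; field_simp
  have e11 : G 1 1 = θ m e * e * δ := by rw [← hbe, hb]; field_simp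
  have e22 : G 2 2 = e * δ := by rw [he]; field_simp
  have hene : e ≠ 0 := by
    intro e0
    rw [e22, e0] at hdet
    simp at hdet
  -- the scalar is determined by the determinant
  have hr := hθ_ne_zero m hene
  have hδv : δ = (hθ m e * e)⁻¹ := by
    have h4 : (δ * (hθ m e * e)) ^ 4 = 1 := by
      rw [e00, e11, e22, ← hθ_sq m e] at hdet
      linear_combination hdet
    have h1' : δ * (hθ m e * e) = 1 := by
      have := h.charP
      have h5 : (δ * (hθ m e * e) - 1) ^ 4 = 0 := by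
        have := sub_pow_char_pow (p := 2) (n := 2) (δ * (hθ m e * e)) (1 : F)
        norm_num at this
        rw [this, h4, sub_self]
      exact sub_eq_zero.mp (pow_eq_zero_iff (n := 4) (by norm_num) |>.mp h5)
    field_simp
    linear_combination h1'
  refine ⟨Units.mk0 e hene, ?_⟩
  apply Subtype.ext
  show G = _
  ext i j
  fin_cases i <;> fin_cases j <;>
    simp [hEl, g10, g20, g30, g03, g13, g23, g31, g32, g12, g02, g01, g21]
  · rw [e00, hδv, ← hθ_sq m e]; field_simp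
  · rw [e11, hδv, ← hθ_sq m e]; field_simp
  · rw [e22, hδv]; field_simp
  · exact hδv.trans (by rw [mul_inv, mul_comm])

end Cfsg.Agent.Suzuki
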