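import Cfsg.Agent.Lib.Suzuki.TorType

/-! The number of elements generating a solvable subgroup with a given element of a Suzuki group. -/

namespace Cfsg.Agent.Suzuki

open scoped Pointwise

set_option linter.unusedSectionVars false

variable {F : Type*} [Field F] [Fintype F] {m : ℕ} (h : SzField F m)

/-- The solubilizer. -/
def solSet {G : Type*} [Group G] (x : G) : Set G := {y | Group.IsSolvable (Subgroup.closure ({x, y} : Set G))}

theorem card_solSet_map {G G' : Type*} [Group G] [Group G'] (e : G ≃* G') (x : G) :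
    Nat.card (solSet (e x)) = Nat.card (solSet x) := by
  refine (Nat.card_congr (e.toEquiv.subtypeEquiv fun y => ?_)).symm
  have h1 : (Subgroup.closure ({x, y} : Set G)).map e.toMonoidHom = Subgroup.closure {e x, e y} := by
    rw [MonoidHom.map_closure, Set.image_pair]; rfl
  let f := Subgroup.equivMapOfInjective (Subgroup.closure ({x, y} : Set G)) e.toMonoidHom e.injective
  show Group.IsSolvable (Subgroup.closure ({x, y} : Set G)) ↔ Group.IsSolvable (Subgroup.closure ({e x, e y} : Set G'))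
  rw [← h1]
  exact ⟨fun _ => Group.isSolvable_of_surjective (f := f.toMonoidHom) f.surjective,
    fun _ => Group.isSolvable_of_surjective (f := f.symm.toMonoidHom) f.symm.surjective⟩

theorem mem_solSet_of_le {G : Type*} [Group G] {N : Subgroup G} (hN : Group.IsSolvable N) {x y : G}
    (hx : x ∈ N) (hy : y ∈ N) : y ∈ solSet x :=
  Group.isSolvable_of_isSolvable_injective
    (f := Subgroup.inclusion ((Subgroup.closure_le N).mpr (Set.insert_subset hx (Set.singleton_subset_iff.mpr hy))))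
    (Subgroup.inclusion_injective _)

/-- Conjugates of `C₀` whose normaliser contains `x`. -/
def fibre (C₀ : Subgroup (Cfsg.Sz F m)) (x : Cfsg.Sz F m) : Set (Subgroup (Cfsg.Sz F m)) :=
  {C | ∃ g, C = conjSub g C₀ ∧ x ∈ Subgroup.normalizer (C : Set (Cfsg.Sz F m))}

theorem conjSub_mul (g g' : Cfsg.Sz F m) (C : Subgroup (Cfsg.Sz F m)) :
    conjSub (g * g') C = conjSub g (conjSub g' C) := by
  show Subgroup.map _ C = Subgroup.map _ (Subgroup.map _ C)
  rw [Subgroup.map_map]
  congr 1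
  ext x
  simp [mul_assoc]

theorem conjSub_eq_self {g : Cfsg.Sz F m} {C : Subgroup (Cfsg.Sz F m)}
    (hg : g ∈ Subgroup.normalizer (C : Set (Cfsg.Sz F m))) : conjSub g C = C := by
  ext x
  rw [mem_conjSub]
  have := Subgroup.mem_normalizer_iff.mp hg (g⁻¹ * x * g)
  rw [this]
  group

theorem mem_normalizer_of_conjSub_eq {g : Cfsg.Sz F m} {C : Subgroup (Cfsg.Sz F m)}
    (hg : conjSub g C = C) : g ∈ Subgroup.normalizer (C : Set (Cfsg.Sz F m)) := by
  rw [Subgroup.mem_normalizer_iff]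
  intro y
  nth_rw 2 [← hg]
  rw [mem_conjSub]
  group

theorem card_fibre_mul (C₀ : Subgroup (Cfsg.Sz F m)) (x : Cfsg.Sz F m) :
    Nat.card (fibre C₀ x) * Nat.card (Subgroup.normalizer (C₀ : Set (Cfsg.Sz F m))) =
      Nat.card {y // y ∈ Subgroup.normalizer (C₀ : Set (Cfsg.Sz F m)) ∧ IsConj x y} *
        Nat.card (Subgroup.centralizer {x}) := by
  classical
  set N := Subgroup.normalizer (C₀ : Set (Cfsg.Sz F m))
  have hΓ : ∀ g, g⁻¹ * x * g ∈ N ↔ x ∈ Subgroup.normalizer (conjSub g C₀ : Set (Cfsg.Sz F m)) := fun g => by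
    rw [normalizer_conjSub, mem_conjSub]
  have e1 : Nat.card (fibre C₀ x) * Nat.card N = Nat.card {g // g⁻¹ * x * g ∈ N} := by
    rw [← Nat.card_prod]
    let r : fibre C₀ x → Cfsg.Sz F m := fun C => C.2.choose
    have hr : ∀ C : fibre C₀ x, (C : Subgroup (Cfsg.Sz F m)) = conjSub (r C) C₀ := fun C => C.2.choose_spec.1
    have hmem : ∀ (C : fibre C₀ x) (n : N), (r C * n.1)⁻¹ * x * (r C * n.1) ∈ N := fun C n => by
      rw [hΓ, conjSub_mul, conjSub_eq_self n.2, ← hr]; exact C.2.choose_spec.2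
    refine Nat.card_eq_of_bijective (fun p => (⟨r p.1 * p.2.1, hmem p.1 p.2⟩ : {g // g⁻¹ * x * g ∈ N})) ⟨?_, ?_⟩
    · rintro ⟨C, n⟩ ⟨C', n'⟩ e
      have e' : r C * n.1 = r C' * n'.1 := congrArg Subtype.val e
      have hC : C = C' := Subtype.ext (by
        calc (C : Subgroup (Cfsg.Sz F m)) = conjSub (r C * n.1) C₀ := by rw [conjSub_mul, conjSub_eq_self n.2, ← hr]
          _ = conjSub (r C' * n'.1) C₀ := by rw [e']
          _ = C' := by rw [conjSub_mul, conjSub_eq_self n'.2, ← hr])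
      subst hC
      exact congrArg (Prod.mk C) (Subtype.ext (mul_left_cancel e'))
    · rintro ⟨g, hg⟩
      let C : fibre C₀ x := ⟨conjSub g C₀, g, rfl, (hΓ g).mp hg⟩
      have hn : (r C)⁻¹ * g ∈ N := by
        refine mem_normalizer_of_conjSub_eq ?_
        rw [conjSub_mul, show conjSub g C₀ = conjSub (r C) C₀ from hr C, ← conjSub_mul, inv_mul_cancel]
        exact conjSub_eq_self (Subgroup.one_mem _)
      exact ⟨(C, ⟨_, hn⟩), Subtype.ext (mul_inv_cancel_left _ _)⟩
  rw [e1, ← Nat.card_prod]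
  symm
  let r : {y // y ∈ N ∧ IsConj x y} → Cfsg.Sz F m := fun y => (isConj_iff.mp y.2.2).choose⁻¹
  have hr : ∀ y : {y // y ∈ N ∧ IsConj x y}, (r y)⁻¹ * x * r y = y.1 := fun y => by
    have := (isConj_iff.mp y.2.2).choose_spec
    simp only [r, inv_inv]
    exact this
  have hcx : ∀ (y : {y // y ∈ N ∧ IsConj x y}) (c : Subgroup.centralizer {x}),
      (c.1 * r y)⁻¹ * x * (c.1 * r y) = y.1 := fun y c => by
    have hc := Subgroup.mem_centralizer_singleton_iff.mp c.2
    calc (c.1 * r y)⁻¹ * x * (c.1 * r y) = (r y)⁻¹ * (c.1⁻¹ * (x * c.1)) * r y := by group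
      _ = (r y)⁻¹ * x * r y := by rw [← hc]; group
      _ = y.1 := hr y
  refine Nat.card_eq_of_bijective (fun p => (⟨p.2.1 * r p.1, by rw [hcx p.1 p.2]; exact p.1.2.1⟩ :
    {g // g⁻¹ * x * g ∈ N})) ⟨?_, ?_⟩
  · rintro ⟨y, c⟩ ⟨y', c'⟩ e
    have e' : c.1 * r y = c'.1 * r y' := congrArg Subtype.val e
    have hy : y = y' := Subtype.ext (by rw [← hcx y c, e', hcx])
    subst hy
    exact congrArg (Prod.mk y) (Subtype.ext (mul_right_cancel e'))
  · rintro ⟨g, hg⟩
    let y : {y // y ∈ N ∧ IsConj x y} := ⟨g⁻¹ * x * g, hg, isConj_iff.mpr ⟨g⁻¹, by group⟩⟩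
    refine ⟨(y, ⟨g * (r y)⁻¹, ?_⟩), Subtype.ext (inv_mul_cancel_right g _)⟩
    rw [Subgroup.mem_centralizer_singleton_iff]
    have e := hr y
    calc g * (r y)⁻¹ * x = g * ((r y)⁻¹ * x * r y) * (r y)⁻¹ := by group
      _ = g * (g⁻¹ * x * g) * (r y)⁻¹ := by rw [e]
      _ = x * (g * (r y)⁻¹) := by group

include h

/-! ### Element structure of a torus normaliser -/

theorem TorType.exists_involution {C : Subgroup (Cfsg.Sz F m)} {e : ℕ} (hC : TorType C e) :
    ∃ x ∈ Subgroup.normalizer (C : Set (Cfsg.Sz F m)), orderOf x = 2 := by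
  have : Fact (Nat.Prime 2) := ⟨Nat.prime_two⟩
  obtain ⟨x, hx⟩ := exists_prime_orderOf_dvd_card' (G := Subgroup.normalizer (C : Set (Cfsg.Sz F m))) 2 (by
    rw [hC.card_normalizer]
    rcases hC.he with rfl | rfl <;> exact dvd_mul_of_dvd_left (by norm_num) _)
  exact ⟨x.1, x.2, by rw [Subgroup.orderOf_coe, hx]⟩

theorem TorType.card_involutions {C : Subgroup (Cfsg.Sz F m)} {e : ℕ} (hC : TorType C e) :
    Nat.card {y // y ∈ Subgroup.normalizer (C : Set (Cfsg.Sz F m)) ∧ orderOf y = 2} = Nat.card C := by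
  obtain ⟨x, hxN, hx⟩ := hC.exists_involution h
  have hxx : x * x = 1 := by rw [← pow_two, ← hx, pow_orderOf_eq_one]
  have hxC : x ∉ C := fun hc => by
    have := hC.not_orderOf_two h hc (n := 1) (by rw [pow_one, pow_two, hxx])
    rw [this, orderOf_one] at hx; omega
  refine (Nat.card_eq_of_bijective (fun c : C => (⟨x * c.1,
    Subgroup.mul_mem _ hxN (Subgroup.le_normalizer c.2), ?_⟩ :
      {y // y ∈ Subgroup.normalizer (C : Set (Cfsg.Sz F m)) ∧ orderOf y = 2})) ⟨?_, ?_⟩).symm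
  · refine orderOf_eq_prime_iff.mpr ⟨?_, fun h1 => hxC ?_⟩
    · have := hC.invert h hxN hx c.2
      rw [pow_two]
      calc x * c.1 * (x * c.1) = (x * c.1 * x⁻¹) * (x * x) * c.1 := by group
        _ = 1 := by rw [this, hxx]; group
    · rw [eq_inv_of_mul_eq_one_left h1]; exact C.inv_mem c.2
  · intro a b e; exact Subtype.ext (mul_left_cancel (congrArg Subtype.val e :))
  · rintro ⟨y, hyN, hy⟩
    suffices hxy : x * y ∈ C by
      exact ⟨⟨_, hxy⟩, Subtype.ext (show x * (x * y) = y by rw [← mul_assoc, hxx, one_mul])⟩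
    obtain ⟨c, hc, hc1⟩ : ∃ c ∈ C, c ≠ 1 := by
      by_contra hall
      push Not at hall
      have := hC.one_lt
      rw [(Subgroup.eq_bot_iff_forall C).mpr hall, Subgroup.card_bot] at this
      omega
    rw [← hC.ti c hc hc1, Subgroup.mem_centralizer_singleton_iff]
    have e1 := hC.invert h hyN hy hc
    have e2 := hC.invert h hxN hx (C.inv_mem hc)
    rw [inv_inv] at e2
    calc x * y * c = x * (y * c * y⁻¹) * x⁻¹ * (x * y) := by group
      _ = c * (x * y) := by rw [e1, e2]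

theorem TorType.card_orderFour {C : Subgroup (Cfsg.Sz F m)} {e : ℕ} (hC : TorType C e) :
    Nat.card {y // y ∈ Subgroup.normalizer (C : Set (Cfsg.Sz F m)) ∧ orderOf y = 4} + 2 * Nat.card C =
      e * Nat.card C := by
  classical
  set N := Subgroup.normalizer (C : Set (Cfsg.Sz F m))
  have hs : ∀ y : N, y.1 ∈ C ∨ orderOf y.1 = 2 ∨ orderOf y.1 = 4 := by
    intro y
    by_cases hy : y.1 ∈ C
    · exact Or.inl hy
    obtain ⟨i, hi, hi'⟩ := (Nat.dvd_prime_pow Nat.prime_two).mp
      (orderOf_dvd_of_pow_eq_one (show y.1 ^ (2 ^ 2) = 1 from hC.sub_two h y.2 hy))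
    rcases i with _ | _ | _ | i
    · exact absurd (orderOf_eq_one_iff.mp (by simpa using hi')) (fun e => hy (by rw [e]; exact C.one_mem))
    · exact Or.inr (Or.inl (by simpa using hi'))
    · exact Or.inr (Or.inr (by simpa using hi'))
    · omega
  have hodd : ∀ y ∈ C, orderOf y ≠ 2 ∧ orderOf y ≠ 4 := by
    refine fun y hy => ⟨fun e => ?_, fun e => ?_⟩
    · have := hC.not_orderOf_two h hy (n := 1) (by rw [pow_one, ← e, pow_orderOf_eq_one])
      rw [this, orderOf_one] at e; omega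
    · have := hC.not_orderOf_two h hy (n := 2) (orderOf_dvd_iff_pow_eq_one.mp e.dvd)
      rw [this, orderOf_one] at e; omega
  let f : C ⊕ {y // y ∈ N ∧ orderOf y = 2} ⊕ {y // y ∈ N ∧ orderOf y = 4} → N :=
    Sum.elim (fun c => ⟨c.1, Subgroup.le_normalizer c.2⟩) (Sum.elim (fun y => ⟨y.1, y.2.1⟩) fun y => ⟨y.1, y.2.1⟩)
  have hf : Function.Bijective f := by
    constructor
    · rintro (a | a | a) (b | b | b) e <;> simp only [f, Sum.elim_inl, Sum.elim_inr, Subtype.mk.injEq] at e
      · exact congrArg Sum.inl (Subtype.ext e)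
      · exact absurd b.2.2 (hodd _ (e ▸ a.2)).1
      · exact absurd b.2.2 (hodd _ (e ▸ a.2)).2
      · exact absurd a.2.2 (hodd _ (e ▸ b.2)).1
      · exact congrArg (Sum.inr ∘ Sum.inl) (Subtype.ext e)
      · have h1 := b.2.2; rw [← e, a.2.2] at h1; omega
      · exact absurd a.2.2 (hodd _ (e ▸ b.2)).2
      · have h1 := b.2.2; rw [← e, a.2.2] at h1; omega
      · exact congrArg (Sum.inr ∘ Sum.inr) (Subtype.ext e)
    · intro y
      rcases hs y with hy | hy | hy
      · exact ⟨Sum.inl ⟨y.1, hy⟩, rfl⟩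
      · exact ⟨Sum.inr (Sum.inl ⟨y.1, y.2, hy⟩), rfl⟩
      · exact ⟨Sum.inr (Sum.inr ⟨y.1, y.2, hy⟩), rfl⟩
  have := Nat.card_eq_of_bijective f hf
  rw [Nat.card_sum, Nat.card_sum, hC.card_involutions h, hC.card_normalizer] at this
  omega

/-! ### Classes and centralisers of elements of order 4 -/

theorem orderFour_normal_form {x : Cfsg.Sz F m} (hx : orderOf x = 4) :
    IsConj x (T h 1 0) ∨ IsConj x (T h 1 1) := by
  classical
  obtain ⟨u, hu⟩ := exists_conj_mem_rootGroup h (x := x) (n := 2) (orderOf_dvd_iff_pow_eq_one.mp hx.dvd)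
  obtain ⟨a, b, hab⟩ := hu
  have ha : a ≠ 0 := by
    rintro rfl
    have h1 : (u * x * u⁻¹) ^ 2 = 1 := by rw [hab, pow_two, T_sq, θ_zero, zero_mul, T_zero]
    rw [conj_pow, conj_eq_one_iff] at h1
    have := Nat.le_of_dvd two_pos (hx ▸ orderOf_dvd_of_pow_eq_one h1)
    omega
  let L : F →+ F := AddMonoidHom.mk' (fun s => θ m s + s) fun s t => by rw [h.θ_add]; ring
  have hker : Nat.card L.ker = 2 := by
    let f : Bool → L.ker := fun t => ⟨if t then 1 else 0, by cases t <;> simp [L, AddMonoidHom.mem_ker, h.add_self]⟩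
    refine (Nat.card_eq_of_bijective f ⟨fun s t e => ?_, fun ⟨s, hs⟩ => ?_⟩).symm.trans (by simp)
    · have := congrArg Subtype.val e
      cases s <;> cases t <;> simp [f] at this ⊢
    · have h1 : θ m s = s := (h.eq_iff_add_eq_zero _ _).mpr hs
      rcases h.θ_eq_self h1 with rfl | rfl
      · exact ⟨false, rfl⟩
      · exact ⟨true, rfl⟩
  have hidx : L.range.index = 2 := by
    have h1 := L.range.card_mul_index
    have h2 := L.ker.card_mul_index
    rw [AddSubgroup.index_ker, hker] at h2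
    rw [← h2, mul_comm 2 (Nat.card L.range)] at h1
    exact Nat.eq_of_mul_eq_mul_left Nat.card_pos h1
  obtain ⟨b', hb'⟩ : ∃ b', IsConj x (T h 1 b') := by
    refine ⟨θ m a⁻¹ * a⁻¹ * b, isConj_iff.mpr ⟨H h (Units.mk0 a ha)⁻¹ * u, ?_⟩⟩
    rw [show H h (Units.mk0 a ha)⁻¹ * u * x * (H h (Units.mk0 a ha)⁻¹ * u)⁻¹
      = H h (Units.mk0 a ha)⁻¹ * (u * x * u⁻¹) * (H h (Units.mk0 a ha)⁻¹)⁻¹ by group, hab, H_conj_T]
    simp [ha]
  have hmove : ∀ s c, IsConj (T h 1 c) (T h 1 (θ m s + s + c)) := fun s c =>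
    isConj_iff.mpr ⟨T h s 0, by rw [T_conj, mul_one, θ_one, one_mul]⟩
  by_cases hmem : b' ∈ L.range
  · obtain ⟨s, hs⟩ := hmem
    left
    have h1 := hmove s 0
    rw [add_zero, show θ m s + s = b' from hs] at h1
    exact hb'.trans h1.symm
  · have h1 : (1 : F) ∉ L.range := by
      rintro ⟨s, hs⟩
      exact h.add_θ_ne_one s (by rw [add_comm]; exact hs)
    obtain ⟨s, hs⟩ : b' + 1 ∈ L.range :=
      (AddSubgroup.add_mem_iff_of_index_two hidx).mpr (iff_of_false hmem h1)
    right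
    have h2 := hmove s 1
    rw [show θ m s + s = b' + 1 from hs, add_assoc, h.add_self, add_zero] at h2
    exact hb'.trans h2.symm

theorem orderFour_classes {x y : Cfsg.Sz F m} (hx : orderOf x = 4) (hy : orderOf y = 4) :
    IsConj x y ∨ IsConj x⁻¹ y := by
  have hinv : (T h 1 0)⁻¹ = T h 1 1 := by rw [T_inv, θ_one, one_mul, zero_add]
  have hi : ∀ {a b : Cfsg.Sz F m}, IsConj a b → IsConj a⁻¹ b⁻¹ := fun {a b} hab => by
    obtain ⟨g, hg⟩ := isConj_iff.mp hab
    exact isConj_iff.mpr ⟨g, by rw [← hg]; group⟩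
  rcases orderFour_normal_form h hx with hx' | hx' <;> rcases orderFour_normal_form h hy with hy' | hy'
  · exact Or.inl (hx'.trans hy'.symm)
  · exact Or.inr ((hinv ▸ hi hx').trans hy'.symm)
  · refine Or.inr (IsConj.trans ?_ hy'.symm)
    have h1 := hi hx'
    rwa [← hinv, inv_inv] at h1
  · exact Or.inl (hx'.trans hy'.symm)

theorem card_centralizer_conj {G : Type*} [Group G] (u x : G) :
    Nat.card (Subgroup.centralizer {u * x * u⁻¹}) = Nat.card (Subgroup.centralizer {x}) := by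
  refine Nat.card_congr ((MulAut.conj u⁻¹).toEquiv.subtypeEquiv fun w => ?_)
  show _ ↔ u⁻¹ * w * u⁻¹⁻¹ ∈ Subgroup.centralizer {x}
  rw [inv_inv, Subgroup.mem_centralizer_singleton_iff, Subgroup.mem_centralizer_singleton_iff]
  constructor
  · intro e
    calc u⁻¹ * w * u * x = u⁻¹ * (w * (u * x * u⁻¹)) * u := by group
      _ = u⁻¹ * (u * x * u⁻¹ * w) * u := by rw [e]
      _ = x * (u⁻¹ * w * u) := by group
  · intro e
    calc w * (u * x * u⁻¹) = u * (u⁻¹ * w * u * x) * u⁻¹ := by group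
      _ = u * (x * (u⁻¹ * w * u)) * u⁻¹ := by rw [e]
      _ = u * x * u⁻¹ * w := by group

theorem card_centralizer_involution {x : Cfsg.Sz F m} (hx : orderOf x = 2) :
    Nat.card (Subgroup.centralizer {x}) = (2 ^ (2 * m + 1)) ^ 2 := by
  obtain ⟨u, hu⟩ := exists_conj_mem_rootGroup h (x := x) (n := 1) (by rw [pow_one, ← hx, pow_orderOf_eq_one])
  have hne : u * x * u⁻¹ ≠ 1 := by
    rw [Ne, conj_eq_one_iff]; intro e; rw [e, orderOf_one] at hx; omega
  have h2 : (u * x * u⁻¹) * (u * x * u⁻¹) = 1 := by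
    rw [← pow_two, conj_pow, ← hx, pow_orderOf_eq_one, mul_one, mul_inv_cancel]
  obtain ⟨d, hd⟩ := involution_in_rootGroup h hu h2
  have heq : Subgroup.centralizer {T h 0 d} = rootGroup h := by
    refine le_antisymm (centralizer_le h ⟨0, d, rfl⟩ (by rw [← hd]; exact hne)) ?_
    rintro _ ⟨a, b, rfl⟩
    exact Subgroup.mem_centralizer_singleton_iff.mpr (T_zero_central h d a b).symm
  rw [← card_centralizer_conj h u x, hd, heq, card_rootGroup]

theorem card_centralizer_orderFour {x : Cfsg.Sz F m} (hx : orderOf x = 4) :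
    Nat.card (Subgroup.centralizer {x}) = 2 * 2 ^ (2 * m + 1) := by
  have key : ∀ c d, c ≠ 0 → Nat.card (Subgroup.centralizer {T h c d}) = 2 * 2 ^ (2 * m + 1) := by
    intro c d hc
    have hmem : ∀ (t : Bool) (b : F), T h (if t then c else 0) b ∈ Subgroup.centralizer {T h c d} := by
      intro t b
      rw [Subgroup.mem_centralizer_singleton_iff]
      cases t
      · exact T_zero_central h b c d
      · show T h c b * T h c d = T h c d * T h c b
        rw [T_comm h c b c d, h.add_self, T_zero, one_mul]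
    let f : Bool × F → Subgroup.centralizer {T h c d} := fun p => ⟨_, hmem p.1 p.2⟩
    have hf : Function.Bijective f := by
      constructor
      · rintro ⟨s, a⟩ ⟨t, b⟩ e
        obtain ⟨h1, rfl⟩ := T_injective h (congrArg Subtype.val e)
        cases s <;> cases t <;> simp [hc, Ne.symm hc] at h1 ⊢
      · rintro ⟨g, hg⟩
        obtain ⟨a, b, rfl⟩ := centralizer_le h ⟨c, d, rfl⟩ (fun e => hc ((eq_one_iff_T h).mp e).1) hg
        rw [Subgroup.mem_centralizer_singleton_iff, T_comm h a b c d] at hg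
        have h2 := ((eq_one_iff_T h).mp (mul_eq_right.mp hg)).2
        by_cases ha : a = 0
        · exact ⟨(false, b), Subtype.ext (congrArg (T h · b) ha.symm)⟩
        · refine ⟨(true, b), Subtype.ext ?_⟩
          have hu : θ m (c / a) = c / a := by
            have hθa := θ_ne_zero m ha
            rw [θ_div, div_eq_div_iff hθa ha]
            linear_combination h2 - (θ m a * c) * h.two_eq_zero
          rcases h.θ_eq_self hu with e | e
          · exact absurd ((div_eq_zero_iff.mp e).resolve_right ha) hc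
          · show T h c b = T h a b
            rw [(div_eq_one_iff_eq ha).mp e]
    rw [← Nat.card_eq_of_bijective f hf, Nat.card_prod, Nat.card_eq_fintype_card (α := F), h.card,
      Nat.card_eq_fintype_card, Fintype.card_bool]
  rcases orderFour_normal_form h hx with e | e
  all_goals
    obtain ⟨u, hu⟩ := isConj_iff.mp e
    rw [← card_centralizer_conj h u x, hu, key _ _ one_ne_zero]

theorem card_fibre_involution {C : Subgroup (Cfsg.Sz F m)} {e : ℕ} (hC : TorType C e) {x : Cfsg.Sz F m}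
    (hx : orderOf x = 2) : Nat.card (fibre C x) * e = (2 ^ (2 * m + 1)) ^ 2 := by
  have h1 := card_fibre_mul C x
  rw [hC.card_normalizer, card_centralizer_involution h hx] at h1
  have h2 : Nat.card {y // y ∈ Subgroup.normalizer (C : Set (Cfsg.Sz F m)) ∧ IsConj x y} = Nat.card C := by
    rw [← hC.card_involutions h]
    refine Nat.card_congr (Equiv.subtypeEquivRight fun y => and_congr_right fun _ => ⟨fun hc => ?_, fun hy =>
      involutions_conj h hx hy⟩)
    obtain ⟨g, hg⟩ := isConj_iff.mp hc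
    rw [← hg, orderOf_conj_eq, hx]
  rw [h2, ← mul_assoc, mul_comm (Nat.card C)] at h1
  exact Nat.eq_of_mul_eq_mul_right (by have := hC.one_lt; omega) h1

theorem card_fibre_orderFour {C : Subgroup (Cfsg.Sz F m)} {e : ℕ} (hC : TorType C e) {x : Cfsg.Sz F m}
    (hx : orderOf x = 4) : Nat.card (fibre C x) * e = (e - 2) * 2 ^ (2 * m + 1) := by
  have h1 := card_fibre_mul C x
  rw [hC.card_normalizer, card_centralizer_orderFour h hx] at h1
  set N := Subgroup.normalizer (C : Set (Cfsg.Sz F m))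
  set K := Nat.card {y // y ∈ N ∧ IsConj x y} with hK
  have h2 : 2 * K + 2 * Nat.card C = e * Nat.card C := by
    rw [← hC.card_orderFour h]
    congr 1
    have hord : ∀ {y}, IsConj x y → orderOf y = 4 := fun {y} hy => by
      obtain ⟨g, hg⟩ := isConj_iff.mp hy
      rw [← hg, orderOf_conj_eq, hx]
    have hflip : ∀ {y}, IsConj x y → IsConj x⁻¹ y⁻¹ := fun {y} hy => by
      obtain ⟨g, hg⟩ := isConj_iff.mp hy
      exact isConj_iff.mpr ⟨g, by rw [← hg]; group⟩
    let f : {y // y ∈ N ∧ IsConj x y} ⊕ {y // y ∈ N ∧ IsConj x y} → {y // y ∈ N ∧ orderOf y = 4} :=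
      Sum.elim (fun y => ⟨y.1, y.2.1, hord y.2.2⟩)
        (fun y => ⟨y.1⁻¹, N.inv_mem y.2.1, by rw [orderOf_inv]; exact hord y.2.2⟩)
    have hreal : ¬ IsConj x x⁻¹ := fun hc => by
      have := (real_iff h (g := x) (n := 2) (orderOf_dvd_iff_pow_eq_one.mp hx.dvd)
        (fun e => by rw [e, orderOf_one] at hx; omega)).mp hc
      omega
    have hf : Function.Bijective f := by
      constructor
      · rintro (a | a) (b | b) e <;> simp only [f, Sum.elim_inl, Sum.elim_inr, Subtype.mk.injEq] at e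
        · exact congrArg Sum.inl (Subtype.ext e)
        · exact absurd ((e ▸ a.2.2).trans (hflip b.2.2).symm) hreal
        · exact absurd ((e.symm ▸ b.2.2).trans (hflip a.2.2).symm) hreal
        · exact congrArg Sum.inr (Subtype.ext (inv_injective e))
      · rintro ⟨y, hy, hy4⟩
        rcases orderFour_classes h hx hy4 with hc | hc
        · exact ⟨Sum.inl ⟨y, hy, hc⟩, rfl⟩
        · refine ⟨Sum.inr ⟨y⁻¹, N.inv_mem hy, ?_⟩, Subtype.ext (inv_inv y)⟩
          obtain ⟨g, hg⟩ := isConj_iff.mp hc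
          exact isConj_iff.mpr ⟨g, by rw [← hg]; group⟩
    rw [← Nat.card_eq_of_bijective f hf, Nat.card_sum]
    omega
  have he2 : 2 ≤ e := by rcases hC.he with rfl | rfl <;> omega
  refine Nat.eq_of_mul_eq_mul_right (show 0 < Nat.card C by have := hC.one_lt; omega) ?_
  rw [mul_assoc, h1]
  obtain ⟨d, rfl⟩ : ∃ d, e = d + 2 := ⟨e - 2, by omega⟩
  rw [Nat.add_sub_cancel]
  have h3 : 2 * K = d * Nat.card C := by
    rw [add_mul] at h2; omega
  calc K * (2 * 2 ^ (2 * m + 1)) = (2 * K) * 2 ^ (2 * m + 1) := by ring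
    _ = (d * Nat.card C) * 2 ^ (2 * m + 1) := by rw [h3]
    _ = d * 2 ^ (2 * m + 1) * Nat.card C := by ring

/-! ### Assembling the solubilizers -/

theorem borel_two_elt {y : Cfsg.Sz F m} (hy : y ∈ borel F m) {n : ℕ} (h2 : y ^ 2 ^ n = 1) :
    y ∈ rootGroup h := by
  by_cases hy1 : y = 1
  · rw [hy1]; exact (rootGroup h).one_mem
  obtain ⟨g, hg⟩ := exists_conj_mem_rootGroup h h2
  obtain ⟨a, b, hab⟩ := id hg
  have hgb : g ∈ borel F m := by
    refine T_fix_eq h (a := a) (b := b) (by rw [← hab, Ne, conj_eq_one_iff]; exact hy1) (smul_mem_ovoid g pinf_mem) ?_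
    rw [← hab, mul_smul, mul_smul, inv_smul_smul]
    exact congrArg (g • ·) hy
  exact (Subgroup.mem_normalizer_iff.mp (borel_le_normalizer h hgb) y).mpr hg

theorem card_normalizer_inter_stabilizer {C : Subgroup (Cfsg.Sz F m)} {e : ℕ} (hC : TorType C e)
    {x : Cfsg.Sz F m} (hx1 : x ≠ 1) (hxN : x ∈ Subgroup.normalizer (C : Set (Cfsg.Sz F m))) (h4 : x ^ 2 ^ 2 = 1)
    {p : Projectivization F (Fin 4 → F)} (hp : p ∈ Cfsg.suzukiOvoid F m) (hxp : x • p = p) :
    Nat.card ↥(Subgroup.normalizer (C : Set (Cfsg.Sz F m)) ⊓ MulAction.stabilizer (Cfsg.Sz F m) p) = e := by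
  classical
  have : Fact (Nat.Prime 2) := ⟨Nat.prime_two⟩
  set N := Subgroup.normalizer (C : Set (Cfsg.Sz F m)) with hN
  have hxC : x ∉ C := fun hc => hx1 (hC.not_orderOf_two h hc h4)
  -- nothing of the torus fixes the point
  have hCp : ∀ c ∈ C, c • p = p → c = 1 := by
    intro c hc hcp
    by_contra hc1
    obtain ⟨u, rfl⟩ := exists_smul_pinf h hp
    have hxb : u⁻¹ * x * u ∈ borel F m := by
      rw [MulAction.mem_stabilizer_iff, mul_smul, mul_smul, hxp, inv_smul_smul]
    have hcb : u⁻¹ * c * u ∈ borel F m := by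
      rw [MulAction.mem_stabilizer_iff, mul_smul, mul_smul, hcp, inv_smul_smul]
    have hxR := borel_two_elt h hxb (n := 2) (by
      have := conj_pow (a := u⁻¹) (b := x) (i := 2 ^ 2)
      rw [inv_inv] at this
      rw [this, h4, mul_one, inv_mul_cancel])
    set d := x * c * x⁻¹ * c⁻¹ with hd
    have hdC : d ∈ C := C.mul_mem ((Subgroup.mem_normalizer_iff.mp hxN c).mp hc) (C.inv_mem hc)
    have hdR : u⁻¹ * d * u ∈ rootGroup h := by
      have h1 := (Subgroup.mem_normalizer_iff.mp (borel_le_normalizer h hcb) _).mp ((rootGroup h).inv_mem hxR)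
      convert! (rootGroup h).mul_mem hxR h1 using 1
      rw [hd]; group
    have hd4 : d ^ 4 = 1 := pow_four_of_conj_root h (u := u⁻¹) (by rwa [inv_inv])
    have hd1 := hC.not_orderOf_two h hdC (n := 2) hd4
    apply hxC
    rw [← hC.ti c hc hc1, Subgroup.mem_centralizer_singleton_iff]
    rw [hd, mul_inv_eq_one] at hd1
    calc x * c = x * c * x⁻¹ * x := by group
      _ = c * x := by rw [hd1]
  apply le_antisymm
  · have hidx : Nat.card (N ⧸ C.subgroupOf N) = e := by
      have h1 := Subgroup.card_eq_card_quotient_mul_card_subgroup (C.subgroupOf N)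
      rw [Nat.card_congr (Subgroup.subgroupOfEquivOfLe (Subgroup.le_normalizer (H := C))).toEquiv,
        hC.card_normalizer] at h1
      exact (Nat.eq_of_mul_eq_mul_right (by have := hC.one_lt; omega) h1).symm
    rw [← hidx]
    refine Nat.card_le_card_of_injective
      (fun y : ↥(N ⊓ MulAction.stabilizer (Cfsg.Sz F m) p) => (QuotientGroup.mk ⟨y.1, y.2.1⟩ : N ⧸ C.subgroupOf N)) ?_
    intro y y' e
    have e' : (QuotientGroup.mk (⟨y.1, y.2.1⟩ : N) : N ⧸ C.subgroupOf N) = QuotientGroup.mk ⟨y'.1, y'.2.1⟩ := e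
    have h0 := QuotientGroup.eq.mp e'
    have h1 : y.1⁻¹ * y'.1 ∈ C := Subgroup.mem_subgroupOf.mp h0
    have h2 : (y.1⁻¹ * y'.1) • p = p :=
      (MulAction.stabilizer (Cfsg.Sz F m) p).mul_mem ((MulAction.stabilizer (Cfsg.Sz F m) p).inv_mem y.2.2) y'.2.2
    exact Subtype.ext (inv_mul_eq_one.mp (hCp _ h1 h2))
  · have hQ : IsPGroup 2 (Subgroup.zpowers (⟨x, hxN⟩ : N)) := by
      obtain ⟨i, -, hi⟩ := (Nat.dvd_prime_pow Nat.prime_two).mp (orderOf_dvd_of_pow_eq_one h4)
      exact IsPGroup.of_card (n := i) (by rw [Nat.card_zpowers, ← Subgroup.orderOf_coe, hi])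
    obtain ⟨S, hS⟩ := hQ.exists_le_sylow
    have hcardS : e ≤ Nat.card (S : Subgroup N) := by
      have h1 := (S : Subgroup N).card_mul_index
      rw [hC.card_normalizer] at h1
      have h2 : Nat.Coprime e (S : Subgroup N).index := by
        have := (Nat.Prime.coprime_iff_not_dvd Nat.prime_two).mpr S.not_dvd_index
        rcases hC.he with rfl | rfl
        · exact this
        · exact Nat.Coprime.pow_left 2 this
      exact Nat.le_of_dvd Nat.card_pos (h2.dvd_of_dvd_mul_right (h1 ▸ dvd_mul_right _ _))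
    obtain ⟨u, hu⟩ := exists_conj_isPGroup_le h (S.isPGroup'.map N.subtype)
    have hfix : ∀ y : (S : Subgroup N), (y.1.1 : Cfsg.Sz F m) • p = p := by
      have key : ∀ y : (S : Subgroup N), (y.1.1 : Cfsg.Sz F m) • (u⁻¹ • Cfsg.suzukiPointInfinity F) =
          u⁻¹ • Cfsg.suzukiPointInfinity F := fun y => by
        rw [eq_inv_smul_iff, ← mul_smul, ← mul_smul]
        exact rootGroup_le_borel h (hu _ ⟨y.1, y.2, rfl⟩)
      have hpp : u⁻¹ • Cfsg.suzukiPointInfinity F = p :=
        fixed_point_unique h hx1 h4 (smul_mem_ovoid _ pinf_mem) hp (key ⟨_, hS (Subgroup.mem_zpowers _)⟩) hxp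
      intro y
      rw [← hpp]; exact key y
    refine hcardS.trans (Nat.card_le_card_of_injective
      (fun y => (⟨y.1.1, y.1.2, hfix y⟩ : ↥(N ⊓ MulAction.stabilizer (Cfsg.Sz F m) p))) ?_)
    intro y y' e
    exact Subtype.ext (Subtype.ext (congrArg Subtype.val e :))

theorem inter_fix {C C' : Subgroup (Cfsg.Sz F m)} {e e' : ℕ} (hC : TorType C e) (hC' : TorType C' e')
    (hne : C ≠ C') {x : Cfsg.Sz F m} (hx1 : x ≠ 1) (h4 : x ^ 2 ^ 2 = 1)
    (hx : x ∈ Subgroup.normalizer (C : Set (Cfsg.Sz F m))) (hx' : x ∈ Subgroup.normalizer (C' : Set (Cfsg.Sz F m)))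
    {p : Projectivization F (Fin 4 → F)} (hp : p ∈ Cfsg.suzukiOvoid F m) (hxp : x • p = p) {y : Cfsg.Sz F m}
    (hy : y ∈ Subgroup.normalizer (C : Set (Cfsg.Sz F m))) (hy' : y ∈ Subgroup.normalizer (C' : Set (Cfsg.Sz F m))) :
    y • p = p := by
  set M := Subgroup.normalizer (C : Set (Cfsg.Sz F m)) ⊓ Subgroup.normalizer (C' : Set (Cfsg.Sz F m))
  have hM : ∀ z ∈ M, z ^ 2 ^ 2 = 1 := by
    rintro z ⟨hz, hz'⟩
    by_cases hzC : z ∈ C
    · by_cases hz1 : z = 1
      · rw [hz1, one_pow]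
      by_cases hzC' : z ∈ C'
      · exact absurd ((hC.ti z hzC hz1).symm.trans (hC'.ti z hzC' hz1)) hne
      · exact hC'.sub_two h hz' hzC'
    · exact hC.sub_two h hz hzC
  have hMp : IsPGroup 2 M := fun z => ⟨2, Subtype.ext (hM z.1 z.2)⟩
  obtain ⟨u, hu⟩ := exists_conj_isPGroup_le h hMp
  have key : ∀ z ∈ M, z • (u⁻¹ • Cfsg.suzukiPointInfinity F) = u⁻¹ • Cfsg.suzukiPointInfinity F := fun z hz => by
    rw [eq_inv_smul_iff, ← mul_smul, ← mul_smul]
    exact rootGroup_le_borel h (hu z hz)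
  have hpp := fixed_point_unique h hx1 h4 (smul_mem_ovoid _ pinf_mem) hp (key x ⟨hx, hx'⟩) hxp
  rw [← hpp]
  exact key y ⟨hy, hy'⟩

theorem exists_reps :
    ∃ A B : Subgroup (Cfsg.Sz F m), TorType A 4 ∧ TorType B 4 ∧
      Nat.card A = 2 ^ (2 * m + 1) + 2 ^ (m + 1) + 1 ∧ Nat.card B = 2 ^ (2 * m + 1) - 2 ^ (m + 1) + 1 ∧
      ∀ C, IsMember C → (∃ g, C = conjSub g A) ∨ ∃ g, C = conjSub g B := by
  obtain ⟨A, B, hA, hB, cA, cB, -, -, hall⟩ := exists_tori h
  refine ⟨A, B, torType_member h hA, torType_member h hB, cA, cB, fun C hC => ?_⟩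
  have key : ∀ D, ConjTo D C → ∃ g, C = conjSub g D := fun D ⟨u, hu⟩ => ⟨u⁻¹, by
    ext x; rw [mem_conjSub, hu x, inv_inv]⟩
  exact (hall C hC).imp (key A) (key B)

theorem card_stabilizer_point {p : Projectivization F (Fin 4 → F)} (hp : p ∈ Cfsg.suzukiOvoid F m) :
    Nat.card (MulAction.stabilizer (Cfsg.Sz F m) p) = (2 ^ (2 * m + 1)) ^ 2 * (2 ^ (2 * m + 1) - 1) := by
  rw [card_stabilizer h hp, card_borel h]

/-- The solubilizer of a non-trivial 2-element. -/
theorem card_solSet_two {x : Cfsg.Sz F m} (hx1 : x ≠ 1) (h4 : x ^ 2 ^ 2 = 1) :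
    ∃ A B : Subgroup (Cfsg.Sz F m), TorType A 4 ∧ TorType B 4 ∧
      Nat.card A + Nat.card B = 2 * (2 ^ (2 * m + 1) + 1) ∧
      Nat.card (solSet x) = (2 ^ (2 * m + 1)) ^ 2 * (2 ^ (2 * m + 1) - 1) +
        (Nat.card (fibre (torus h) x) * (2 * (Nat.card (torus h) - 1)) +
        (Nat.card (fibre A x) * (4 * (Nat.card A - 1)) + Nat.card (fibre B x) * (4 * (Nat.card B - 1)))) := by
  classical
  obtain ⟨A, B, hA, hB, cA, cB, hall⟩ := exists_reps h
  have hr : 2 ^ (m + 1) ≤ 2 ^ (2 * m + 1) := Nat.pow_le_pow_right (by norm_num) (by omega)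
  refine ⟨A, B, hA, hB, by omega, ?_⟩
  obtain ⟨p, hp, hxp⟩ := exists_fixed_point h h4
  have : Fintype (Cfsg.Sz F m) := Fintype.ofFinite _
  set S := MulAction.stabilizer (Cfsg.Sz F m) p with hS
  let nd : Subgroup (Cfsg.Sz F m) → Finset (Cfsg.Sz F m) := fun C =>
    Finset.univ.filter fun y => y ∈ Subgroup.normalizer (C : Set (Cfsg.Sz F m)) ∧ y ∉ S
  have : Fintype (Subgroup (Cfsg.Sz F m)) := Fintype.ofFinite _
  let fs : Subgroup (Cfsg.Sz F m) → Finset (Subgroup (Cfsg.Sz F m)) := fun C₀ =>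
    Finset.univ.filter fun C => C ∈ fibre C₀ x
  let K := fs (torus h) ∪ (fs A ∪ fs B)
  have hK : ∀ C, C ∈ K ↔ C ∈ fibre (torus h) x ∨ C ∈ fibre A x ∨ C ∈ fibre B x := fun C => by
    simp [K, fs]
  have htype : ∀ C ∈ K, ∃ e, TorType C e ∧ x ∈ Subgroup.normalizer (C : Set (Cfsg.Sz F m)) := by
    intro C hC
    rcases (hK C).mp hC with ⟨g, rfl, hg⟩ | ⟨g, rfl, hg⟩ | ⟨g, rfl, hg⟩
    · exact ⟨2, (torType_torus h).conj h g, hg⟩
    · exact ⟨4, hA.conj h g, hg⟩
    · exact ⟨4, hB.conj h g, hg⟩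
  have hsol : (Finset.univ.filter fun y => y ∈ solSet x) =
      (Finset.univ.filter fun y => y ∈ S) ∪ K.biUnion nd := by
    ext y
    simp only [Finset.mem_filter, Finset.mem_univ, true_and, Finset.mem_union, Finset.mem_biUnion, nd]
    constructor
    · intro hy
      by_cases hyS : y ∈ S
      · exact Or.inl hyS
      right
      have hxM : x ∈ Subgroup.closure ({x, y} : Set (Cfsg.Sz F m)) := Subgroup.subset_closure (Set.mem_insert _ _)
      have hyM : y ∈ Subgroup.closure ({x, y} : Set (Cfsg.Sz F m)) :=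
        Subgroup.subset_closure (Set.mem_insert_of_mem _ rfl)
      rcases solvable_le h hy (fun e => hx1 (Subgroup.mem_bot.mp (e ▸ hxM))) with
        ⟨p', hp', hfix⟩ | ⟨C, e, hC, hty, hle⟩
      · exact absurd (show y • p = p by
          rw [fixed_point_unique h hx1 h4 hp hp' hxp (hfix x hxM)]; exact hfix y hyM) hyS
      · refine ⟨C, (hK C).mpr ?_, hle hyM, hyS⟩
        rcases hty with ⟨u, hu⟩ | hmem
        · exact Or.inl ⟨u, hu, hle hxM⟩
        · rcases hall C hmem with ⟨g, hg⟩ | ⟨g, hg⟩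
          · exact Or.inr (Or.inl ⟨g, hg, hle hxM⟩)
          · exact Or.inr (Or.inr ⟨g, hg, hle hxM⟩)
    · rintro (hyS | ⟨C, hC, hyN, -⟩)
      · exact mem_solSet_of_le (isSolvable_stabilizer h hp) hxp hyS
      · obtain ⟨e, he, hxN⟩ := htype C hC
        exact mem_solSet_of_le (isSolvable_normalizer h he) hxN hyN
  have hpair : Set.PairwiseDisjoint (↑K) nd := by
    intro C hC C' hC' hne
    rw [Function.onFun, Finset.disjoint_left]
    intro y hy hy'
    simp only [nd, Finset.mem_filter, Finset.mem_univ, true_and] at hy hy'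
    obtain ⟨e, he, hxN⟩ := htype C hC
    obtain ⟨e', he', hxN'⟩ := htype C' hC'
    exact hy.2 (inter_fix h he he' hne hx1 h4 hxN hxN' hp hxp hy.1 hy'.1)
  have hnd : ∀ C e, TorType C e → x ∈ Subgroup.normalizer (C : Set (Cfsg.Sz F m)) →
      (nd C).card = e * (Nat.card C - 1) := by
    intro C e hC hxN
    have h1 := card_normalizer_inter_stabilizer h hC hx1 hxN h4 hp hxp
    have e1 : (Finset.univ.filter fun y => y ∈ Subgroup.normalizer (C : Set (Cfsg.Sz F m)) ⊓ S).card = e := by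
      rw [← Fintype.card_subtype, ← Nat.card_eq_fintype_card]; exact h1
    have e2 : (Finset.univ.filter fun y => y ∈ Subgroup.normalizer (C : Set (Cfsg.Sz F m))).card = e * Nat.card C := by
      rw [← Fintype.card_subtype, ← Nat.card_eq_fintype_card]; exact hC.card_normalizer
    have e3 : nd C = (Finset.univ.filter fun y => y ∈ Subgroup.normalizer (C : Set (Cfsg.Sz F m))) \
        (Finset.univ.filter fun y => y ∈ Subgroup.normalizer (C : Set (Cfsg.Sz F m)) ⊓ S) := by
      ext y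
      simp only [nd, Finset.mem_filter, Finset.mem_univ, true_and, Finset.mem_sdiff, Subgroup.mem_inf]
      tauto
    rw [e3, Finset.card_sdiff_of_subset (fun y hy => by
      simp only [Finset.mem_filter, Finset.mem_univ, true_and, Subgroup.mem_inf] at hy ⊢; exact hy.1), e1, e2,
      Nat.mul_sub, mul_one]
  have hfs : ∀ C₀ e, TorType C₀ e → ∑ C ∈ fs C₀, (nd C).card = Nat.card (fibre C₀ x) * (e * (Nat.card C₀ - 1)) := by
    intro C₀ e hC₀
    rw [Finset.sum_congr rfl (g := fun _ => e * (Nat.card C₀ - 1)) (fun C hC => ?_), Finset.sum_const, smul_eq_mul,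
      show Nat.card (fibre C₀ x) = (fs C₀).card by rw [Nat.card_eq_fintype_card, Fintype.card_subtype]]
    simp only [fs, Finset.mem_filter, Finset.mem_univ, true_and] at hC
    obtain ⟨g, rfl, hg⟩ := hC
    rw [hnd _ e (hC₀.conj h g) hg, Subgroup.card_map_of_injective (MulAut.conj g).injective]
  have hcardne : ∀ C₀ C₁ : Subgroup (Cfsg.Sz F m), Nat.card C₀ ≠ Nat.card C₁ → Disjoint (fs C₀) (fs C₁) := by
    intro C₀ C₁ hne
    rw [Finset.disjoint_left]
    intro C hC hC'
    simp only [fs, Finset.mem_filter, Finset.mem_univ, true_and] at hC hC'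
    obtain ⟨g, rfl, -⟩ := hC
    obtain ⟨g', hg', -⟩ := hC'
    apply hne
    rw [← Subgroup.card_map_of_injective (K := C₀) (f := (MulAut.conj g).toMonoidHom) (MulAut.conj g).injective]
    exact (congrArg (fun D : Subgroup (Cfsg.Sz F m) => Nat.card D) hg').trans
      (Subgroup.card_map_of_injective (MulAut.conj g').injective)
  have hq1 : 1 ≤ 2 ^ (2 * m + 1) := Nat.one_le_two_pow
  have hr0 : 0 < 2 ^ (m + 1) := Nat.two_pow_pos _
  have hr2 : 2 ^ (m + 1) < 2 ^ (2 * m + 1) + 1 := by omega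
  have hT := card_torus h
  have hr4 : 4 ≤ 2 ^ (m + 1) := by
    calc (4 : ℕ) = 2 ^ 2 := by norm_num
      _ ≤ _ := Nat.pow_le_pow_right (by norm_num) (by have := h.one_le; omega)
  have hTA : Nat.card (torus h) ≠ Nat.card A := by omega
  have hTB : Nat.card (torus h) ≠ Nat.card B := by omega
  have hAB : Nat.card A ≠ Nat.card B := by omega
  have hmain : Nat.card (solSet x) = (Finset.univ.filter fun y => y ∈ solSet x).card := by
    rw [Nat.card_eq_fintype_card, Fintype.card_subtype]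
  rw [hmain, hsol, Finset.card_union_of_disjoint, Finset.card_biUnion hpair,
    Finset.sum_union (Finset.disjoint_union_right.mpr ⟨hcardne _ _ hTA, hcardne _ _ hTB⟩),
    Finset.sum_union (hcardne _ _ hAB), hfs _ 2 (torType_torus h), hfs _ 4 hA, hfs _ 4 hB]
  · congr 1
    rw [← Fintype.card_subtype, ← Nat.card_eq_fintype_card]
    exact card_stabilizer_point h hp
  · rw [Finset.disjoint_left]
    intro y hy hy'
    simp only [Finset.mem_filter, Finset.mem_univ, true_and, Finset.mem_biUnion, nd] at hy hy'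
    obtain ⟨C, -, -, hyS⟩ := hy'
    exact hyS hy

theorem card_solSet_involution {x : Cfsg.Sz F m} (hx : orderOf x = 2) :
    Nat.card (solSet x) = (2 ^ (2 * m + 1)) ^ 2 * (4 * 2 ^ (2 * m + 1) - 3) := by
  obtain ⟨A, B, hA, hB, hsum, hcard⟩ := card_solSet_two h (x := x)
    (fun e => by rw [e, orderOf_one] at hx; omega)
    (orderOf_dvd_iff_pow_eq_one.mp (hx.dvd.trans (by norm_num)))
  rw [hcard]
  have kT := card_fibre_involution h (torType_torus h) hx
  have kA := card_fibre_involution h hA hx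
  have kB := card_fibre_involution h hB hx
  rw [← mul_assoc, ← mul_assoc, ← mul_assoc, kT, kA, kB, card_torus]
  have := hA.one_lt
  have := hB.one_lt
  set q := 2 ^ (2 * m + 1)
  have h8 : 8 ≤ q := by
    have := h.eight_le_card
    rwa [h.card] at this
  rw [← mul_add, ← mul_add, ← mul_add]
  congr 1
  omega

theorem card_solSet_orderFour {x : Cfsg.Sz F m} (hx : orderOf x = 4) :
    Nat.card (solSet x) = (2 ^ (2 * m + 1)) ^ 2 * (2 ^ (2 * m + 1) + 3) := by
  obtain ⟨A, B, hA, hB, hsum, hcard⟩ := card_solSet_two h (x := x)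
    (fun e => by rw [e, orderOf_one] at hx; omega)
    (orderOf_dvd_iff_pow_eq_one.mp hx.dvd)
  rw [hcard]
  have kT := card_fibre_orderFour h (torType_torus h) hx
  have kA := card_fibre_orderFour h hA hx
  have kB := card_fibre_orderFour h hB hx
  rw [← mul_assoc, ← mul_assoc, ← mul_assoc, kT, kA, kB, card_torus]
  have := hA.one_lt
  have := hB.one_lt
  set q := 2 ^ (2 * m + 1)
  have h8 : 8 ≤ q := by
    have := h.eight_le_card
    rwa [h.card] at this
  rw [Nat.sub_self, zero_mul, zero_mul, zero_add, ← mul_add,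
    show Nat.card A - 1 + (Nat.card B - 1) = 2 * q by omega]
  calc q ^ 2 * (q - 1) + (4 - 2) * q * (2 * q) = q ^ 2 * ((q - 1) + 4) := by ring
    _ = q ^ 2 * (q + 3) := by rw [show q - 1 + 4 = q + 3 by omega]

theorem card_solSet_torus {x : Cfsg.Sz F m} (hx1 : x ≠ 1) (hd : orderOf x ∣ 2 ^ (2 * m + 1) - 1) :
    Nat.card (solSet x) = 2 * (2 ^ (2 * m + 1)) ^ 2 * (2 ^ (2 * m + 1) - 1) := by
  classical
  have hne1 : orderOf x ≠ 1 := fun e => hx1 (orderOf_eq_one_iff.mp e)
  obtain ⟨u, hu⟩ : ∃ u, u * x * u⁻¹ ∈ torus h := by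
    rcases classify h hx1 with ⟨u, hu⟩ | hu | ⟨C, hC, hxC⟩
    · exact absurd (Nat.eq_one_of_dvd_coprimes (coprime_three (m := m)).1
        (orderOf_conj_eq u x ▸ orderOf_dvd_root h hu) hd) hne1
    · exact hu
    · exact absurd (Nat.eq_one_of_dvd_coprimes (coprime_three (m := m)).2.2 hd
        ((member_orderOf_dvd h hC hxC).trans (member_card_dvd h hC))) hne1
  rw [← card_solSet_map (MulAut.conj u) x]
  obtain ⟨k, hk⟩ := (mem_torus h).mp hu
  rw [show MulAut.conj u x = H h k from hk]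
  have hk1 : k ≠ 1 := by
    rintro rfl
    rw [H_one, conj_eq_one_iff] at hk
    exact hx1 hk
  have hH1 : H h k ≠ 1 := fun e => hk1 (H_injective h (e.trans (H_one h).symm))
  set B0 := MulAction.stabilizer (Cfsg.Sz F m) (pt m (0 : F) 0) with hB0
  set B1 := borel F m with hB1
  set N := Subgroup.normalizer (torus h : Set (Cfsg.Sz F m)) with hN
  have hTB1 : torus h ≤ B1 := fun g hg => by
    obtain ⟨l, rfl⟩ := (mem_torus h).mp hg; exact H_mem_borel h l
  have hTB0 : torus h ≤ B0 := fun g hg => by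
    obtain ⟨l, rfl⟩ := (mem_torus h).mp hg; exact H_smul_pt_zero h l
  have hchar : ∀ y, y ∈ solSet (H h k) ↔ y ∈ B1 ∨ y ∈ B0 ∨ y ∈ N := by
    intro y
    have hxM : H h k ∈ Subgroup.closure ({H h k, y} : Set (Cfsg.Sz F m)) := Subgroup.subset_closure (Set.mem_insert _ _)
    have hyM : y ∈ Subgroup.closure ({H h k, y} : Set (Cfsg.Sz F m)) :=
      Subgroup.subset_closure (Set.mem_insert_of_mem _ rfl)
    constructor
    · intro hy
      rcases solvable_le h hy (fun e => hH1 (Subgroup.mem_bot.mp (e ▸ hxM))) with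
        ⟨p, hp, hfix⟩ | ⟨C, e, hC, hty, hle⟩
      · rcases H_fix_eq h hk1 hp (hfix _ hxM) with rfl | rfl
        · exact Or.inl (hfix y hyM)
        · exact Or.inr (Or.inl (hfix y hyM))
      · right; right
        have hxC : H h k ∈ C := by
          by_contra hxC
          have h4 : H h k ^ 2 ^ 2 = 1 := hC.sub_two h (hle hxM) hxC
          exact hH1 ((torType_torus h).not_orderOf_two h ((mem_torus h).mpr ⟨k, rfl⟩) h4)
        have e1 := hC.ti _ hxC hH1
        rw [centralizer_H h hk1] at e1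
        rw [hN, e1]
        exact hle hyM
    · rintro (hy | hy | hy)
      · exact mem_solSet_of_le (isSolvable_stabilizer h pinf_mem) (H_mem_borel h k) hy
      · exact mem_solSet_of_le (isSolvable_stabilizer h (pt_mem _ _)) (H_smul_pt_zero h k) hy
      · exact mem_solSet_of_le (isSolvable_normalizer h (torType_torus h))
          (Subgroup.le_normalizer ((mem_torus h).mpr ⟨k, rfl⟩)) hy
  have hfixB : ∀ y, y ∈ B1 → y ∈ B0 → y ∈ torus h := fun y h1 h0 => (mem_torus h).mpr (fix_two h h1 h0)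
  have hswap : ∀ y ∈ N, y ∉ torus h → y ∉ B1 ∧ y ∉ B0 := by
    intro y hy hyT
    have hWy := (card_normalizer_torus_le h y hy).resolve_left hyT
    obtain ⟨l, hl⟩ := (mem_torus h).mp hWy
    have hy' : y = W h * H h l := by rw [← hl, ← mul_assoc, W_mul_self, one_mul]
    constructor <;> intro e <;> rw [MulAction.mem_stabilizer_iff, hy', mul_smul] at e
    · rw [H_smul_pinf, W_smul_pinf] at e; exact pt_ne_pinf _ _ e
    · rw [H_smul_pt_zero, W_smul_pt_zero] at e; exact pt_ne_pinf _ _ e.symm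
  have : Fintype (Cfsg.Sz F m) := Fintype.ofFinite _
  let fl : Subgroup (Cfsg.Sz F m) → Finset (Cfsg.Sz F m) := fun S => Finset.univ.filter fun y => y ∈ S
  have hfl : ∀ S, (fl S).card = Nat.card S := fun S => by
    rw [Nat.card_eq_fintype_card, Fintype.card_subtype]
  have hset : (Finset.univ.filter fun y => y ∈ solSet (H h k)) = (fl B1 ∪ fl B0) ∪ (fl N \ fl (torus h)) := by
    ext y
    simp only [fl, Finset.mem_filter, Finset.mem_univ, true_and, Finset.mem_union, Finset.mem_sdiff, hchar]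
    constructor
    · rintro (hy | hy | hy)
      · exact Or.inl (Or.inl hy)
      · exact Or.inl (Or.inr hy)
      · by_cases hyT : y ∈ torus h
        · exact Or.inl (Or.inl (hTB1 hyT))
        · exact Or.inr ⟨hy, hyT⟩
    · rintro ((hy | hy) | ⟨hy, -⟩) <;> simp [hy]
  have hdis : Disjoint (fl B1 ∪ fl B0) (fl N \ fl (torus h)) := by
    rw [Finset.disjoint_left]
    intro y hy hy'
    simp only [fl, Finset.mem_filter, Finset.mem_univ, true_and, Finset.mem_union, Finset.mem_sdiff] at hy hy'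
    rcases hy with hy | hy
    · exact (hswap y hy'.1 hy'.2).1 hy
    · exact (hswap y hy'.1 hy'.2).2 hy
  have hint : fl B1 ∩ fl B0 = fl (torus h) := by
    ext y
    simp only [fl, Finset.mem_filter, Finset.mem_univ, true_and, Finset.mem_inter]
    exact ⟨fun hy => hfixB y hy.1 hy.2, fun hy => ⟨hTB1 hy, hTB0 hy⟩⟩
  have hsub : fl (torus h) ⊆ fl N := fun y hy => by
    simp only [fl, Finset.mem_filter, Finset.mem_univ, true_and] at hy ⊢
    exact Subgroup.le_normalizer hy
  have h1 := Finset.card_union_add_card_inter (fl B1) (fl B0)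
  rw [hint, hfl, hfl, hfl, card_stabilizer_point h pinf_mem, card_stabilizer_point h (pt_mem _ _)] at h1
  rw [show Nat.card (solSet (H h k)) = (Finset.univ.filter fun y => y ∈ solSet (H h k)).card by
      rw [Nat.card_eq_fintype_card, Fintype.card_subtype],
    hset, Finset.card_union_of_disjoint hdis, Finset.card_sdiff_of_subset hsub, hfl, hfl, hN,
    card_normalizer_torus h, mul_assoc 2]
  omega

theorem card_solSet_member {x : Cfsg.Sz F m} (hx1 : x ≠ 1) {a : ℕ}
    (ha : a = 2 ^ (2 * m + 1) + 2 ^ (m + 1) + 1 ∨ a = 2 ^ (2 * m + 1) - 2 ^ (m + 1) + 1)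
    (hd : orderOf x ∣ a) : Nat.card (solSet x) = 4 * a := by
  have haK : a ∈ torusOrders m := by
    rcases ha with rfl | rfl
    · exact Or.inr (Or.inl rfl)
    · exact Or.inr (Or.inr rfl)
  have hspec := torusOrders_spec haK
  have hne1 : orderOf x ≠ 1 := fun e => hx1 (orderOf_eq_one_iff.mp e)
  have hneq : 2 ^ (2 * m + 1) - 1 ≠ a := by
    have hr4 : 4 ≤ 2 ^ (m + 1) := by
      calc (4 : ℕ) = 2 ^ 2 := by norm_num
        _ ≤ _ := Nat.pow_le_pow_right (by norm_num) (by have := h.one_le; omega)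
    have hrq : 2 ^ (m + 1) ≤ 2 ^ (2 * m + 1) := Nat.pow_le_pow_right (by norm_num) (by omega)
    omega
  obtain ⟨C, hC, hxC⟩ : ∃ C, IsMember C ∧ x ∈ C := by
    rcases classify h hx1 with ⟨u, hu⟩ | ⟨u, hu⟩ | hC
    · exact absurd (Nat.eq_one_of_dvd_coprimes hspec.1 (orderOf_conj_eq u x ▸ orderOf_dvd_root h hu) hd) hne1
    · exact absurd (Nat.eq_one_of_dvd_coprimes (hspec.2 _ (Or.inl rfl) hneq)
        (orderOf_conj_eq u x ▸ orderOf_dvd_torus h hu) hd) hne1
    · exact hC
  have hCa : Nat.card C = a := by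
    obtain ⟨A, B, -, -, cA, cB, hall⟩ := exists_reps h
    have hmem : Nat.card C ∈ torusOrders m := by
      rcases hall C hC with ⟨g, hg⟩ | ⟨g, hg⟩ <;> subst hg <;>
        rw [Subgroup.card_map_of_injective (MulAut.conj g).injective]
      · exact Or.inr (Or.inl cA)
      · exact Or.inr (Or.inr cB)
    by_contra hne
    exact hne1 (Nat.eq_one_of_dvd_coprimes (hspec.2 _ hmem hne) (member_orderOf_dvd h hC hxC) hd)
  have hCt := torType_member h hC
  have hset : solSet x = (Subgroup.normalizer (C : Set (Cfsg.Sz F m)) : Set (Cfsg.Sz F m)) := by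
    ext y
    refine ⟨fun hy => ?_, fun hy =>
      mem_solSet_of_le (isSolvable_normalizer h hCt) (Subgroup.le_normalizer hxC) hy⟩
    have hxM : x ∈ Subgroup.closure ({x, y} : Set (Cfsg.Sz F m)) := Subgroup.subset_closure (Set.mem_insert _ _)
    have hyM : y ∈ Subgroup.closure ({x, y} : Set (Cfsg.Sz F m)) :=
      Subgroup.subset_closure (Set.mem_insert_of_mem _ rfl)
    rcases solvable_le h hy (fun e => hx1 (Subgroup.mem_bot.mp (e ▸ hxM))) with
      ⟨p, hp, hfix⟩ | ⟨D, e, hD, -, hle⟩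
    · exact absurd (hfix x hxM) (fixFree_of_mem_member h hC hxC hx1 p hp)
    · have hxD : x ∈ D := by
        by_contra hxD
        exact hx1 (hCt.not_orderOf_two h hxC (n := 2) (hD.sub_two h (hle hxM) hxD))
      have e1 := (hD.ti x hxD hx1).symm.trans (hCt.ti x hxC hx1)
      rw [← e1]
      exact hle hyM
  rw [hset, ← hCa, ← hCt.card_normalizer]
  rfl

end Cfsg.Agent.Suzuki
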