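import Cfsg.Agent.Lib.Suzuki.Out
import Mathlib.FieldTheory.Isaacs
import Mathlib.Algebra.Ring.GeomSum

/-! Suzuki groups over subfields, and the conjugacy of their copies. -/

namespace Cfsg.Agent.Suzuki

open scoped Pointwise
open Polynomial

variable {F : Type*} [Field F] [Fintype F] {m : ℕ} {K : Type*} [Field K] [Fintype K] {k : ℕ}

/-- A field of order `2^(2k+1)` embeds into one of order `2^(2m+1)` when the exponent divides. -/
theorem exists_ringHom (h : SzField F m) (hK : SzField K k) (hd : 2 * k + 1 ∣ 2 * m + 1) :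
    Nonempty (K →+* F) := by
  have := h.charP
  have := hK.charP
  have : Fact (Nat.Prime 2) := ⟨Nat.prime_two⟩
  let : Algebra (ZMod 2) K := ZMod.algebra K 2
  let : Algebra (ZMod 2) F := ZMod.algebra F 2
  have : Algebra.IsAlgebraic (ZMod 2) K := Algebra.IsAlgebraic.of_finite _ _
  suffices hroot : ∀ x : K, ∃ y : F, aeval y (minpoly (ZMod 2) x) = 0 by
    obtain ⟨f⟩ := Field.nonempty_algHom_of_exists_root (F := ZMod 2) (E := K) (K := F) hroot
    exact ⟨f.toRingHom⟩
  intro x
  set a := Fintype.card K - 1 with ha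
  set b := Fintype.card F - 1 with hb
  have hK2 : 2 ≤ Fintype.card K := Fintype.one_lt_card
  have hF2 : 2 ≤ Fintype.card F := Fintype.one_lt_card
  have hab : a ∣ b := by
    rw [ha, hb, h.card, hK.card]; exact Nat.pow_sub_one_dvd_pow_sub_one 2 hd
  have hdvd : (X ^ Fintype.card K - X : (ZMod 2)[X]) ∣ X ^ Fintype.card F - X := by
    rw [show Fintype.card K = a + 1 by omega, show Fintype.card F = b + 1 by omega, pow_succ', pow_succ',
      ← mul_sub_one, ← mul_sub_one]
    obtain ⟨d, hd'⟩ := hab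
    rw [hd', pow_mul]
    refine mul_dvd_mul_left _ ?_
    simpa using sub_dvd_pow_sub_pow (X ^ a : (ZMod 2)[X]) 1 d
  have hmin : minpoly (ZMod 2) x ∣ X ^ Fintype.card F - X :=
    (minpoly.dvd _ _ (by simp [FiniteField.pow_card])).trans hdvd
  obtain ⟨c, hc⟩ := hmin
  by_contra hno
  push Not at hno
  set P := (minpoly (ZMod 2) x).map (algebraMap (ZMod 2) F)
  set C' := c.map (algebraMap (ZMod 2) F)
  have hPC : (X ^ Fintype.card F - X : F[X]) = P * C' := by
    rw [← Polynomial.map_mul, ← hc]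
    simp
  have hne : (X ^ Fintype.card F - X : F[X]) ≠ 0 := FiniteField.X_pow_card_sub_X_ne_zero F (by omega)
  have hC0 : C' ≠ 0 := fun e => hne (by rw [hPC, e, mul_zero])
  have hP0 : P ≠ 0 := fun e => hne (by rw [hPC, e, zero_mul])
  have hdeg : C'.natDegree < Fintype.card F := by
    have h1 := congrArg Polynomial.natDegree hPC
    rw [Polynomial.natDegree_mul hP0 hC0, FiniteField.X_pow_card_sub_X_natDegree_eq F (by omega)] at h1
    have : 0 < P.natDegree := by
      rw [show P.natDegree = (minpoly (ZMod 2) x).natDegree from Polynomial.natDegree_map _]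
      exact minpoly.natDegree_pos (IsIntegral.of_finite _ x)
    omega
  apply hC0
  refine Polynomial.eq_zero_of_natDegree_lt_card_of_eval_eq_zero' C' Finset.univ (fun y _ => ?_)
    (by rwa [Finset.card_univ])
  have h2 := congrArg (Polynomial.eval y) hPC
  simp only [Polynomial.eval_sub, Polynomial.eval_pow, Polynomial.eval_X, FiniteField.pow_card, sub_self,
    Polynomial.eval_mul] at h2
  refine (mul_eq_zero.mp h2.symm).resolve_left fun e => hno y ?_
  rwa [Polynomial.eval_map, ← Polynomial.aeval_def] at e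

variable (h : SzField F m) (hK : SzField K k) (hd : 2 * k + 1 ∣ 2 * m + 1) (f : K →+* F)

include hK hd

theorem exists_shift : ∃ j, m = k + j * (2 * k + 1) := by
  obtain ⟨d, hd'⟩ := hd
  obtain ⟨j, rfl⟩ : ∃ j, d = 2 * j + 1 := by
    rcases Nat.even_or_odd' d with ⟨j, rfl | rfl⟩
    · exfalso
      have : 2 * m + 1 = 2 * ((2 * k + 1) * j) := by rw [hd']; ring
      omega
    · exact ⟨j, rfl⟩
  refine ⟨j, ?_⟩
  rw [show (2 * k + 1) * (2 * j + 1) = 2 * (j * (2 * k + 1)) + (2 * k + 1) by ring] at hd'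
  omega

theorem map_θ (x : K) : θ m (f x) = f (θ k x) := by
  obtain ⟨j, rfl⟩ := exists_shift hK hd
  rw [θ, θ, ← map_pow]
  congr 1
  rw [show k + j * (2 * k + 1) + 1 = (k + 1) + (2 * k + 1) * j by ring, pow_add, pow_mul, pow_mul,
    ← hK.card, FiniteField.pow_card_pow]

theorem map_hθ (x : K) : hθ m (f x) = f (hθ k x) := by
  obtain ⟨j, rfl⟩ := exists_shift hK hd
  rw [hθ, hθ, ← map_pow]
  congr 1
  rw [show k + j * (2 * k + 1) = k + (2 * k + 1) * j by ring, pow_add, pow_mul, pow_mul,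
    ← hK.card, FiniteField.pow_card_pow]

theorem map_fz (x y : K) : fz m (f x) (f y) = f (fz k x y) := by
  simp only [fz_eq, map_add, map_mul, map_pow, map_θ hK hd]

theorem map_tEl (a b : K) :
    Matrix.SpecialLinearGroup.map f (tEl k a b) = tEl m (f a) (f b) := by
  apply Subtype.ext
  ext r s
  rw [tEl_coe]
  show f ((tEl k a b).1 r s) = _
  rw [tEl_coe]
  fin_cases r <;> fin_cases s <;> simp [map_θ hK hd, map_fz hK hd]

theorem map_hEl (l : Kˣ) :
    Matrix.SpecialLinearGroup.map f (hEl k l) = hEl m (Units.map f.toMonoidHom l) := by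
  apply Subtype.ext
  ext r s
  rw [hEl_coe]
  show f ((hEl k l).1 r s) = _
  rw [hEl_coe]
  fin_cases r <;> fin_cases s <;> simp [map_hθ hK hd]

omit hd in
theorem map_wEl : Matrix.SpecialLinearGroup.map f (wEl : Matrix.SpecialLinearGroup (Fin 4) K) = wEl := by
  apply Subtype.ext
  ext r s
  rw [wEl_coe]
  show f ((wEl : Matrix.SpecialLinearGroup (Fin 4) K).1 r s) = _
  rw [wEl_coe]
  fin_cases r <;> fin_cases s <;> simp

include h

theorem map_mem (g : Cfsg.Sz K k) : Matrix.SpecialLinearGroup.map f g.1 ∈ Cfsg.Sz F m := by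
  have hT : ∀ a b, Matrix.SpecialLinearGroup.map f (T hK a b).1 ∈ Cfsg.Sz F m := fun a b => by
    rw [show (T hK a b).1 = tEl k a b from rfl, map_tEl hK hd]; exact tEl_mem h _ _
  have hH : ∀ l, Matrix.SpecialLinearGroup.map f (H hK l).1 ∈ Cfsg.Sz F m := fun l => by
    rw [show (H hK l).1 = hEl k l from rfl, map_hEl hK hd]; exact hEl_mem h _
  by_cases hg : g ∈ borel K k
  · obtain ⟨a, b, l, rfl⟩ := borel_form hK hg
    rw [Subgroup.coe_mul, map_mul]
    exact (Cfsg.Sz F m).mul_mem (hT a b) (hH l)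
  · obtain ⟨x, y, a, b, l, rfl⟩ := bruhat hK hg
    simp only [Subgroup.coe_mul, map_mul]
    refine (Cfsg.Sz F m).mul_mem ((Cfsg.Sz F m).mul_mem (hT x y) ?_) ((Cfsg.Sz F m).mul_mem (hT a b) (hH l))
    rw [show (W hK).1 = (wEl : Matrix.SpecialLinearGroup (Fin 4) K) from rfl, map_wEl hK]
    exact wEl_mem h

/-- The embedding induced by a field embedding. -/
def emb : Cfsg.Sz K k →* Cfsg.Sz F m :=
  ((Matrix.SpecialLinearGroup.map f).comp (Cfsg.Sz K k).subtype).codRestrict _ (map_mem h hK hd f)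

theorem emb_coe (g : Cfsg.Sz K k) : (emb h hK hd f g).1 = Matrix.SpecialLinearGroup.map f g.1 := rfl

theorem emb_injective : Function.Injective (emb h hK hd f) := by
  intro x y e
  have e' : ∀ r s, f (x.1.1 r s) = f (y.1.1 r s) := fun r s =>
    congrArg (fun z : Cfsg.Sz F m => z.1.1 r s) e
  exact Subtype.ext (Subtype.ext (Matrix.ext fun r s => f.injective (e' r s)))

theorem emb_T (a b : K) : emb h hK hd f (T hK a b) = T h (f a) (f b) := Subtype.ext (map_tEl hK hd f a b)

theorem emb_H (l : Kˣ) : emb h hK hd f (H hK l) = H h (Units.map f.toMonoidHom l) := Subtype.ext (map_hEl hK hd f l)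

theorem emb_W : emb h hK hd f (W hK) = W h := Subtype.ext (map_wEl hK f)

theorem hom_borel {φ : Cfsg.Sz K k →* Cfsg.Sz F m} (hφ : Function.Injective φ)
    (hR : ∀ x ∈ rootGroup hK, φ x ∈ rootGroup h) : ∀ x ∈ borel K k, φ x ∈ borel F m := by
  intro x hx
  rw [← normalizer_rootGroup hK] at hx
  refine fix_pinf_of_conj_mem h (hR _ (⟨0, 1, rfl⟩ : T hK 0 1 ∈ rootGroup hK)) (fun e => ?_) ?_
  · rw [← map_one φ] at e
    exact one_ne_zero ((eq_one_iff_T hK).mp (hφ e)).2
  · rw [← map_inv, ← map_mul, ← map_mul]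
    exact hR _ ((Subgroup.mem_normalizer_iff.mp hx _).mp ⟨0, 1, rfl⟩)

theorem exists_normalised_hom {φ : Cfsg.Sz K k →* Cfsg.Sz F m} (hφ : Function.Injective φ) :
    ∃ u, (∀ x ∈ rootGroup hK, u * φ x * u⁻¹ ∈ rootGroup h) ∧ ∀ x ∈ torus hK, u * φ x * u⁻¹ ∈ torus h := by
  have : Fact (Nat.Prime 2) := ⟨Nat.prime_two⟩
  obtain ⟨g, hg⟩ := exists_conj_isPGroup_le h ((isPGroup_rootGroup hK).map φ)
  have hR : ∀ x ∈ rootGroup hK, g * φ x * g⁻¹ ∈ rootGroup h := fun x hx => hg _ ⟨x, hx, rfl⟩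
  let β : Cfsg.Sz K k →* Cfsg.Sz F m := (MulAut.conj g).toMonoidHom.comp φ
  have hβ : ∀ x, β x = g * φ x * g⁻¹ := fun x => rfl
  have hβi : Function.Injective β := (MulAut.conj g).injective.comp hφ
  obtain ⟨a, ha, ha1, hord⟩ := exists_gen hK
  set x := β (H hK a) with hx
  have hxb : x ∈ borel F m := hom_borel h hK hd hβi (fun y hy => hR y hy) _ (H_mem_borel hK a)
  have hxo : orderOf x = 2 ^ (2 * k + 1) - 1 := by
    rw [hx, orderOf_injective β hβi, show H hK a = HHom hK a from rfl, orderOf_injective _ (H_injective hK), hord]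
  have hx1 : x ≠ 1 := by
    rw [hx, ← map_one β, Ne, hβi.eq_iff, ← H_one hK]
    exact fun e => ha1 (H_injective hK e)
  obtain ⟨v, hv⟩ : ∃ v, v * x * v⁻¹ ∈ torus h := by
    rcases classify h hx1 with ⟨v, hv⟩ | hv | ⟨C, hC, hxC⟩
    · exfalso
      obtain ⟨r, -, hr⟩ := (Nat.dvd_prime_pow Nat.prime_two).mp
        (show orderOf x ∣ 2 ^ ((2 * m + 1) * 2) by
          rw [pow_mul, ← orderOf_conj_eq v x]; exact orderOf_dvd_root h hv)
      rw [hxo] at hr
      have h8 := hK.eight_le_card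
      rw [hK.card] at h8
      rcases r with _ | r
      · rw [pow_zero] at hr; omega
      · have h2 : 2 ∣ 2 ^ (2 * k + 1) := q_even
        have h3 : 2 ∣ 2 ^ (2 * k + 1) - 1 := hr ▸ dvd_pow_self 2 r.succ_ne_zero
        omega
    · exact hv
    · exact absurd hxb (fun e => fixFree_of_mem_member h hC hxC hx1 _ pinf_mem e)
  obtain ⟨l, hl⟩ := (mem_torus h).mp hv
  obtain ⟨p, hp, hpne, hxp⟩ : ∃ p ∈ Cfsg.suzukiOvoid F m, p ≠ Cfsg.suzukiPointInfinity F ∧ x • p = p := by
    have hfix : ∀ p : Projectivization F (Fin 4 → F), H h l • p = p → x • v⁻¹ • p = v⁻¹ • p := fun p e => by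
      rw [← hl, mul_smul, mul_smul] at e
      rw [eq_inv_smul_iff]; exact e
    by_cases e : v⁻¹ • Cfsg.suzukiPointInfinity F = Cfsg.suzukiPointInfinity F
    · refine ⟨v⁻¹ • pt m (0 : F) 0, smul_mem_ovoid _ (pt_mem _ _), fun e' => ?_, hfix _ (H_smul_pt_zero h l)⟩
      exact pt_ne_pinf (m := m) (0 : F) 0 (smul_left_cancel v⁻¹ (e'.trans e.symm))
    · exact ⟨_, smul_mem_ovoid _ pinf_mem, e, hfix _ (H_smul_pinf h l)⟩
  obtain ⟨c, d, rfl⟩ := (mem_ovoid.mp hp).resolve_left hpne
  refine ⟨(T h c d)⁻¹ * g, fun y hy => ?_, fun y hy => ?_⟩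
  · have h1 := (rootGroup h).mul_mem ((rootGroup h).mul_mem ((rootGroup h).inv_mem ⟨c, d, rfl⟩) (hR y hy))
      (⟨c, d, rfl⟩ : T h c d ∈ rootGroup h)
    convert! h1 using 1
    group
  · obtain ⟨w, rfl⟩ := (mem_torus hK).mp hy
    obtain ⟨i, rfl⟩ := ha w
    obtain ⟨l', hl'⟩ := fix_two h (g := (T h c d)⁻¹ * x * T h c d)
      (by rw [mul_smul, mul_smul, T_smul_pinf, show x • Cfsg.suzukiPointInfinity F = Cfsg.suzukiPointInfinity F from hxb,
        inv_smul_eq_iff, T_smul_pinf])
      (by rw [mul_smul, mul_smul, T_smul_pt_zero, hxp, inv_smul_eq_iff, T_smul_pt_zero])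
    have hbi : β (H hK (a ^ i)) = x ^ i := by
      rw [hx, ← map_pow, ← show H hK (a ^ i) = H hK a ^ i from (HHom hK).map_pow a i]
    rw [show (T h c d)⁻¹ * g * φ (H hK (a ^ i)) * ((T h c d)⁻¹ * g)⁻¹
        = (T h c d)⁻¹ * (g * φ (H hK (a ^ i)) * g⁻¹) * T h c d by group, ← hβ, hbi,
      show (T h c d)⁻¹ * x ^ i * T h c d = ((T h c d)⁻¹ * x * T h c d) ^ i by
        simpa using (conj_pow (a := (T h c d)⁻¹) (b := x) (i := i)).symm, hl']
    exact (torus h).pow_mem ((mem_torus h).mpr ⟨l', rfl⟩) i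

/-- Every injective homomorphism is conjugate to one induced by a field embedding. -/
theorem exists_conj_emb {φ : Cfsg.Sz K k →* Cfsg.Sz F m} (hφ : Function.Injective φ) :
    ∃ (u : Cfsg.Sz F m) (σ : K →+* F), ∀ g, φ g = u * emb h hK hd σ g * u⁻¹ := by
  obtain ⟨u, hR, hTo⟩ := exists_normalised_hom h hK hd hφ
  have hA : ∀ a b, ∃ c d, u * φ (T hK a b) * u⁻¹ = T h c d := fun a b => hR _ ⟨a, b, rfl⟩
  choose A B hAB using hA
  have hE : ∀ l, ∃ l', u * φ (H hK l) * u⁻¹ = H h l' := fun l => (mem_torus h).mp (hTo _ ((mem_torus hK).mpr ⟨l, rfl⟩))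
  choose E hEk using hE
  let β : Cfsg.Sz K k →* Cfsg.Sz F m := (MulAut.conj u).toMonoidHom.comp φ
  have hβi : Function.Injective β := (MulAut.conj u).injective.comp hφ
  have hβT : ∀ a b, β (T hK a b) = T h (A a b) (B a b) := hAB
  have hβH : ∀ l, β (H hK l) = H h (E l) := hEk
  have hA0 : ∀ b, A 0 b = 0 := fun b => by
    have h1 : β (T hK 0 b) * β (T hK 0 b) = 1 := by rw [← map_mul, T_sq, θ_zero, zero_mul, T_zero, map_one]
    rw [hβT, T_sq] at h1
    rcases mul_eq_zero.mp ((eq_one_iff_T h).mp h1).2 with e | e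
    · exact h.θ_eq_zero.mp e
    · exact e
  have hAind : ∀ a b, A a b = A a 0 := fun a b => by
    have h1 : β (T hK a b) = β (T hK 0 b) * β (T hK a 0) := by rw [← map_mul, T_zero_mul, add_zero]
    rw [hβT, hβT, hβT, hA0, T_zero_mul] at h1
    exact (T_injective h h1).1
  have hAadd : ∀ a a', A (a + a') 0 = A a 0 + A a' 0 := fun a a' => by
    have h1 : β (T hK a 0) * β (T hK a' 0) = β (T hK (a + a') (0 + 0 + θ k a * a')) := by rw [← map_mul, T_mul]
    rw [hβT, hβT, hβT, T_mul] at h1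
    exact ((T_injective h h1).1.trans (hAind _ _)).symm
  have hAmul : ∀ (l : Kˣ) a, A ((l : K) * a) 0 = (E l : F) * A a 0 := fun l a => by
    have h1 : β (H hK l * T hK a 0 * (H hK l)⁻¹) = H h (E l) * T h (A a 0) (B a 0) * (H h (E l))⁻¹ := by
      rw [map_mul, map_mul, map_inv, hβT, hβH]
    rw [H_conj_T, H_conj_T, hβT, mul_zero] at h1
    exact (T_injective h h1).1
  have hc : A 1 0 ≠ 0 := fun e => by
    have h1 : β (T hK 1 0) * β (T hK 1 0) = 1 := by rw [hβT, T_sq, e, θ_zero, zero_mul, T_zero]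
    rw [← map_mul, ← map_one β, hβi.eq_iff] at h1
    exact T_one_zero_sq_ne hK h1
  set c := A 1 0 with hcdef
  let σ : K →+* F :=
    { toFun := fun a => A a 0 / c
      map_one' := div_self hc
      map_zero' := by show A 0 0 / c = 0; rw [hA0, zero_div]
      map_add' := fun a a' => by show A (a + a') 0 / c = _; rw [hAadd, add_div]
      map_mul' := fun a a' => by
        show A (a * a') 0 / c = A a 0 / c * (A a' 0 / c)
        by_cases ha : a = 0
        · simp [ha, hA0]
        have e1 := hAmul (Units.mk0 a ha) a'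
        have e2 := hAmul (Units.mk0 a ha) 1
        rw [Units.val_mk0] at e1 e2
        rw [mul_one, ← hcdef] at e2
        rw [e1, e2]
        field_simp }
  have hAσ : ∀ a, A a 0 = c * σ a := fun a => by show A a 0 = c * (A a 0 / c); field_simp
  have hEσ : ∀ l, E l = Units.map σ.toMonoidHom l := fun l => by
    apply Units.ext
    have h1 := hAmul l 1
    rw [mul_one, hAσ, ← hcdef] at h1
    exact (mul_right_cancel₀ hc (h1.symm.trans (mul_comm _ _)))
  set hc' := H h (Units.mk0 c hc) with hhc'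
  let γ : Cfsg.Sz K k →* Cfsg.Sz F m := (MulAut.conj hc'⁻¹).toMonoidHom.comp β
  have hγ : ∀ x, γ x = hc'⁻¹ * β x * hc' := fun x => by
    show hc'⁻¹ * β x * hc'⁻¹⁻¹ = _
    rw [inv_inv]
  have hγi : Function.Injective γ := (MulAut.conj hc'⁻¹).injective.comp hβi
  have hγH : ∀ l, γ (H hK l) = H h (Units.map σ.toMonoidHom l) := fun l => by
    rw [hγ, hβH, hEσ, hhc', H_inv, ← H_mul, ← H_mul, mul_comm, mul_inv_cancel_left]
  have hex : ∀ a b, ∃ d, γ (T hK a b) = T h (σ a) d := by
    intro a b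
    refine ⟨θ m (c⁻¹) * c⁻¹ * B a b, ?_⟩
    rw [show γ (T hK a b) = H h (Units.mk0 c hc)⁻¹ * β (T hK a b) * (H h (Units.mk0 c hc)⁻¹)⁻¹ by
      rw [hγ, ← H_inv, inv_inv], hβT, H_conj_T, hAind, hAσ]
    simp [hc]
  choose D hD using hex
  have hD0 : ∀ b, D 0 b = σ b := by
    have hone : D 0 1 = 1 := by
      have h1 : γ (T hK 1 0) * γ (T hK 1 0) = γ (T hK 0 1) := by rw [← map_mul, T_sq, θ_one, one_mul]
      rw [hD, hD, T_sq, map_one, θ_one, one_mul] at h1
      exact (T_injective h h1).2.symm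
    intro b
    by_cases hb : b = 0
    · have h1 : γ (T hK 0 0) = 1 := by rw [T_zero, map_one]
      rw [hD, eq_one_iff_T] at h1
      subst hb; rw [map_zero]; exact h1.2
    obtain ⟨l, hl0, hl⟩ := hK.θ_mul_self_surjective b hb
    have e1 : H hK (Units.mk0 l hl0) * T hK 0 1 * (H hK (Units.mk0 l hl0))⁻¹ = T hK 0 b := by
      rw [H_conj_zero, Units.val_mk0, hl, mul_one]
    have h1 := congrArg γ e1
    rw [map_mul, map_mul, map_inv, hγH, hD, hD, hone, map_zero, H_conj_zero, mul_one] at h1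
    rw [← (T_injective h h1).2, ← hl, map_mul, ← map_θ hK hd σ]
    rfl
  have hsplit : ∀ a b, D a b = σ b + D a 0 := fun a b => by
    have h1 : γ (T hK a b) = γ (T hK 0 b) * γ (T hK a 0) := by rw [← map_mul, T_zero_mul, add_zero]
    rw [hD, hD, hD, hD0, map_zero, T_zero_mul] at h1
    exact (T_injective h h1).2
  have hDz : ∀ a, D a 0 = 0 := by
    have hscale : ∀ (l : Kˣ) a, D ((l : K) * a) 0 = θ m (σ l) * σ l * D a 0 := fun l a => by
      have h1 : γ (H hK l * T hK a 0 * (H hK l)⁻¹) =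
          H h (Units.map σ.toMonoidHom l) * T h (σ a) (D a 0) * (H h (Units.map σ.toMonoidHom l))⁻¹ := by
        rw [map_mul, map_mul, map_inv, hγH, hD]
      rw [H_conj_T, H_conj_T, hD, mul_zero] at h1
      exact (T_injective h h1).2
    have hadd : ∀ a a', D (a + a') 0 = D a 0 + D a' 0 := fun a a' => by
      have h1 : γ (T hK a 0) * γ (T hK a' 0) = γ (T hK (a + a') (0 + 0 + θ k a * a')) := by rw [← map_mul, T_mul]
      rw [hD, hD, hD, T_mul] at h1
      have h2 := (T_injective h h1).2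
      rw [hsplit (a + a'), map_add, map_add, map_mul, map_zero, ← map_θ hK hd σ] at h2
      linear_combination -h2
    have h1 : D 1 0 = 0 := by
      obtain ⟨c', hc'⟩ := hK.exists_θ_ne
      have hc0 : c' ≠ 0 := fun e => hc' (by rw [e, θ_zero])
      have hc1 : c' + 1 ≠ 0 := fun e => hc' (by rw [(hK.eq_iff_add_eq_zero _ _).mpr e, θ_one])
      have e1 := hscale (Units.mk0 _ hc1) 1
      have e2 := hscale (Units.mk0 _ hc0) 1
      rw [Units.val_mk0, mul_one] at e1 e2
      rw [hadd, e2, map_add, map_one, h.θ_add, θ_one] at e1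
      have e3 : (θ m (σ c') + σ c') * D 1 0 = 0 := by linear_combination -e1
      refine (mul_eq_zero.mp e3).resolve_left fun e => hc' ?_
      rw [← h.eq_iff_add_eq_zero, map_θ hK hd σ] at e
      exact σ.injective e
    intro a
    by_cases ha : a = 0
    · subst ha; rw [hD0, map_zero]
    · have := hscale (Units.mk0 a ha) 1
      rwa [Units.val_mk0, mul_one, h1, mul_zero] at this
  have hγT : ∀ a b, γ (T hK a b) = T h (σ a) (σ b) := fun a b => by rw [hD, hsplit, hDz, add_zero]
  -- the inversion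
  obtain ⟨a0, -, ha1, -⟩ := exists_gen hK
  set l0 := Units.map σ.toMonoidHom a0 with hl0
  have hl1 : l0 ≠ 1 := fun e => ha1 (Units.ext (σ.injective (by rw [Units.val_one, map_one]; exact congrArg Units.val e)))
  have hnorm : γ (W hK) ∈ Subgroup.normalizer (torus h : Set (Cfsg.Sz F m)) := by
    have hinv : γ (W hK) * H h l0 * (γ (W hK))⁻¹ = H h l0⁻¹ := by
      rw [hl0, ← map_inv (Units.map σ.toMonoidHom), ← hγH, ← hγH, ← map_inv γ, ← map_mul, ← map_mul, W_inv, W_conj_H]
    rw [Subgroup.mem_normalizer_iff]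
    intro y
    nth_rw 1 [← centralizer_H h hl1]
    rw [← centralizer_H h (show l0⁻¹ ≠ 1 by rwa [inv_ne_one]), ← hinv, centralizer_conj_mem h]
    rw [show (γ (W hK))⁻¹ * (γ (W hK) * y * (γ (W hK))⁻¹) * γ (W hK) = y by group]
  have hW : γ (W hK) = W h := by
    rcases card_normalizer_torus_le h _ hnorm with e | e
    · exfalso
      obtain ⟨l, hl⟩ := (mem_torus h).mp e
      have h1 : γ (W hK * H hK a0 * W hK) = γ (H hK a0) := by
        rw [map_mul, map_mul]
        nth_rw 2 [← W_inv hK]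
        rw [map_inv, hl, hγH, ← H_mul, H_inv, ← H_mul, mul_comm l, mul_inv_cancel_right]
      rw [W_conj_H] at h1
      have h2 := H_injective hK (hγi h1)
      exact ha1 (units_sq_eq_one hK (by nth_rw 1 [← h2]; exact inv_mul_cancel a0))
    · obtain ⟨l, hl⟩ := (mem_torus h).mp e
      have hWl : γ (W hK) = W h * H h l := by rw [← hl, ← mul_assoc, W_mul_self, one_mul]
      have hz : fz k (0 : K) 1 ≠ 0 := by rw [fz_eq]; simp
      have hbK : W hK * (T hK 1 0)⁻¹ * W hK * T hK 0 1 * W hK ∈ borel K k := by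
        rw [MulAction.mem_stabilizer_iff, mul_smul, mul_smul, mul_smul, mul_smul, W_smul_pinf, T_smul_pt_zero,
          show W hK • pt k (0 : K) 1 = pt k 1 0 by
            show (wEl : Matrix.SpecialLinearGroup (Fin 4) K) • pt k (0 : K) 1 = _
            rw [wEl_smul_pt hK hz]; congr 1 <;> simp [fz_eq],
          show (T hK 1 0)⁻¹ • pt k (1 : K) 0 = pt k 0 0 by rw [inv_smul_eq_iff, T_smul_pt_zero],
          W_smul_pt_zero]
      have hbF : γ (W hK * (T hK 1 0)⁻¹ * W hK * T hK 0 1 * W hK) ∈ borel F m := by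
        obtain ⟨a, b, l', e⟩ := borel_form hK hbK
        rw [e, map_mul, hγT, hγH]
        exact (borel F m).mul_mem (T_mem_borel h _ _) (H_mem_borel h _)
      set s := θ m (l : F) * l with hs
      have hs0 : s ≠ 0 := mul_ne_zero (θ_ne_zero m l.ne_zero) l.ne_zero
      have hzF : fz m (0 : F) s ≠ 0 := by rw [fz_eq]; simp [h.θ_eq_zero, hs0]
      simp only [map_mul, map_inv, hWl, hγT, map_one, map_zero, MulAction.mem_stabilizer_iff, mul_smul,
        H_smul_pinf, W_smul_pinf, T_smul_pt_zero] at hbF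
      rw [H_smul_pt, mul_zero, mul_one, ← hs,
        show W h • pt m (0 : F) s = pt m (s / θ m s) 0 by
          show (wEl : Matrix.SpecialLinearGroup (Fin 4) F) • pt m (0 : F) s = _
          rw [wEl_smul_pt h hzF]; congr 1 <;> simp [fz_eq],
        ← W_smul_pt_zero h (F := F) (m := m)] at hbF
      have h3 := smul_left_cancel _ hbF
      rw [← eq_inv_smul_iff, H_inv, H_smul_pt_zero, inv_smul_eq_iff, T_smul_pt_zero] at h3
      have h4 := (pt_inj h3).1
      rw [div_eq_one_iff_eq (θ_ne_zero m hs0)] at h4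
      have hs1 : s = 1 := (h.θ_eq_self h4.symm).resolve_left hs0
      have hl1' : l = 1 := Units.ext (h.θ_mul_self_injective l.ne_zero one_ne_zero
        (by rw [Units.val_one, θ_one, one_mul, ← hs, hs1]))
      rw [hWl, hl1', H_one, mul_one]
  refine ⟨u⁻¹ * hc', σ, fun g => ?_⟩
  have hall : γ g = emb h hK hd σ g := by
    by_cases hg : g ∈ borel K k
    · obtain ⟨a, b, l, rfl⟩ := borel_form hK hg
      rw [map_mul, map_mul, hγT, hγH, emb_T, emb_H]
    · obtain ⟨x, y, a, b, l, rfl⟩ := bruhat hK hg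
      simp only [map_mul, hγT, hγH, hW, emb_T, emb_H, emb_W]
  rw [← hall, hγ, show β g = u * φ g * u⁻¹ from rfl]
  group

/-- The image does not depend on the field embedding. -/
theorem range_emb_eq (σ : K →+* F) : (emb h hK hd σ).range = (emb h hK hd f).range := by
  classical
  have hroots : ∀ τ : K →+* F, Finset.univ.image τ ⊆ (X ^ Fintype.card K - X : F[X]).roots.toFinset := by
    intro τ y hy
    obtain ⟨x, -, rfl⟩ := Finset.mem_image.mp hy
    rw [Multiset.mem_toFinset, Polynomial.mem_roots (FiniteField.X_pow_card_sub_X_ne_zero F Fintype.one_lt_card)]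
    simp [← map_pow, FiniteField.pow_card]
  have himg : ∀ τ : K →+* F, Finset.univ.image τ = (X ^ Fintype.card K - X : F[X]).roots.toFinset := fun τ => by
    refine Finset.eq_of_subset_of_card_le (hroots τ) ?_
    rw [Finset.card_image_of_injective _ τ.injective, Finset.card_univ]
    refine (Multiset.toFinset_card_le _).trans ((Polynomial.card_roots' _).trans ?_)
    rw [FiniteField.X_pow_card_sub_X_natDegree_eq F Fintype.one_lt_card]
  have hex : ∀ a, ∃ b, f b = σ a := fun a => by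
    have : σ a ∈ Finset.univ.image f := by
      rw [himg f, ← himg σ]; exact Finset.mem_image_of_mem _ (Finset.mem_univ a)
    obtain ⟨b, -, hb⟩ := Finset.mem_image.mp this
    exact ⟨b, hb⟩
  choose ρ hρ using hex
  let ρ' : K →+* K :=
    { toFun := ρ
      map_one' := f.injective (by rw [hρ, map_one, map_one])
      map_zero' := f.injective (by rw [hρ, map_zero, map_zero])
      map_add' := fun a b => f.injective (by rw [hρ, map_add, map_add, hρ, hρ])
      map_mul' := fun a b => f.injective (by rw [hρ, map_mul, map_mul, hρ, hρ]) }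
  have hsurj : Function.Surjective (emb hK hK dvd_rfl ρ') :=
    Finite.surjective_of_injective (emb_injective hK hK dvd_rfl ρ')
  have hcomp : ∀ g, emb h hK hd σ g = emb h hK hd f (emb hK hK dvd_rfl ρ' g) := fun g => by
    apply Subtype.ext
    apply Subtype.ext
    ext r s
    exact (hρ (g.1.1 r s)).symm
  ext y
  constructor
  · rintro ⟨g, rfl⟩; exact ⟨_, (hcomp g).symm⟩
  · rintro ⟨g, rfl⟩
    obtain ⟨g', rfl⟩ := hsurj g
    exact ⟨g', hcomp g'⟩

end Cfsg.Agent.Suzuki
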