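import Mathlib.Tactic
import Mathlib.Algebra.BigOperators.Fin
import Mathlib.RingTheory.Coprime.Basic
import Mathlib.Data.Nat.Prime.Int

/-! Arithmetic consequences of the class equation of a subgroup of a Suzuki group. -/

set_option autoImplicit false

namespace Cfsg.Agent.Suzuki.Arith

open Finset

variable {n : ℕ} {g N t : ℕ} {a w s : Fin n → ℕ}

theorem sum_ge_pair (f : Fin n → ℕ) {i j : Fin n} (hij : i ≠ j) : f i + f j ≤ ∑ x, f x := by
  calc f i + f j = ∑ x ∈ ({i, j} : Finset (Fin n)), f x := (Finset.sum_pair hij).symm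
    _ ≤ _ := Finset.sum_le_sum_of_subset (Finset.subset_univ _)

/-- No non-solvable subgroup has odd order. -/
theorem odd_case (hg : 1 < g) (hsum : ∑ i, s i + 1 = g) (hw : ∀ i, w i = 1)
    (hs : ∀ i, s i * (w i * a i) = g * (a i - 1)) (ha : ∀ i, 5 ≤ a i) (hne : ∀ i, w i * a i ≠ g) : False := by
  have h45 : ∀ i, 4 * g ≤ 5 * s i := fun i => by
    have h1 := hs i
    rw [hw i, one_mul] at h1
    obtain ⟨b, hb⟩ : ∃ b, a i = b + 5 := ⟨a i - 5, by have := ha i; omega⟩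
    rw [hb, show b + 5 - 1 = b + 4 from rfl] at h1
    nlinarith
  match n, a, w, s, hsum, hs, hne, hw, ha, h45 with
  | 0, _, _, _, hsum, _, _, _, _, _ => simp at hsum; omega
  | 1, a, w, s, hsum, hs, hne, hw, ha, _ =>
    simp only [Finset.univ_unique, Fin.default_eq_zero, Finset.sum_singleton] at hsum
    have h1 := hs 0
    have h2 := hne 0
    rw [hw 0, one_mul] at h1 h2
    obtain ⟨b, hb⟩ : ∃ b, a 0 = b + 1 := ⟨a 0 - 1, by have := ha 0; omega⟩
    rw [hb, Nat.add_sub_cancel, ← hsum] at h1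
    apply h2
    rw [hb, ← hsum]
    nlinarith
  | k + 2, _, _, s, hsum, _, _, _, _, h45 =>
    have h0 := h45 0
    have h1 := h45 1
    have h2 := sum_ge_pair s (show (0 : Fin (k + 2)) ≠ 1 by simp)
    omega

/-- No non-solvable subgroup has a trivial torus in its Borel part. -/
theorem small_case (ht : t = 2 ∨ t = 4) (hg : g = N * t) (hN : N ≠ 1) (hN0 : 0 < N)
    (hsum : N * (t - 1) + ∑ i, s i + 1 = g) (hs : ∀ i, s i * (w i * a i) = g * (a i - 1))
    (ha : ∀ i, 5 ≤ a i) (hw : ∀ i, w i = 1 ∨ w i = 2 ∨ w i = 4) (hel : t = 2 → ∀ i, w i ≤ 2)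
    (hne : ∀ i, w i * a i ≠ g) : False := by
  subst hg
  have hS : ∑ i, s i + 1 = N := by rcases ht with rfl | rfl <;> omega
  have key : ∀ i, w i = t ∧ 4 * N ≤ 5 * s i ∧ s i * a i + N = N * a i := fun i => by
    have h1 := hs i
    have hlt : s i < N := by
      have := Finset.single_le_sum (f := s) (fun _ _ => Nat.zero_le _) (Finset.mem_univ i)
      omega
    obtain ⟨b, hb⟩ : ∃ b, a i = b + 5 := ⟨a i - 5, by have := ha i; omega⟩
    rw [hb, show b + 5 - 1 = b + 4 from rfl] at h1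
    rw [hb]
    have hwt : w i = t := by
      rcases ht with rfl | rfl <;> rcases hw i with e | e | e
      all_goals first
        | exact e
        | (have := hel rfl i; omega)
        | (rw [e] at h1; exfalso; nlinarith)
    refine ⟨hwt, ?_, ?_⟩
    all_goals
      rw [hwt] at h1
      rcases ht with rfl | rfl <;> nlinarith
  match n, a, w, s, hS, hne, key with
  | 0, _, _, _, hS, _, _ => simp at hS; omega
  | 1, a, w, s, hS, hne, key =>
    obtain ⟨h1, -, h3⟩ := key 0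
    simp only [Finset.univ_unique, Fin.default_eq_zero, Finset.sum_singleton] at hS
    apply hne 0
    rw [h1]
    rw [← hS] at h3 ⊢
    have : a 0 = s 0 + 1 := by nlinarith
    rw [this, mul_comm]
  | k + 2, _, _, s, hS, _, key =>
    have h0 := (key 0).2.1
    have h1 := (key 1).2.1
    have h2 := sum_ge_pair s (show (0 : Fin (k + 2)) ≠ 1 by simp)
    omega

/-- The quadratic behind the degree computation has no integral root. -/
theorem quad {h Q t N x y σ : ℤ} (hQ : Q = 2 * h) (hh : 4 ≤ h) (ht : t = Q ^ 2) (hσ : 1 ≤ σ)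
    (hN : N = t + 1 + σ * t * (Q - 1)) (hsum : x + y = 2 * (Q + 1) + 2 * (t - 2) * σ) (hmul : x * y = N)
    (hxy : x ≤ y) : False := by
  subst ht hQ
  have hS : y = 2 * (2 * h + 1) + 2 * ((2 * h) ^ 2 - 2) * σ - x := by linarith
  subst hS hN
  have f1 : (0 : ℤ) < h ^ 2 + 4 + σ * (4 * h ^ 2 + 4 * h - 4) := by nlinarith
  have f2 : h ^ 2 - 2 * h + 1 + σ * (4 * h - 4 * h ^ 2) < 0 := by
    nlinarith [mul_nonneg (sub_nonneg.mpr hσ) (show (0 : ℤ) ≤ 4 * h ^ 2 - 4 * h by nlinarith)]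
  rcases le_or_gt x (h - 1) with hx | hx
  · nlinarith [mul_nonneg (sub_nonneg.mpr hx)
      (show (0 : ℤ) ≤ 2 * (2 * h + 1) + 2 * ((2 * h) ^ 2 - 2) * σ - x - (h - 1) by nlinarith)]
  · have hx' : h ≤ x := by omega
    nlinarith [mul_nonneg (sub_nonneg.mpr hx')
      (show (0 : ℤ) ≤ 2 * (2 * h + 1) + 2 * ((2 * h) ^ 2 - 2) * σ - x - h by nlinarith)]

theorem three_dvd_succ {e : ℕ} (he : Odd e) : 3 ∣ 2 ^ e + 1 := by
  obtain ⟨k, rfl⟩ := he
  induction k with
  | zero => decide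
  | succ k ih =>
    obtain ⟨c, hc⟩ := ih
    refine ⟨c + 2 ^ (2 * k + 1), ?_⟩
    rw [show 2 * (k + 1) + 1 = 2 * k + 1 + 2 by ring, pow_add]
    linarith

theorem two_case {a b₁ b₂ Q : ℕ} {N t : ℕ} (hQ2 : Even Q) (hQ : 8 ≤ Q) (ha : a + 1 = Q) (ht : t = Q ^ 2)
    (hN : t + 1 ≤ N) (hdvdN : t ∣ N - 1) (hd1 : b₁ ∣ N * (t * a)) (hd2 : b₂ ∣ N * (t * a))
    (ho1 : Odd b₁) (ho2 : Odd b₂) (h12 : Nat.Coprime b₁ b₂) (h1a : Nat.Coprime b₁ a) (h2a : Nat.Coprime b₂ a)
    (hp : Q = 2 ^ Nat.log 2 Q)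
    (heq : (N : ℤ) * ((t * a : ℤ) * (b₁ + b₂) - 2 * ((t : ℤ) - 2) * (b₁ * b₂)) = 4 * ((b₁ : ℤ) * b₂)) :
    N = t + 1 := by
  have hcopt : ∀ b, Odd b → Nat.Coprime b t := fun b hb => by
    rw [ht, hp, ← pow_mul]
    exact Nat.Coprime.pow_right _ (Nat.coprime_two_right.mpr hb)
  have hb : b₁ * b₂ ∣ N := h12.mul_dvd_of_dvd_of_dvd
    (((hcopt _ ho1).mul_right h1a).dvd_of_dvd_mul_right hd1)
    (((hcopt _ ho2).mul_right h2a).dvd_of_dvd_mul_right hd2)
  obtain ⟨k, hk⟩ := hb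
  have hNodd : Odd N := by
    obtain ⟨c, hc⟩ := hdvdN
    obtain ⟨u, hu⟩ := hQ2
    refine ⟨t / 2 * c, ?_⟩
    have : t = 2 * (2 * u * u) := by rw [ht, hu]; ring
    rw [this, Nat.mul_div_cancel_left _ two_pos]
    rw [this] at hc hN
    rw [show 2 * (2 * u * u * c) = 2 * (2 * u * u) * c by ring, ← hc]
    omega
  have hb0 : 0 < (b₁ : ℤ) * b₂ := by
    have := ho1.pos; have := ho2.pos; positivity
  set D : ℤ := (t * a : ℤ) * (b₁ + b₂) - 2 * ((t : ℤ) - 2) * (b₁ * b₂) with hD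
  have hkD : (k : ℤ) * D = 4 := by
    rw [hk] at heq
    push_cast at heq
    have : ((b₁ : ℤ) * b₂) * ((k : ℤ) * D) = ((b₁ : ℤ) * b₂) * 4 := by linarith
    exact mul_left_cancel₀ hb0.ne' this
  have hk1 : k = 1 := by
    have hko : Odd k := (Nat.odd_mul.mp (hk ▸ hNodd)).2
    have hk4 : k ∣ 2 ^ 2 := by exact_mod_cast (Dvd.intro D hkD : (k : ℤ) ∣ 4)
    obtain ⟨j, hj, rfl⟩ := (Nat.dvd_prime_pow Nat.prime_two).mp hk4
    rcases j with _ | j
    · rfl
    · exact absurd hko (Nat.not_odd_iff_even.mpr (even_two.pow_of_ne_zero (by omega)))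
  subst hk1
  rw [mul_one] at hk
  rw [Nat.cast_one, one_mul] at hkD
  -- degree congruences
  have htZ : (t : ℤ) = (Q : ℤ) ^ 2 := by exact_mod_cast ht
  have haZ : (a : ℤ) = (Q : ℤ) - 1 := by rw [← ha]; push_cast; ring
  have hNZ : (N : ℤ) = (b₁ : ℤ) * b₂ := by exact_mod_cast hk
  have hE : (t * a : ℤ) * (b₁ + b₂) = 2 * ((t : ℤ) - 2) * N + 4 := by rw [hNZ]; linarith
  have h2 : (a : ℤ) ∣ (N : ℤ) - 2 := by
    have hcop : IsCoprime (a : ℤ) 2 := by
      obtain ⟨u, hu⟩ := hQ2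
      exact ⟨-1, (u : ℤ), by rw [haZ, hu]; push_cast; ring⟩
    refine hcop.dvd_of_dvd_mul_left ⟨((Q : ℤ) + 1) * 2 * N - t * (b₁ + b₂), ?_⟩
    rw [htZ, haZ] at hE
    rw [htZ, haZ]
    linear_combination hE
  have h3 : (t : ℤ) ∣ (N : ℤ) - 1 := by
    have := Int.natCast_dvd_natCast.mpr hdvdN
    rwa [Nat.cast_sub (by omega), Nat.cast_one] at this
  have h4 : (t : ℤ) * a ∣ (N : ℤ) - (t + 1) := by
    refine IsCoprime.mul_dvd ⟨1, -((Q : ℤ) + 1), by rw [htZ, haZ]; ring⟩ ?_ ?_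
    · rw [show (N : ℤ) - (t + 1) = ((N : ℤ) - 1) - t by ring]; exact dvd_sub h3 (dvd_refl _)
    · rw [show (N : ℤ) - (t + 1) = ((N : ℤ) - 2) - a * ((Q : ℤ) + 1) by rw [htZ, haZ]; ring]
      exact dvd_sub h2 (Dvd.intro _ rfl)
  obtain ⟨σ, hσ⟩ := h4
  have hQ8 : (8 : ℤ) ≤ Q := by exact_mod_cast hQ
  rcases lt_trichotomy σ 0 with hneg | rfl | hpos
  · exfalso
    have : (t : ℤ) + 1 ≤ N := by exact_mod_cast hN
    have hpos' : 0 < (t : ℤ) * a := by rw [htZ, haZ]; nlinarith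
    nlinarith
  · rw [mul_zero, sub_eq_zero] at hσ; exact_mod_cast hσ
  · exfalso
    obtain ⟨u, hu⟩ := hQ2
    have hN' : (N : ℤ) = t + 1 + σ * t * ((Q : ℤ) - 1) := by rw [← haZ]; linarith
    have hne : (t : ℤ) * a ≠ 0 := by rw [htZ, haZ]; nlinarith
    have hsum : (b₁ : ℤ) + b₂ = 2 * ((Q : ℤ) + 1) + 2 * ((t : ℤ) - 2) * σ := by
      refine mul_left_cancel₀ hne ?_
      rw [hE, hN', htZ, haZ]
      ring
    have hQh : (Q : ℤ) = 2 * (u : ℤ) := by rw [hu]; push_cast; ring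
    have hu4 : (4 : ℤ) ≤ u := by linarith
    rcases le_total (b₁ : ℤ) b₂ with hle | hle
    · exact quad hQh hu4 htZ hpos hN' hsum hNZ.symm hle
    · exact quad hQh hu4 htZ hpos hN' (by rw [add_comm]; exact hsum) (by rw [mul_comm]; exact hNZ.symm) hle

/-- The classes other than the split torus, when the swap is present. -/
theorem rest_case {Q a₀ e : ℕ} (hQe : Q = 2 ^ e) (he : Odd e) (hQ : 8 ≤ Q) (ha₀ : a₀ + 1 = Q)
    (ht : t = Q ∨ t = Q ^ 2) (hNge : t + 1 ≤ N) (htN : t ∣ N - 1) (h3 : ¬ 3 ∣ N * (t * a₀))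
    (ht8 : 8 ≤ t) (hgbig : 112 ≤ N * (t * a₀)) (hNt : 7 * (N * t) ≤ N * (t * a₀)) (hN2 : 2 * N ≤ N * t)
    (hE : 2 * (∑ j, s j + 1) + N * t = N * (t * a₀) + 2 * N)
    (hs : ∀ i, s i * (w i * a i) = N * (t * a₀) * (a i - 1))
    (hP : ∀ i, Odd (a i) ∧ 5 ≤ a i ∧ (w i = 1 ∨ w i = 2 ∨ w i = 4) ∧ w i * a i ∣ N * (t * a₀))
    (hel : t = Q → ∀ i, w i ≤ 2) (hcop : ∀ i j, i ≠ j → Nat.Coprime (a i) (a j))
    (hcop₀ : ∀ i, Nat.Coprime (a i) a₀)
    (hbound : ∀ j, w j = 2 ∧ 4 * (N * (t * a₀)) ≤ 10 * s j ∨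
      w j = 4 ∧ 4 * (N * (t * a₀)) ≤ 20 * s j ∧ 4 * s j < N * (t * a₀)) :
    t = Q ^ 2 ∧ N = t + 1 := by
  match n, a, w, s, hE, hs, hP, hel, hcop, hcop₀, hbound with
  | 0, a, w, s, hE, hs, hP, hel, hcop, hcop₀, hbound => exfalso; simp at hE; omega
  | 1, a, w, s, hE, hs, hP, hel, hcop, hcop₀, hbound =>
    exfalso
    simp only [Finset.univ_unique, Fin.default_eq_zero, Finset.sum_singleton] at hE
    rcases hbound 0 with ⟨ew, -⟩ | ⟨-, -, hb4⟩
    · obtain ⟨hodd, -, -, hdvd⟩ := hP 0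
      have h1 := hs 0
      rw [ew] at h1 hdvd
      set x := a 0 with hx
      have hxpos := hodd.pos
      have heq : (N : ℤ) * (t * a₀ + 2 * x - t * x) = 2 * x := by
        have hE' : (2 * ((s 0 : ℤ) + 1) + N * t) = N * (t * a₀) + 2 * N := by exact_mod_cast hE
        have h1' : (s 0 : ℤ) * (2 * x) = N * (t * a₀) * ((x : ℤ) - 1) := by
          have := congrArg (Nat.cast : ℕ → ℤ) h1
          push_cast [Nat.cast_sub (show 1 ≤ x from hxpos)] at this
          exact this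
        linear_combination h1' - (x : ℤ) * hE'
      have hNZ : (t : ℤ) + 1 ≤ N := by exact_mod_cast hNge
      have hxa : a₀ + 2 ≤ x := by
        by_contra hcon
        have hoa : Odd a₀ := by
          rw [Nat.odd_iff]; have : Even Q := by rw [hQe]; exact even_two.pow_of_ne_zero (by obtain ⟨k, rfl⟩ := he; omega)
          rw [Nat.even_iff] at this; omega
        have hxle : x ≤ a₀ := by
          rw [Nat.odd_iff] at hodd hoa; omega
        have : (x : ℤ) ≤ a₀ := by exact_mod_cast hxle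
        have : (0 : ℤ) < x := by exact_mod_cast hxpos
        nlinarith [mul_nonneg (show (0 : ℤ) ≤ t by positivity) (sub_nonneg.mpr ‹(x : ℤ) ≤ a₀›)]
      have hDpos : (0 : ℤ) < t * a₀ + 2 * x - t * x := by
        have : (0 : ℤ) < x := by exact_mod_cast hxpos
        by_contra hcon
        nlinarith
      have hxle : (x : ℤ) ≤ a₀ + 2 := by
        by_contra hcon
        push Not at hcon
        have : (a₀ : ℤ) + 3 ≤ x := by omega
        have hta' : (a₀ : ℤ) + 1 ≤ t := by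
          rw [← Nat.cast_one, ← Nat.cast_add]; rcases ht with rfl | rfl
          · exact_mod_cast ha₀.le
          · exact_mod_cast (show a₀ + 1 ≤ Q ^ 2 by nlinarith)
        nlinarith [mul_nonneg (show (0 : ℤ) ≤ (t : ℤ) - 2 by omega) (sub_nonneg.mpr this)]
      have hxeq : x = a₀ + 2 := by omega
      rcases ht with rfl | rfl
      · refine h3 (dvd_trans ?_ ((dvd_mul_left x 2).trans hdvd))
        rw [hxeq, show a₀ + 2 = 2 ^ e + 1 by omega]
        exact three_dvd_succ he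
      · rw [hxeq] at hDpos
        push_cast at hDpos
        have : (8 : ℤ) ≤ Q := by exact_mod_cast hQ
        have : (a₀ : ℤ) + 1 = Q := by exact_mod_cast ha₀
        nlinarith
    · omega
  | 2, a, w, s, hE, hs, hP, hel, hcop, hcop₀, hbound =>
    rw [Fin.sum_univ_two] at hE
    rcases hbound 0 with ⟨e1, hA⟩ | ⟨e1, hA, -⟩
    · exfalso
      rcases hbound 1 with ⟨-, hB⟩ | ⟨-, hB, -⟩ <;> omega
    rcases hbound 1 with ⟨e2, hB⟩ | ⟨e2, hB, -⟩
    · exfalso; omega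
    have htQ : t = Q ^ 2 := by
      rcases ht with rfl | e'
      · have := hel rfl 0; omega
      · exact e'
    refine ⟨htQ, ?_⟩
    obtain ⟨ho1, h51, -, hd1⟩ := hP 0
    obtain ⟨ho2, h52, -, hd2⟩ := hP 1
    have hlog : Q = 2 ^ Nat.log 2 Q := by rw [hQe, Nat.log_pow one_lt_two]
    refine two_case (b₁ := a 0) (b₂ := a 1) (a := a₀) ?_ hQ ha₀ htQ hNge htN
      ((dvd_mul_left _ _).trans hd1) ((dvd_mul_left _ _).trans hd2) ho1 ho2 (hcop _ _ (by decide))
      (hcop₀ 0) (hcop₀ 1) hlog ?_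
    · rw [hQe]; exact even_two.pow_of_ne_zero (by obtain ⟨k, rfl⟩ := he; omega)
    have c1 := congrArg (Nat.cast : ℕ → ℤ) (hs 0)
    have c2 := congrArg (Nat.cast : ℕ → ℤ) (hs 1)
    rw [e1] at c1
    rw [e2] at c2
    push_cast [Nat.cast_sub (show 1 ≤ a 0 by omega)] at c1
    push_cast [Nat.cast_sub (show 1 ≤ a 1 by omega)] at c2
    have hE' : (2 * ((s 0 : ℤ) + s 1 + 1) + N * t) = N * (t * a₀) + 2 * N := by exact_mod_cast hE
    linear_combination (-2 * (a 0 : ℤ) * a 1) * hE' + (a 1 : ℤ) * c1 + (a 0 : ℤ) * c2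
  | k + 3, a, w, s, hE, hs, hP, hel, hcop, hcop₀, hbound =>
    exfalso
    have h3' : s 0 + s 1 + s 2 ≤ ∑ j, s j := by
      rw [Fin.sum_univ_succ, Fin.sum_univ_succ, Fin.sum_univ_succ]
      simp only [Fin.succ_zero_eq_one, Fin.succ_one_eq_two]
      omega
    have := hbound 0; have := hbound 1; have := hbound 2
    omega


set_option maxHeartbeats 1000000 in
/-- The Borel part is `T(Q^2)` and the action is doubly transitive. -/
theorem large_case {Q a₀ : ℕ} {e : ℕ} (hQe : Q = 2 ^ e) (he : Odd e) (hQ : 8 ≤ Q) (ha₀ : a₀ + 1 = Q)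
    (ht : t = Q ∨ t = Q ^ 2) (hg : g = N * (t * a₀)) (hN : N ≠ 1) (hN0 : 0 < N) (htN : t ∣ N - 1)
    (h3 : ¬ 3 ∣ g) (hsum : N * (t - 1) + ∑ i, s i + 1 = g)
    (hs : ∀ i, s i * (w i * a i) = g * (a i - 1))
    (hP : ∀ i, Odd (a i) ∧ 5 ≤ a i ∧ (w i = 1 ∨ w i = 2 ∨ w i = 4) ∧ w i * a i ∣ g)
    (hel : t = Q → ∀ i, w i ≤ 2) (hcop : ∀ i j, i ≠ j → Nat.Coprime (a i) (a j))
    (i₀ : Fin n) (hi₀ : a i₀ = a₀) (hw₀ : w i₀ ∣ 2) (hswap : w i₀ = 2 → t + 1 ≤ N) :
    t = Q ^ 2 ∧ N = t + 1 ∧ w i₀ = 2 := by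
  subst hg
  have ht8 : 8 ≤ t := by rcases ht with rfl | rfl <;> nlinarith
  have ht2 : Even t := by
    have hQeven : Even Q := by
      rw [hQe]; exact (even_two).pow_of_ne_zero (by obtain ⟨k, rfl⟩ := he; omega)
    rcases ht with rfl | rfl
    · exact hQeven
    · exact hQeven.pow_of_ne_zero two_ne_zero
  obtain ⟨b, hb⟩ : ∃ b, a₀ = b + 7 := ⟨a₀ - 7, by omega⟩
  have hta : 56 ≤ t * a₀ := by nlinarith
  have hs0 : s i₀ * w i₀ + N * t = N * (t * a₀) := by
    have h1 := hs i₀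
    rw [hi₀, show a₀ - 1 = b + 6 by omega] at h1
    have : a₀ * (s i₀ * w i₀ + N * t) = a₀ * (N * (t * a₀)) := by
      rw [hb] at h1 ⊢; linarith
    exact Nat.eq_of_mul_eq_mul_left (by omega) this
  match n, a, w, s, hsum, hs, hP, hel, hcop, i₀, hi₀, hw₀, hswap, hs0 with
  | n + 1, a, w, s, hsum, hs, hP, hel, hcop, i₀, hi₀, hw₀, hswap, hs0 =>
    rw [Fin.sum_univ_succAbove _ i₀] at hsum
    let r : Fin n → Fin (n + 1) := i₀.succAbove
    have hr : ∀ j, r j ≠ i₀ := fun j => Fin.succAbove_ne i₀ j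
    obtain ⟨b', hb'⟩ : ∃ b', t = b' + 8 := ⟨t - 8, by omega⟩
    rw [show t - 1 = b' + 7 by omega] at hsum
    rcases (Nat.dvd_prime Nat.prime_two).mp hw₀ with e₀ | e₀
    · exfalso
      rw [e₀, mul_one] at hs0
      have hS : ∑ j, s (r j) + 1 = N := by
        rw [hb'] at hs0; rw [hb'] at hsum; linarith
      rcases isEmpty_or_nonempty (Fin n) with _ | ⟨⟨j⟩⟩
      · simp at hS; omega
      · have hlt : s (r j) < N := by
          have := Finset.single_le_sum (f := fun x => s (r x)) (fun _ _ => Nat.zero_le _) (Finset.mem_univ j)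
          omega
        obtain ⟨-, h5, hw, -⟩ := hP (r j)
        have h1 := hs (r j)
        obtain ⟨c, hc⟩ : ∃ c, a (r j) = c + 5 := ⟨a (r j) - 5, by omega⟩
        rw [hc, show c + 5 - 1 = c + 4 from rfl] at h1
        have hw4 : w (r j) ≤ 4 := by omega
        have : N * 56 * (c + 4) ≤ s (r j) * (4 * (c + 5)) := by
          calc N * 56 * (c + 4) ≤ N * (t * a₀) * (c + 4) := by gcongr
            _ = s (r j) * (w (r j) * (c + 5)) := h1.symm
            _ ≤ _ := by gcongr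
        nlinarith
    · rw [e₀] at hs0
      have hNge := hswap e₀
      have hE : 2 * (∑ j, s (r j) + 1) + N * t = N * (t * a₀) + 2 * N := by
        rw [hb'] at hs0 hsum ⊢; linarith
      have hbound : ∀ j, (w (r j) = 2 ∧ 4 * (N * (t * a₀)) ≤ 10 * s (r j) ∨
          w (r j) = 4 ∧ 4 * (N * (t * a₀)) ≤ 20 * s (r j) ∧ 4 * s (r j) < N * (t * a₀)) := fun j => by
        obtain ⟨-, h5, hw, -⟩ := hP (r j)
        have h1 := hs (r j)
        obtain ⟨c, hc⟩ : ∃ c, a (r j) = c + 5 := ⟨a (r j) - 5, by omega⟩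
        rw [hc, show c + 5 - 1 = c + 4 from rfl] at h1
        have hgpos : 0 < N * (t * a₀) := by positivity
        have hle := Finset.single_le_sum (f := fun x => s (r x)) (fun _ _ => Nat.zero_le _) (Finset.mem_univ j)
        rcases hw with e | e | e <;> rw [e] at h1
        · exfalso
          have : 4 * (N * (t * a₀)) ≤ 5 * s (r j) := by nlinarith
          nlinarith
        · exact Or.inl ⟨e, by nlinarith⟩
        · exact Or.inr ⟨e, by nlinarith, by nlinarith⟩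
      have hNt : 7 * (N * t) ≤ N * (t * a₀) := by rw [hb]; nlinarith
      have hgbig : 112 ≤ N * (t * a₀) := by
        calc 112 = 2 * 56 := rfl
          _ ≤ N * (t * a₀) := Nat.mul_le_mul (by omega) hta
      have hN2 : 2 * N ≤ N * t := by nlinarith
      refine ⟨?_, ?_, e₀⟩
      all_goals
        obtain ⟨h1', h2'⟩ := rest_case hQe he hQ ha₀ ht hNge htN h3 ht8 hgbig hNt hN2
          (a := fun j => a (r j)) (w := fun j => w (r j)) (s := fun j => s (r j)) hE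
          (fun j => hs (r j)) (fun j => hP (r j)) (fun e' j => hel e' (r j))
          (fun i j hij => hcop _ _ fun e' => hij (Fin.succAbove_right_injective e'))
          (fun j => hi₀ ▸ hcop _ _ (hr j)) hbound
      · exact h1'
      · exact h2'

end Cfsg.Agent.Suzuki.Arith
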