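import Cfsg.Agent.Lib.Suzuki.SubgroupStruct

/-! The orbit of infinity under a normalised non-solvable subgroup of a Suzuki group. -/

set_option autoImplicit false

namespace Cfsg.Agent.Suzuki

open scoped Pointwise

variable {F : Type*} [Field F] [Fintype F] {m : ℕ} (h : SzField F m) (M : Subgroup (Cfsg.Sz F m))

local notation "pinfty" => Cfsg.suzukiPointInfinity F

include h

theorem two_elt_conj_borel (hns : ¬ Group.IsSolvable M) (hT : T h 0 1 ∈ M) {x : Cfsg.Sz F m} (hx : x ∈ M)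
    (hx1 : x ≠ 1) (hx4 : x ^ 4 = 1) : ∃ y ∈ M, y⁻¹ * x * y ∈ rootGroup h ∧ x • (y • pinfty) = y • pinfty := by
  obtain ⟨z, hzM, hz2, hzx⟩ : ∃ z ∈ M, orderOf z = 2 ∧ Commute z x := by
    by_cases h2 : x ^ 2 = 1
    · exact ⟨x, hx, orderOf_eq_prime_iff.mpr ⟨h2, hx1⟩, Commute.refl x⟩
    · exact ⟨x ^ 2, M.pow_mem hx 2, orderOf_eq_prime_iff.mpr ⟨by rw [← pow_mul]; exact hx4, h2⟩,
        Commute.pow_self x 2⟩
  obtain ⟨y, hy, e⟩ := involutions_conj_in h M hns hT hzM (orderOf_T_zero h one_ne_zero) hz2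
  have hne : T h 0 1 ≠ 1 := fun e' => one_ne_zero ((eq_one_iff_T h).mp e').2
  have hR : y⁻¹ * x * y ∈ rootGroup h := by
    refine centralizer_le h ⟨0, 1, rfl⟩ hne (Subgroup.mem_centralizer_singleton_iff.mpr ?_)
    rw [← e] at hzx
    calc y⁻¹ * x * y * T h 0 1 = y⁻¹ * (x * (y * T h 0 1 * y⁻¹)) * y := by group
      _ = y⁻¹ * (y * T h 0 1 * y⁻¹ * x) * y := by rw [hzx.eq]
      _ = T h 0 1 * (y⁻¹ * x * y) := by group
  refine ⟨y, hy, hR, ?_⟩
  have h1 : (y⁻¹ * x * y) • pinfty = pinfty := rootGroup_le_borel h hR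
  rwa [mul_smul, mul_smul, inv_smul_eq_iff] at h1

theorem ncard_two_elts (hns : ¬ Group.IsSolvable M) (hT : T h 0 1 ∈ M) :
    {x : Cfsg.Sz F m | x ∈ M ∧ x ≠ 1 ∧ x ^ 4 = 1}.ncard =
      (MulAction.orbit M pinfty).ncard * (Nat.card ↥(M ⊓ rootGroup h) - 1) := by
  classical
  set O := MulAction.orbit M pinfty
  have hO : ∀ p : O, ∃ y : M, (y : Cfsg.Sz F m) • pinfty = p.1 := fun p => p.2
  choose Y hY using hO
  have : Fintype ↥(M ⊓ rootGroup h) := Fintype.ofFinite _
  have hc : Nat.card {x : ↥(M ⊓ rootGroup h) // x ≠ 1} = Nat.card ↥(M ⊓ rootGroup h) - 1 := by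
    rw [Nat.card_eq_fintype_card, Nat.card_eq_fintype_card, Fintype.card_subtype_compl, Fintype.card_subtype_eq]
  rw [← hc, ← Nat.card_coe_set_eq, ← Nat.card_coe_set_eq O, ← Nat.card_prod]
  symm
  refine Nat.card_eq_of_bijective (fun q : O × {x : ↥(M ⊓ rootGroup h) // x ≠ 1} =>
    (⟨(Y q.1 : Cfsg.Sz F m) * q.2.1.1 * (Y q.1 : Cfsg.Sz F m)⁻¹,
      M.mul_mem (M.mul_mem (Y q.1).2 q.2.1.2.1) (M.inv_mem (Y q.1).2),
      fun e => q.2.2 (Subtype.ext (conj_eq_one_iff.mp e)), ?_⟩ :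
        {x : Cfsg.Sz F m | x ∈ M ∧ x ≠ 1 ∧ x ^ 4 = 1})) ⟨?_, ?_⟩
  · rw [conj_pow, conj_eq_one_iff]
    exact pow_four_of_conj_root h (u := 1) (by simpa using q.2.1.2.2)
  · rintro ⟨p, ⟨x, hx⟩, hx1⟩ ⟨p', ⟨x', hx'⟩, hx1'⟩ e
    have e' : (Y p : Cfsg.Sz F m) * x * (Y p : Cfsg.Sz F m)⁻¹ =
        (Y p' : Cfsg.Sz F m) * x' * (Y p' : Cfsg.Sz F m)⁻¹ := congrArg Subtype.val e
    have fixes : ∀ (q : O) (z : Cfsg.Sz F m), z ∈ rootGroup h →
        ((Y q : Cfsg.Sz F m) * z * (Y q : Cfsg.Sz F m)⁻¹) • q.1 = q.1 := fun q z hz => by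
      rw [← hY q, mul_smul, mul_smul, inv_smul_smul]
      exact congrArg ((Y q : Cfsg.Sz F m) • ·) (rootGroup_le_borel h hz)
    have hpp : p = p' := by
      apply Subtype.ext
      refine fixed_point_unique h (x := (Y p : Cfsg.Sz F m) * x * (Y p : Cfsg.Sz F m)⁻¹)
        (fun e'' => hx1 (Subtype.ext (conj_eq_one_iff.mp e''))) (n := 2) ?_ ?_ ?_ (fixes p x hx.2)
        (e' ▸ fixes p' x' hx'.2)
      · rw [conj_pow, conj_eq_one_iff]
        exact pow_four_of_conj_root h (u := 1) (by simpa using hx.2)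
      · rw [← hY p]; exact smul_mem_ovoid _ pinf_mem
      · rw [← hY p']; exact smul_mem_ovoid _ pinf_mem
    subst hpp
    have : x = x' := mul_left_cancel (mul_right_cancel e')
    subst this
    rfl
  · rintro ⟨x, hx, hx1, hx4⟩
    obtain ⟨y, hy, -, e⟩ := two_elt_conj_borel h M hns hT hx hx1 hx4
    let p : O := ⟨y • pinfty, ⟨⟨y, hy⟩, rfl⟩⟩
    set z := (Y p : Cfsg.Sz F m)⁻¹ * x * (Y p : Cfsg.Sz F m) with hz
    have hzM : z ∈ M := M.mul_mem (M.mul_mem (M.inv_mem (Y p).2) hx) (Y p).2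
    have hzB : z ∈ borel F m := by
      rw [MulAction.mem_stabilizer_iff, hz, mul_smul, mul_smul, hY p, inv_smul_eq_iff, hY p]
      exact e
    have hzR : z ∈ rootGroup h := borel_two_elt h hzB (n := 2) (by
      have := conj_pow (a := (Y p : Cfsg.Sz F m)⁻¹) (b := x) (i := 4)
      rw [inv_inv] at this
      rw [show 2 ^ 2 = 4 from rfl, hz, this, hx4]; group)
    have hz1 : z ≠ 1 := fun e' => hx1 (by
      calc x = (Y p : Cfsg.Sz F m) * z * (Y p : Cfsg.Sz F m)⁻¹ := by rw [hz]; group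
        _ = 1 := by rw [e']; group)
    refine ⟨(p, ⟨⟨z, hzM, hzR⟩, fun e' => hz1 (congrArg Subtype.val e')⟩), Subtype.ext ?_⟩
    show (Y p : Cfsg.Sz F m) * z * (Y p : Cfsg.Sz F m)⁻¹ = x
    rw [hz]; group

theorem card_borel_part (hA : ∀ k ∈ coordK h M, H h k ∈ M) :
    Nat.card ↥(M ⊓ borel F m) = Nat.card ↥(M ⊓ rootGroup h) * Nat.card (coordK h M) := by
  rw [← Nat.card_prod]
  symm
  refine Nat.card_eq_of_bijective (fun q : ↥(M ⊓ rootGroup h) × coordK h M =>
    (⟨q.1.1 * H h q.2.1, M.mul_mem q.1.2.1 (hA _ q.2.2),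
      (borel F m).mul_mem (rootGroup_le_borel h q.1.2.2) (H_mem_borel h _)⟩ : ↥(M ⊓ borel F m))) ⟨?_, ?_⟩
  · rintro ⟨⟨_, hx, a, b, rfl⟩, ⟨k, hk⟩⟩ ⟨⟨_, hy, c, d, rfl⟩, ⟨l, hl⟩⟩ e
    obtain ⟨rfl, rfl, rfl⟩ := TH_unique h (congrArg Subtype.val e)
    rfl
  · rintro ⟨g, hgM, hgB⟩
    obtain ⟨a, b, k, rfl⟩ := borel_form h hgB
    have hk : k ∈ coordK h M := ⟨a, b, hgM⟩
    refine ⟨(⟨T h a b, ?_, a, b, rfl⟩, ⟨k, hk⟩), rfl⟩
    simpa [mul_assoc] using M.mul_mem hgM (M.inv_mem (hA k hk))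

theorem card_eq_orbit_mul : Nat.card M = (MulAction.orbit M pinfty).ncard * Nat.card ↥(M ⊓ borel F m) := by
  have e : MulAction.stabilizer M pinfty = (borel F m).subgroupOf M := rfl
  rw [← (MulAction.stabilizer M pinfty).card_mul_index, MulAction.index_stabilizer, mul_comm, e, inf_comm,
    ← Subgroup.inf_subgroupOf_right, Nat.card_congr (Subgroup.subgroupOfEquivOfLe inf_le_right).toEquiv]

theorem orbit_subset_ovoid {p : Projectivization F (Fin 4 → F)} (hp : p ∈ MulAction.orbit M pinfty) :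
    p ∈ Cfsg.suzukiOvoid F m := by
  obtain ⟨g, rfl⟩ := hp; exact smul_mem_ovoid (g : Cfsg.Sz F m) pinf_mem

theorem orbit_sub_one_dvd : Nat.card ↥(M ⊓ rootGroup h) ∣ (MulAction.orbit M pinfty).ncard - 1 := by
  classical
  set O := MulAction.orbit M pinfty
  set R0 := M ⊓ rootGroup h
  let S := ↥(O \ {pinfty})
  have hmem : ∀ (x : R0) (p : S), (x : Cfsg.Sz F m) • p.1 ∈ O \ {pinfty} := fun x p => by
    obtain ⟨hp, hpi⟩ := p.2
    refine ⟨?_, fun e => hpi ?_⟩
    · obtain ⟨g, hg⟩ := hp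
      exact ⟨⟨x.1, x.2.1⟩ * g, by simp only [mul_smul]; rw [show g • pinfty = p.1 from hg]; rfl⟩
    · rw [Set.mem_singleton_iff] at e ⊢
      have h1 : (x : Cfsg.Sz F m) • pinfty = pinfty := rootGroup_le_borel h x.2.2
      exact smul_left_cancel (x : Cfsg.Sz F m) (e.trans h1.symm)
  let act : MulAction R0 S :=
    { smul := fun x p => ⟨(x : Cfsg.Sz F m) • p.1, hmem x p⟩
      one_smul := fun p => Subtype.ext (one_smul (Cfsg.Sz F m) p.1)
      mul_smul := fun x y p => Subtype.ext (mul_smul (x : Cfsg.Sz F m) (y : Cfsg.Sz F m) p.1) }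
  have hfree : ∀ p : S, MulAction.stabilizer R0 p = ⊥ := fun p => by
    rw [eq_bot_iff]
    intro x hx
    rw [Subgroup.mem_bot]
    by_contra hx1
    obtain ⟨a, b, e⟩ := x.2.2
    have hfix : T h a b • p.1 = p.1 := e ▸ congrArg Subtype.val (show x • p = p from hx)
    exact p.2.2 (T_fix_eq h (fun e' => hx1 (Subtype.ext (e.trans e'))) (orbit_subset_ovoid h M p.2.1) hfix)
  have : Fintype (Quotient (MulAction.orbitRel R0 S)) := Fintype.ofFinite _
  have hcard : Nat.card S = Nat.card (Quotient (MulAction.orbitRel R0 S)) * Nat.card R0 := by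
    rw [Nat.card_congr (MulAction.selfEquivSigmaOrbits R0 S), Nat.card_sigma,
      Finset.sum_congr rfl fun q _ => ?_, Finset.sum_const, Finset.card_univ, smul_eq_mul, ← Nat.card_eq_fintype_card]
    rw [Nat.card_coe_set_eq, ← MulAction.index_stabilizer, hfree, Subgroup.index_bot]
  have hS : Nat.card S = O.ncard - 1 := by
    rw [Nat.card_coe_set_eq, Set.ncard_sdiff_singleton_of_mem (MulAction.mem_orbit_self _)]
  rw [← hS, hcard]
  exact dvd_mul_left _ _

theorem rootPart (hns : ¬ Group.IsSolvable M) (hT : T h 0 1 ∈ M) (hA : ∀ k ∈ coordK h M, H h k ∈ M) :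
    (Nat.card ↥(M ⊓ rootGroup h) = Nat.card (coordU h M) ∧ ∀ x ∈ M, x ^ 4 = 1 → x ^ 2 = 1) ∨
    (Nat.card ↥(M ⊓ rootGroup h) = Nat.card (coordU h M) ^ 2 ∧
      (4 ≤ Nat.card (coordU h M) → ∀ a b, T h a b ∈ M ↔ a ∈ coordU h M ∧ b ∈ coordU h M)) := by
  classical
  set U := coordU h M
  obtain ⟨hcard, hU, hK⟩ := coord_facts h M hns hT
  obtain ⟨hmul, hcl, hsqrt⟩ := coordU_closed h M hns hT
  have hVU : ∀ a b, T h a b ∈ M → a ∈ U := fun a b hab => by
    refine hsqrt a ?_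
    show T h 0 _ ∈ M
    rw [← T_sq h a b]
    exact M.mul_mem hab hab
  by_cases hV : ∀ a b, T h a b ∈ M → a = 0
  · left
    have key : ∀ x ∈ M, x ∈ rootGroup h → x ^ 2 = 1 := fun x hx hR => by
      obtain ⟨a, b, rfl⟩ := hR
      rw [hV a b hx, pow_two, T_sq, θ_zero, zero_mul, T_zero]
    refine ⟨?_, fun x hx hx4 => ?_⟩
    · symm
      refine Nat.card_eq_of_bijective (fun u : U => (⟨T h 0 u.1, u.2, 0, u.1, rfl⟩ : ↥(M ⊓ rootGroup h))) ⟨?_, ?_⟩
      · exact fun u v e => Subtype.ext (T_injective h (congrArg Subtype.val e)).2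
      · rintro ⟨_, hx, a, b, rfl⟩
        obtain rfl := hV a b hx
        exact ⟨⟨b, hx⟩, rfl⟩
    · by_cases hx1 : x = 1
      · rw [hx1, one_pow]
      obtain ⟨y, hy, hR, -⟩ := two_elt_conj_borel h M hns hT hx hx1 hx4
      have h2 := key _ (M.mul_mem (M.mul_mem (M.inv_mem hy) hx) hy) hR
      have := conj_pow (a := y⁻¹) (b := x) (i := 2)
      rw [inv_inv, h2, eq_comm] at this
      calc x ^ 2 = y * (y⁻¹ * x ^ 2 * y) * y⁻¹ := by group
        _ = 1 := by rw [this]; group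
  · right
    push Not at hV
    obtain ⟨a0, b0, hab0, ha0⟩ := hV
    -- every first coordinate occurs
    have hk0 : Units.mk0 a0 ha0 ∈ coordK h M := (hK _).mpr (hVU _ _ hab0)
    have hfirst : ∀ c, c ∈ U → ∃ d, T h c d ∈ M := fun c hc => by
      by_cases hc0 : c = 0
      · exact ⟨0, by rw [hc0, T_zero]; exact M.one_mem⟩
      have hk : Units.mk0 (c / a0) (div_ne_zero hc0 ha0) ∈ coordK h M :=
        (hK _).mpr (by rw [Units.val_mk0, div_eq_mul_inv]; exact hmul _ _ hc (hcl _ (hVU _ _ hab0)).2)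
      refine ⟨θ m (c / a0) * (c / a0) * b0, ?_⟩
      have := M.mul_mem (M.mul_mem (hA _ hk) hab0) (M.inv_mem (hA _ hk))
      rwa [H_conj_T, Units.val_mk0, div_mul_cancel₀ c ha0] at this
    choose D hD using hfirst
    refine ⟨?_, fun h4 a b => ⟨fun hab => ?_, fun hab => ?_⟩⟩
    · rw [sq, ← Nat.card_prod]
      symm
      refine Nat.card_eq_of_bijective (fun q : U × U =>
        (⟨T h q.1.1 (q.2.1 + D q.1.1 q.1.2), by rw [← T_zero_mul h]; exact M.mul_mem q.2.2 (hD _ _),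
          _, _, rfl⟩ : ↥(M ⊓ rootGroup h))) ⟨?_, ?_⟩
      · rintro ⟨⟨a, ha⟩, ⟨u, hu⟩⟩ ⟨⟨c, hc⟩, ⟨v, hv⟩⟩ e
        obtain ⟨e1, e2⟩ := T_injective h (congrArg Subtype.val e)
        simp only at e1 e2
        subst e1
        have := add_right_cancel e2
        subst this
        rfl
      · rintro ⟨_, hx, a, b, rfl⟩
        have ha := hVU a b hx
        refine ⟨(⟨a, ha⟩, ⟨b + D a ha, ?_⟩), Subtype.ext ?_⟩
        · show T h 0 _ ∈ M
          have := M.mul_mem hx (M.inv_mem (hD a ha))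
          rw [T_inv, T_mul, h.add_self] at this
          convert! this using 2
          linear_combination (-(θ m a * a)) * h.two_eq_zero
        · show T h a (b + D a ha + D a ha) = T h a b
          rw [add_assoc, h.add_self, add_zero]
    all_goals
      have h1U : (1 : F) ∈ U := hT
      obtain ⟨c, hcU, hc0, hc1⟩ : ∃ c ∈ U, c ≠ 0 ∧ c ≠ 1 := by
        by_contra hcon
        push Not at hcon
        have hle : (U : Set F) ⊆ {0, 1} := fun c hc => by
          by_cases hc0 : c = 0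
          · exact Or.inl hc0
          · exact Or.inr (hcon c hc hc0)
        have := Set.ncard_le_ncard hle
        rw [← Nat.card_coe_set_eq, Set.ncard_pair zero_ne_one] at this
        exact absurd (h4.trans this) (by norm_num)
      -- the second coordinate over `1`
      have hβ : D 1 h1U ∈ U := by
        set β := D 1 h1U
        have hc1' : (1 : F) + c ≠ 0 := fun e => hc1 ((h.eq_iff_add_eq_zero _ _).mpr e).symm
        have hconj : ∀ (d : F) (hd : d ≠ 0), d ∈ U → T h d (θ m d * d * β) ∈ M := fun d hd hdU => by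
          have hk : Units.mk0 d hd ∈ coordK h M := (hK _).mpr hdU
          have := M.mul_mem (M.mul_mem (hA _ hk) (hD 1 h1U)) (M.inv_mem (hA _ hk))
          rwa [H_conj_T, Units.val_mk0, mul_one] at this
        have h2 := M.mul_mem (M.mul_mem (hD 1 h1U) (hconj c hc0 hcU))
          (M.inv_mem (hconj (1 + c) hc1' (U.add_mem h1U hcU)))
        rw [T_mul, T_inv, T_mul, θ_one, h.θ_add, θ_one, h.add_self] at h2
        have h3 : β * (θ m c + c) + c ∈ U := by
          show T h 0 _ ∈ M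
          convert! h2 using 2
          linear_combination (-β * (θ m c * c + 1) - (1 + θ m c) * (1 + c)) * h.two_eq_zero
        have hne : θ m c + c ≠ 0 := fun e => by
          rcases h.θ_eq_self ((h.eq_iff_add_eq_zero _ _).mpr e) with e' | e'
          · exact hc0 e'
          · exact hc1 e'
        have h4' : β * (θ m c + c) ∈ U := by
          have := U.add_mem h3 hcU
          rwa [add_assoc, h.add_self, add_zero] at this
        have := hmul _ _ h4' (hcl _ (U.add_mem (hcl c hcU).1 hcU)).2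
        rwa [mul_assoc, mul_inv_cancel₀ hne, mul_one] at this
      have hstd : ∀ d, d ∈ U → T h d 0 ∈ M := fun d hd => by
        by_cases hd0 : d = 0
        · rw [hd0, T_zero]; exact M.one_mem
        have hk : Units.mk0 d hd0 ∈ coordK h M := (hK _).mpr hd
        have h1 := M.mul_mem (M.mul_mem (hA _ hk) (hD 1 h1U)) (M.inv_mem (hA _ hk))
        rw [H_conj_T, Units.val_mk0, mul_one] at h1
        have hz : θ m d * d * D 1 h1U ∈ U := hmul _ _ (hmul _ _ (hcl d hd).1 hd) hβ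
        have := M.mul_mem hz h1
        rwa [T_zero_mul, h.add_self] at this
    · refine ⟨hVU a b hab, ?_⟩
      show T h 0 b ∈ M
      have := M.mul_mem hab (M.inv_mem (hstd a (hVU a b hab)))
      rw [T_inv, T_mul, h.add_self] at this
      convert! this using 2
      linear_combination (-(θ m a * a)) * h.two_eq_zero
    · have := M.mul_mem hab.2 (hstd a hab.1)
      rwa [T_zero_mul, add_zero] at this

end Cfsg.Agent.Suzuki
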