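import Cfsg.Agent.Lib.Suzuki.TorType

/-! The torus classes of a subgroup of a Suzuki group, and the resulting counting equation. -/

set_option autoImplicit false

namespace Cfsg.Agent.Suzuki

variable {F : Type*} [Field F] [Fintype F] {m : ℕ} (h : SzField F m) (M : Subgroup (Cfsg.Sz F m))

/-- The non-identity elements of `M` conjugate under `M` into `C`. -/
def spread (C : Subgroup (Cfsg.Sz F m)) : Set (Cfsg.Sz F m) :=
  {x | x ∈ M ∧ x ≠ 1 ∧ ∃ y ∈ M, y⁻¹ * x * y ∈ C}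

include h

theorem ncard_spread {C : Subgroup (Cfsg.Sz F m)} {e : ℕ} (hC : TorType C e) (hne : M ⊓ C ≠ ⊥) :
    (spread M C).ncard * Nat.card ↥(M ⊓ Subgroup.normalizer (C : Set (Cfsg.Sz F m))) =
      Nat.card M * (Nat.card ↥(M ⊓ C) - 1) := by
  set C' := C.subgroupOf M with hC'def
  have hcard : Nat.card C' = Nat.card ↥(M ⊓ C) := by
    rw [hC'def, inf_comm, ← Subgroup.inf_subgroupOf_right]
    exact Nat.card_congr (Subgroup.subgroupOfEquivOfLe inf_le_right).toEquiv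
  have hti : ∀ c ∈ C', c ≠ 1 → Subgroup.centralizer {c} = C' := by
    intro c hc hc1
    ext y
    rw [Subgroup.mem_centralizer_singleton_iff, Subgroup.mem_subgroupOf,
      ← hC.ti c hc (fun e => hc1 (Subtype.ext e)), Subgroup.mem_centralizer_singleton_iff]
    exact ⟨fun e => congrArg Subtype.val e, fun e => Subtype.ext e⟩
  obtain ⟨c0, hc0, hc01⟩ := (Subgroup.bot_or_exists_ne_one (M ⊓ C)).resolve_left hne
  have hN : Subgroup.normalizer (C' : Set M) =
      (Subgroup.normalizer (C : Set (Cfsg.Sz F m))).subgroupOf M := by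
    ext n
    rw [Subgroup.mem_subgroupOf]
    constructor
    · intro hn
      refine TI.mem_normalizer_of_conj hC.ti hc0.2 hc01 ?_
      exact (Subgroup.mem_normalizer_iff.mp hn ⟨c0, hc0.1⟩).mp hc0.2
    · intro hn
      rw [Subgroup.mem_normalizer_iff]
      exact fun y => Subgroup.mem_normalizer_iff.mp hn y
  have hN' : Nat.card (Subgroup.normalizer (C' : Set M)) =
      Nat.card ↥(M ⊓ Subgroup.normalizer (C : Set (Cfsg.Sz F m))) := by
    rw [hN, inf_comm, ← Subgroup.inf_subgroupOf_right]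
    exact Nat.card_congr (Subgroup.subgroupOfEquivOfLe inf_le_right).toEquiv
  have key := TI.card_conjugates hti
  rw [hcard, hN'] at key
  rw [← key]
  congr 1
  rw [← Nat.card_coe_set_eq]
  refine Nat.card_congr
    { toFun := fun x => ⟨⟨x.1, x.2.1⟩, fun e => x.2.2.1 (congrArg Subtype.val e), ?_⟩
      invFun := fun g => ⟨g.1.1, g.1.2, fun e => g.2.1 (Subtype.ext e), ?_⟩
      left_inv := fun x => rfl
      right_inv := fun g => rfl }
  · obtain ⟨y, hy, hy'⟩ := x.2.2.2; exact ⟨⟨y, hy⟩, hy'⟩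
  · obtain ⟨u, hu⟩ := g.2.2; exact ⟨u.1, u.2, hu⟩

omit [Fintype F] h in
theorem mem_spread_self {C : Subgroup (Cfsg.Sz F m)} {x : Cfsg.Sz F m} (hx : x ∈ M) (hx1 : x ≠ 1)
    (hxC : x ∈ C) : x ∈ spread M C :=
  ⟨hx, hx1, 1, M.one_mem, by simpa using hxC⟩

theorem spread_subset {C C' : Subgroup (Cfsg.Sz F m)} {e e' : ℕ} (hC : TorType C e) (hC' : TorType C' e')
    {x : Cfsg.Sz F m} (h1 : x ∈ spread M C) (h2 : x ∈ spread M C') : spread M C ⊆ spread M C' := by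
  obtain ⟨-, hx1, y, hy, hyC⟩ := h1
  obtain ⟨-, -, z, hz, hzC⟩ := h2
  rintro a ⟨ha, ha1, v, hv, hvC⟩
  refine ⟨ha, ha1, v * y⁻¹ * z, M.mul_mem (M.mul_mem hv (M.inv_mem hy)) hz, ?_⟩
  have hne : ∀ u : Cfsg.Sz F m, u⁻¹ * x * u ≠ 1 := fun u e => hx1 (by
    calc x = u * (u⁻¹ * x * u) * u⁻¹ := by group
      _ = 1 := by rw [e]; group)
  rw [← hC'.ti _ hzC (hne z), Subgroup.mem_centralizer_singleton_iff]
  have hc := hC.comm _ hvC _ hyC
  calc (v * y⁻¹ * z)⁻¹ * a * (v * y⁻¹ * z) * (z⁻¹ * x * z)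
      = z⁻¹ * y * ((v⁻¹ * a * v) * (y⁻¹ * x * y)) * y⁻¹ * z := by group
    _ = z⁻¹ * y * ((y⁻¹ * x * y) * (v⁻¹ * a * v)) * y⁻¹ * z := by rw [hc]
    _ = z⁻¹ * x * z * ((v * y⁻¹ * z)⁻¹ * a * (v * y⁻¹ * z)) := by group

theorem spread_eq {C C' : Subgroup (Cfsg.Sz F m)} {e e' : ℕ} (hC : TorType C e) (hC' : TorType C' e')
    {x : Cfsg.Sz F m} (h1 : x ∈ spread M C) (h2 : x ∈ spread M C') : spread M C = spread M C' :=
  (spread_subset h M hC hC' h1 h2).antisymm (spread_subset h M hC' hC h2 h1)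

theorem coprime_of_spread_ne {C C' : Subgroup (Cfsg.Sz F m)} {e e' : ℕ} (hC : TorType C e)
    (hC' : TorType C' e') (hne : spread M C ≠ spread M C') :
    Nat.Coprime (Nat.card ↥(M ⊓ C)) (Nat.card ↥(M ⊓ C')) := by
  refine Nat.coprime_of_dvd fun p hp h1 h2 => hne ?_
  have : Fact p.Prime := ⟨hp⟩
  obtain ⟨x, hx⟩ := exists_prime_orderOf_dvd_card' p h1
  obtain ⟨x', hx'⟩ := exists_prime_orderOf_dvd_card' p h2
  rw [← Subgroup.orderOf_coe] at hx hx'
  let xM : M := ⟨x.1, x.2.1⟩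
  let xM' : M := ⟨x'.1, x'.2.1⟩
  have hP : ∀ z : M, orderOf z = p → IsPGroup p (Subgroup.zpowers z) := fun z hz =>
    IsPGroup.of_card (n := 1) (by rw [Nat.card_zpowers, hz, pow_one])
  have ho : orderOf xM = p := by rw [← Subgroup.orderOf_coe]; exact hx
  have ho' : orderOf xM' = p := by rw [← Subgroup.orderOf_coe]; exact hx'
  obtain ⟨P, hxP⟩ := (hP _ ho).exists_le_sylow
  obtain ⟨P', hxP'⟩ := (hP _ ho').exists_le_sylow
  obtain ⟨v, rfl⟩ := MulAction.exists_smul_eq M P' P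
  have hxv : v * xM' * v⁻¹ ∈ ((v • P' : Sylow p M) : Subgroup M) :=
    ⟨xM', hxP' (Subgroup.mem_zpowers _), rfl⟩
  have hxP2 : xM ∈ ((v • P' : Sylow p M) : Subgroup M) := hxP (Subgroup.mem_zpowers _)
  have : Nontrivial ↥((v • P' : Sylow p M) : Subgroup M) := ⟨⟨⟨xM, hxP2⟩, 1, fun e => by
    have e' : xM = 1 := congrArg Subtype.val e
    rw [e', orderOf_one] at ho
    exact hp.ne_one ho.symm⟩⟩
  have := (v • P').isPGroup'.center_nontrivial
  obtain ⟨⟨z, hz⟩, hz1⟩ := exists_ne (1 : Subgroup.center ((v • P' : Sylow p M) : Subgroup M))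
  have hne1 : ((z : M) : Cfsg.Sz F m) ≠ 1 := fun e => hz1 (Subtype.ext (Subtype.ext (Subtype.ext e)))
  have hxne : ∀ w : Cfsg.Sz F m, orderOf w = p → w ≠ 1 := fun w hw e => by
    rw [e, orderOf_one] at hw; exact hp.ne_one hw.symm
  have hzC : ((z : M) : Cfsg.Sz F m) ∈ C := by
    rw [← hC.ti _ x.2.2 (hxne _ hx), Subgroup.mem_centralizer_singleton_iff]
    exact (congrArg (fun w : ((v • P' : Sylow p M) : Subgroup M) => ((w : M) : Cfsg.Sz F m))
      (Subgroup.mem_center_iff.mp hz ⟨xM, hxP2⟩)).symm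
  have hzC' : (v : Cfsg.Sz F m)⁻¹ * ((z : M) : Cfsg.Sz F m) * v ∈ C' := by
    rw [← hC'.ti _ x'.2.2 (hxne _ hx'), Subgroup.mem_centralizer_singleton_iff]
    have e1 : (v : Cfsg.Sz F m) * x'.1 * (v : Cfsg.Sz F m)⁻¹ * ((z : M) : Cfsg.Sz F m) =
        ((z : M) : Cfsg.Sz F m) * ((v : Cfsg.Sz F m) * x'.1 * (v : Cfsg.Sz F m)⁻¹) :=
      congrArg (fun w : ((v • P' : Sylow p M) : Subgroup M) => ((w : M) : Cfsg.Sz F m))
        (Subgroup.mem_center_iff.mp hz ⟨_, hxv⟩)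
    generalize ((z : M) : Cfsg.Sz F m) = zz at e1 ⊢
    calc (v : Cfsg.Sz F m)⁻¹ * zz * v * x'.1
        = (v : Cfsg.Sz F m)⁻¹ * (zz * (v * x'.1 * (v : Cfsg.Sz F m)⁻¹)) * v := by group
      _ = (v : Cfsg.Sz F m)⁻¹ * ((v * x'.1 * (v : Cfsg.Sz F m)⁻¹) * zz) * v := by rw [e1]
      _ = x'.1 * ((v : Cfsg.Sz F m)⁻¹ * zz * v) := by group
  exact spread_eq h M hC hC' (mem_spread_self M (z : M).2 hne1 hzC) ⟨(z : M).2, hne1, v, v.2, hzC'⟩

/-- The index of `M ∩ C` in `M ∩ N(C)`. -/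
theorem exists_weight {C : Subgroup (Cfsg.Sz F m)} {e : ℕ} (hC : TorType C e) (hne : M ⊓ C ≠ ⊥) :
    ∃ w, w ∣ e ∧ Nat.card ↥(M ⊓ Subgroup.normalizer (C : Set (Cfsg.Sz F m))) = w * Nat.card ↥(M ⊓ C) ∧
      ((∀ x ∈ M, x ^ 4 = 1 → x ^ 2 = 1) → w ≤ 2) := by
  set N := Subgroup.normalizer (C : Set (Cfsg.Sz F m)) with hNdef
  have : (C.subgroupOf N).Normal := Subgroup.normal_in_normalizer
  let π : ↥(M ⊓ N) →* N ⧸ C.subgroupOf N :=
    (QuotientGroup.mk' _).comp (Subgroup.inclusion inf_le_right)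
  have hk : ∀ x : ↥(M ⊓ N), x ∈ π.ker ↔ x.1 ∈ C := fun x => by
    rw [MonoidHom.mem_ker]
    exact (QuotientGroup.eq_one_iff _).trans Subgroup.mem_subgroupOf
  have hkc : Nat.card π.ker = Nat.card ↥(M ⊓ C) :=
    Nat.card_congr
      { toFun := fun x => ⟨x.1.1, x.1.2.1, (hk x.1).mp x.2⟩
        invFun := fun y => ⟨⟨y.1, y.2.1, Subgroup.le_normalizer y.2.2⟩, (hk _).mpr y.2.2⟩
        left_inv := fun _ => rfl
        right_inv := fun _ => rfl }
  have hidx : Nat.card (N ⧸ C.subgroupOf N) = e := by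
    have h1 := Subgroup.card_eq_card_quotient_mul_card_subgroup (C.subgroupOf N)
    rw [Nat.card_congr (Subgroup.subgroupOfEquivOfLe (Subgroup.le_normalizer (H := C))).toEquiv, hC.card_normalizer] at h1
    exact (Nat.eq_of_mul_eq_mul_right (by have := hC.one_lt; omega) h1).symm
  refine ⟨Nat.card π.range, hidx ▸ Subgroup.card_subgroup_dvd_card _, ?_, fun hel => ?_⟩
  · rw [← hkc, ← Nat.card_congr (QuotientGroup.quotientKerEquivRange π).toEquiv,
      ← Subgroup.card_eq_card_quotient_mul_card_subgroup]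
  · obtain ⟨c, hc, hc1⟩ := (Subgroup.bot_or_exists_ne_one (M ⊓ C)).resolve_left hne
    by_cases hex : ∃ y : ↥(M ⊓ N), y.1 ∉ C
    · obtain ⟨y, hy⟩ := hex
      have ho : ∀ z : ↥(M ⊓ N), z.1 ∉ C → orderOf z.1 = 2 := fun z hz =>
        orderOf_eq_prime_iff.mpr ⟨hel _ z.2.1 (hC.sub_two h z.2.2 hz), fun e => hz (e ▸ C.one_mem)⟩
      have hall : ∀ z : ↥(M ⊓ N), π z = 1 ∨ π z = π y := by
        intro z
        by_cases hz : z.1 ∈ C
        · exact Or.inl (MonoidHom.mem_ker.mp ((hk z).mpr hz))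
        · refine Or.inr ?_
          have e1 := hC.invert h z.2.2 (ho z hz) hc.2
          have e2 := hC.invert h y.2.2 (ho y hy) hc.2
          have : z⁻¹ * y ∈ π.ker := by
            rw [hk, ← hC.ti c hc.2 hc1, Subgroup.mem_centralizer_singleton_iff]
            show z.1⁻¹ * y.1 * c = c * (z.1⁻¹ * y.1)
            calc z.1⁻¹ * y.1 * c = z.1⁻¹ * (y.1 * c * y.1⁻¹) * y.1 := by group
              _ = z.1⁻¹ * (z.1 * c * z.1⁻¹) * y.1 := by rw [e1, e2]
              _ = c * (z.1⁻¹ * y.1) := by group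
          rw [MonoidHom.mem_ker, map_mul, map_inv, inv_mul_eq_one] at this
          exact this
      have hsub : (π.range : Set _) ⊆ {1, π y} := by
        rintro _ ⟨z, rfl⟩
        simpa using hall z
      have hr := Set.ncard_le_ncard hsub
      rw [← Nat.card_coe_set_eq] at hr
      refine le_trans hr ((Set.ncard_insert_le _ _).trans ?_)
      rw [Set.ncard_singleton]
    · push Not at hex
      have : π.range = ⊥ := by
        rw [eq_bot_iff]
        rintro _ ⟨z, rfl⟩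
        exact Subgroup.mem_bot.mpr (MonoidHom.mem_ker.mp ((hk z).mpr (hex z)))
      rw [this, Subgroup.card_bot]
      omega

theorem card_inf_conjSub {y : Cfsg.Sz F m} (hy : y ∈ M) (D : Subgroup (Cfsg.Sz F m)) :
    Nat.card ↥(M ⊓ conjSub y D) = Nat.card ↥(M ⊓ D) := by
  have hM : conjSub y M = M := by
    ext z
    rw [mem_conjSub]
    refine ⟨fun hz => ?_, fun hz => M.mul_mem (M.mul_mem (M.inv_mem hy) hz) hy⟩
    simpa [mul_assoc] using M.mul_mem (M.mul_mem hy hz) (M.inv_mem hy)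
  conv_lhs => rw [← hM]
  show Nat.card ↥(M.map (MulAut.conj y).toMonoidHom ⊓ D.map (MulAut.conj y).toMonoidHom) = _
  rw [← Subgroup.map_inf M D (MulAut.conj y).toMonoidHom (MulAut.conj y).injective,
    Subgroup.card_map_of_injective (f := (MulAut.conj y).toMonoidHom) (MulAut.conj y).injective]

set_option maxHeartbeats 1000000 in
/-- The classes of torus elements in a non-solvable subgroup. -/
theorem exists_torus_classes (hns : ¬ Group.IsSolvable M) :
    ∃ (n : ℕ) (a w s : Fin n → ℕ),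
      {x : Cfsg.Sz F m | x ∈ M ∧ x ≠ 1 ∧ x ^ 4 = 1}.ncard + ∑ i, s i + 1 = Nat.card M ∧
      (∀ i, s i * (w i * a i) = Nat.card M * (a i - 1)) ∧
      (∀ i, Odd (a i) ∧ 5 ≤ a i ∧ (w i = 1 ∨ w i = 2 ∨ w i = 4) ∧ w i * a i ∣ Nat.card M ∧
        w i * a i ≠ Nat.card M ∧ ((∀ x ∈ M, x ^ 4 = 1 → x ^ 2 = 1) → w i ≤ 2)) ∧
      (∀ i j, i ≠ j → Nat.Coprime (a i) (a j)) ∧
      ∀ (C : Subgroup (Cfsg.Sz F m)) (e : ℕ), TorType C e → M ⊓ C ≠ ⊥ →
        ∃ i, a i = Nat.card ↥(M ⊓ C) ∧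
          w i * a i = Nat.card ↥(M ⊓ Subgroup.normalizer (C : Set (Cfsg.Sz F m))) := by
  classical
  let 𝒯 := {p : Subgroup (Cfsg.Sz F m) × ℕ // TorType p.1 p.2 ∧ M ⊓ p.1 ≠ ⊥}
  let 𝒮 : Set (Set (Cfsg.Sz F m)) := Set.range fun p : 𝒯 => spread M p.1.1
  have : Fintype ↥𝒮 := Fintype.ofFinite _
  let idx := (Fintype.equivFin ↥𝒮).symm
  have hrep : ∀ i, ∃ p : 𝒯, spread M p.1.1 = (idx i).1 := fun i => (idx i).2
  choose rep hrep using hrep
  have hw : ∀ i, ∃ w, w ∣ (rep i).1.2 ∧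
      Nat.card ↥(M ⊓ Subgroup.normalizer ((rep i).1.1 : Set (Cfsg.Sz F m))) = w * Nat.card ↥(M ⊓ (rep i).1.1) ∧
      ((∀ x ∈ M, x ^ 4 = 1 → x ^ 2 = 1) → w ≤ 2) := fun i => exists_weight h M (rep i).2.1 (rep i).2.2
  choose w hw using hw
  refine ⟨_, fun i => Nat.card ↥(M ⊓ (rep i).1.1), w, fun i => (idx i).1.ncard, ?_, fun i => ?_, fun i => ?_,
    fun i j hij => ?_, fun C e hC hne => ?_⟩
  · have hcover : {x : Cfsg.Sz F m | x ∈ M} =
        insert 1 ({x : Cfsg.Sz F m | x ∈ M ∧ x ≠ 1 ∧ x ^ 4 = 1} ∪ ⋃ S : ↥𝒮, S.1) := by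
      ext x
      simp only [Set.mem_insert_iff, Set.mem_union, Set.mem_ofPred_eq, Set.mem_iUnion]
      constructor
      · intro hx
        by_cases hx1 : x = 1
        · exact Or.inl hx1
        refine Or.inr ?_
        rcases classify h hx1 with ⟨u, hu⟩ | ⟨u, hu⟩ | ⟨C, hC, hxC⟩
        · exact Or.inl ⟨hx, hx1, pow_four_of_conj_root h hu⟩
        · have hC := (torType_torus h).conj h u⁻¹
          have hxC : x ∈ conjSub u⁻¹ (torus h) := by rw [mem_conjSub, inv_inv]; exact hu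
          exact Or.inr ⟨⟨_, ⟨⟨(_, _), hC, fun e => hx1 (Subgroup.mem_bot.mp (e ▸ ⟨hx, hxC⟩))⟩, rfl⟩⟩,
            mem_spread_self M hx hx1 hxC⟩
        · exact Or.inr ⟨⟨_, ⟨⟨(_, _), torType_member h hC, fun e => hx1 (Subgroup.mem_bot.mp (e ▸ ⟨hx, hxC⟩))⟩, rfl⟩⟩,
            mem_spread_self M hx hx1 hxC⟩
      · rintro (rfl | ⟨hx, -⟩ | ⟨⟨_, p, rfl⟩, hx⟩)
        · exact M.one_mem
        · exact hx
        · exact hx.1
    have hdisj : Disjoint {x : Cfsg.Sz F m | x ∈ M ∧ x ≠ 1 ∧ x ^ 4 = 1} (⋃ S : ↥𝒮, S.1) := by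
      rw [Set.disjoint_left]
      rintro x ⟨-, -, hx4⟩ hxS
      obtain ⟨⟨_, p, rfl⟩, hxM, hx1, y, hy, hyC⟩ := Set.mem_iUnion.mp hxS
      apply hx1
      have h2 : (y⁻¹ * x * y) ^ 2 ^ 2 = 1 := by
        have := conj_pow (a := y⁻¹) (b := x) (i := 4)
        rw [inv_inv] at this
        rw [show 2 ^ 2 = 4 from rfl, this, hx4]; group
      have := p.2.1.not_orderOf_two h hyC h2
      calc x = y * (y⁻¹ * x * y) * y⁻¹ := by group
        _ = 1 := by rw [this]; group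
    have h1 : (1 : Cfsg.Sz F m) ∉ {x : Cfsg.Sz F m | x ∈ M ∧ x ≠ 1 ∧ x ^ 4 = 1} ∪ ⋃ S : ↥𝒮, S.1 := by
      rintro (⟨-, h1, -⟩ | hS)
      · exact h1 rfl
      · obtain ⟨⟨_, p, rfl⟩, -, h1, -⟩ := Set.mem_iUnion.mp hS
        exact h1 rfl
    have hpair : Pairwise (Function.onFun Disjoint fun S : ↥𝒮 => S.1) := by
      rintro ⟨_, p, rfl⟩ ⟨_, p', rfl⟩ hne
      rw [Function.onFun, Set.disjoint_left]
      exact fun x hx hx' => hne (Subtype.ext (spread_eq h M p.2.1 p'.2.1 hx hx'))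
    have hu : (⋃ S : ↥𝒮, S.1).ncard = ∑ i, (idx i).1.ncard := by
      rw [Set.ncard_iUnion_of_finite (fun _ => Set.toFinite _) hpair, finsum_eq_sum_of_fintype]
      exact (Equiv.sum_comp idx (fun S : ↥𝒮 => S.1.ncard)).symm
    have hM : Nat.card M = {x : Cfsg.Sz F m | x ∈ M}.ncard := Nat.card_coe_set_eq _
    rw [hM, hcover, Set.ncard_insert_of_notMem h1, Set.ncard_union_eq hdisj, hu]
  · dsimp only
    rw [← hrep i, ← (hw i).2.1]
    exact ncard_spread h M (rep i).2.1 (rep i).2.2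
  · obtain ⟨hd, hcard, hel⟩ := hw i
    have hT := (rep i).2.1
    have hdC : Nat.card ↥(M ⊓ (rep i).1.1) ∣ Nat.card (rep i).1.1 := Subgroup.card_dvd_of_le inf_le_right
    have hodd : ¬ 2 ∣ Nat.card ↥(M ⊓ (rep i).1.1) := fun hh => hT.odd (hh.trans hdC)
    have h3 : ¬ 3 ∣ Nat.card ↥(M ⊓ (rep i).1.1) := fun hh =>
      three_not_dvd h (hh.trans (Subgroup.card_subgroup_dvd_card _))
    have h1lt : 1 < Nat.card ↥(M ⊓ (rep i).1.1) := (Subgroup.one_lt_card_iff_ne_bot _).mpr (rep i).2.2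
    dsimp only
    refine ⟨Nat.odd_iff.mpr (by omega), by omega, ?_, ?_, ?_, hel⟩
    · rcases hT.he with e | e <;> rw [e] at hd
      · rcases (Nat.dvd_prime Nat.prime_two).mp hd with e' | e' <;> tauto
      · obtain ⟨j, hj, e'⟩ := (Nat.dvd_prime_pow Nat.prime_two).mp (show w i ∣ 2 ^ 2 from hd)
        interval_cases j <;> simp_all
    · rw [← hcard]
      exact Subgroup.card_dvd_of_le inf_le_left
    · rw [← hcard]
      intro e
      have e2 := Subgroup.eq_of_le_of_card_ge (inf_le_left (b := Subgroup.normalizer ((rep i).1.1 : Set (Cfsg.Sz F m)))) e.ge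
      have hle : M ≤ Subgroup.normalizer ((rep i).1.1 : Set (Cfsg.Sz F m)) := inf_eq_left.mp e2
      have := isSolvable_normalizer h hT
      exact hns (Group.isSolvable_of_isSolvable_injective (Subgroup.inclusion_injective hle))
  · refine coprime_of_spread_ne h M (rep i).2.1 (rep j).2.1 fun e => hij ?_
    rw [hrep i, hrep j] at e
    exact idx.injective (Subtype.ext e)
  · let i := idx.symm ⟨_, ⟨⟨(C, e), hC, hne⟩, rfl⟩⟩
    refine ⟨i, ?_⟩
    have he : spread M (rep i).1.1 = spread M C := by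
      rw [hrep i]; simp [i]
    obtain ⟨c, hc, hc1⟩ := (Subgroup.bot_or_exists_ne_one (M ⊓ C)).resolve_left hne
    obtain ⟨hcM, -, y, hy, hyC⟩ : c ∈ spread M (rep i).1.1 := he ▸ mem_spread_self M hc.1 hc1 hc.2
    -- the representative is a conjugate of `C` under `M`
    have hT := (rep i).2.1
    have hne' : y⁻¹ * c * y ≠ 1 := fun e => hc1 (by
      calc c = y * (y⁻¹ * c * y) * y⁻¹ := by group
        _ = 1 := by rw [e]; group)
    have hiff : ∀ z, z ∈ (rep i).1.1 ↔ y * z * y⁻¹ ∈ C := fun z => by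
      rw [← hT.ti _ hyC hne', ← hC.ti c hc.2 hc1, Subgroup.mem_centralizer_singleton_iff,
        Subgroup.mem_centralizer_singleton_iff]
      constructor
      · intro e
        calc y * z * y⁻¹ * c = y * (z * (y⁻¹ * c * y)) * y⁻¹ := by group
          _ = y * ((y⁻¹ * c * y) * z) * y⁻¹ := by rw [e]
          _ = c * (y * z * y⁻¹) := by group
      · intro e
        calc z * (y⁻¹ * c * y) = y⁻¹ * (y * z * y⁻¹ * c) * y := by group
          _ = y⁻¹ * (c * (y * z * y⁻¹)) * y := by rw [e]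
          _ = y⁻¹ * c * y * z := by group
    have hC2 : conjSub y (rep i).1.1 = C := by
      ext z
      rw [mem_conjSub, hiff]
      simp [mul_assoc]
    have hcards := fun D => card_inf_conjSub h M hy D
    refine ⟨?_, ?_⟩
    · dsimp only; rw [← hC2, hcards]
    · dsimp only
      rw [← (hw i).2.1, ← hC2, normalizer_conjSub, hcards]

end Cfsg.Agent.Suzuki
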