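import Cfsg.Agent.Lib.Suzuki.SubgroupCount
import Cfsg.Agent.Lib.Suzuki.SubgroupArith
import Cfsg.Agent.Lib.Suzuki.Solubilizer
import Cfsg.Agent.Lib.Suzuki.Subfield

/-! The structure of a non-solvable subgroup of a Suzuki group. -/

set_option autoImplicit false

namespace Cfsg.Agent.Suzuki

variable {F : Type*} [Field F] [Fintype F] {m : ℕ} (h : SzField F m) (M : Subgroup (Cfsg.Sz F m))

/-- The second coordinates of the central part of `M`. -/
def coordU : AddSubgroup F where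
  carrier := {b | T h 0 b ∈ M}
  zero_mem' := by
    show T h 0 0 ∈ M
    rw [T_zero]
    exact M.one_mem
  add_mem' := fun {b d} hb hd => by
    show T h 0 (b + d) ∈ M
    rw [← T_zero_mul h b 0 d]
    exact M.mul_mem hb hd
  neg_mem' := fun {b} hb => by
    show T h 0 (-b) ∈ M
    rwa [h.neg_eq]

/-- The torus parts of the elements of `M` fixing infinity. -/
def coordK : Subgroup Fˣ where
  carrier := {k | ∃ a b, T h a b * H h k ∈ M}
  one_mem' := ⟨0, 0, by rw [T_zero, H_one, one_mul]; exact M.one_mem⟩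
  mul_mem' := by
    rintro k l ⟨a, b, hab⟩ ⟨c, d, hcd⟩
    obtain ⟨p, r, e⟩ : ∃ p r, T h a b * (H h k * T h c d * (H h k)⁻¹) = T h p r :=
      ⟨_, _, by rw [H_conj_T, T_mul]⟩
    refine ⟨p, r, ?_⟩
    rw [← e, H_mul, show T h a b * (H h k * T h c d * (H h k)⁻¹) * (H h k * H h l) =
      (T h a b * H h k) * (T h c d * H h l) by group]
    exact M.mul_mem hab hcd
  inv_mem' := by
    rintro k ⟨a, b, hab⟩
    obtain ⟨p, r, e⟩ : ∃ p r, H h k⁻¹ * (T h a b)⁻¹ * (H h k⁻¹)⁻¹ = T h p r :=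
      ⟨_, _, by rw [T_inv, H_conj_T]⟩
    refine ⟨p, r, ?_⟩
    rw [← e, show H h k⁻¹ * (T h a b)⁻¹ * (H h k⁻¹)⁻¹ * H h k⁻¹ = H h k⁻¹ * (T h a b)⁻¹ by group, ← H_inv,
      ← mul_inv_rev]
    exact M.inv_mem hab

include h

theorem exists_involution_mem (hns : ¬ Group.IsSolvable M) : ∃ t ∈ M, orderOf t = 2 := by
  by_contra hno
  push Not at hno
  have h4 : {x : Cfsg.Sz F m | x ∈ M ∧ x ≠ 1 ∧ x ^ 4 = 1} = ∅ := by
    rw [Set.eq_empty_iff_forall_notMem]
    rintro x ⟨hx, hx1, hx4⟩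
    by_cases h2 : x ^ 2 = 1
    · exact hno x hx (orderOf_eq_prime_iff.mpr ⟨h2, hx1⟩)
    · exact hno _ (M.pow_mem hx 2) (orderOf_eq_prime_iff.mpr ⟨by rw [← pow_mul]; exact hx4, h2⟩)
  obtain ⟨n, a, w, s, hsum, hs, hP, -, -⟩ := exists_torus_classes h M hns
  rw [h4, Set.ncard_empty, zero_add] at hsum
  have hodd : ¬ 2 ∣ Nat.card M := fun hd => by
    obtain ⟨x, hx⟩ := exists_prime_orderOf_dvd_card' (hp := ⟨Nat.prime_two⟩) 2 hd
    exact hno x.1 x.2 (by rw [Subgroup.orderOf_coe]; exact hx)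
  have hg : 1 < Nat.card M := by
    refine (Subgroup.one_lt_card_iff_ne_bot M).mpr fun e => hns ?_
    subst e
    exact Group.isSolvable_of_comm fun x y => Subsingleton.elim _ _
  refine Arith.odd_case hg hsum (fun i => ?_) hs (fun i => (hP i).2.1) fun i => (hP i).2.2.2.2.1
  obtain ⟨-, -, hw, hd, -, -⟩ := hP i
  rcases hw with e | e | e
  · exact e
  all_goals exact absurd ((show 2 ∣ w i by omega).trans ((dvd_mul_right (w i) (a i)).trans hd)) hodd

theorem not_fix_point (hns : ¬ Group.IsSolvable M) {p : Projectivization F (Fin 4 → F)}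
    (hp : p ∈ Cfsg.suzukiOvoid F m) : ∃ g ∈ M, g • p ≠ p := by
  by_contra hno
  push Not at hno
  have := isSolvable_stabilizer h hp
  exact hns (Group.isSolvable_of_isSolvable_injective
    (Subgroup.inclusion_injective (show M ≤ MulAction.stabilizer (Cfsg.Sz F m) p from fun g hg => hno g hg)))

omit [Fintype F] h in
theorem sq_one_conj {t y : Cfsg.Sz F m} (ht : orderOf t = 2) : orderOf (y * t * y⁻¹) = 2 := by
  rw [← MulAut.conj_apply, MulEquiv.orderOf_eq, ht]

theorem conj_in_of_ne {t s : Cfsg.Sz F m} (ht : t ∈ M) (hs : s ∈ M) (ot : orderOf t = 2) (os : orderOf s = 2)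
    {p r : Projectivization F (Fin 4 → F)} (hp : p ∈ Cfsg.suzukiOvoid F m) (hr : r ∈ Cfsg.suzukiOvoid F m)
    (ep : t • p = p) (er : s • r = r) (hne : p ≠ r) : ∃ y ∈ M, y * t * y⁻¹ = s := by
  have htt : t * t = 1 := by rw [← pow_two, ← ot, pow_orderOf_eq_one]
  have hss : s * s = 1 := by rw [← pow_two, ← os, pow_orderOf_eq_one]
  have hti : t⁻¹ = t := inv_eq_of_mul_eq_one_left htt
  have hsi : s⁻¹ = s := inv_eq_of_mul_eq_one_left hss
  set x := t * s with hx
  have ht1 : t ≠ 1 := fun e => by simp [e] at ot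
  have hs1 : s ≠ 1 := fun e => by simp [e] at os
  have hxt : ∀ j : ℕ, t * x ^ j * t⁻¹ = (x ^ j)⁻¹ := fun j => by
    rw [← conj_pow, ← inv_pow]; congr 1
    rw [hx, mul_inv_rev, hti, hsi, show t * (t * s) * t = (t * t) * s * t by group, htt, one_mul]
  have hxs : ∀ j : ℕ, s * x ^ j * s⁻¹ = (x ^ j)⁻¹ := fun j => by
    rw [← conj_pow, ← inv_pow]; congr 1
    rw [hx, mul_inv_rev, hti, hsi, show s * (t * s) * s = s * t * (s * s) by group, hss, mul_one]
  rcases Nat.even_or_odd (orderOf x) with ⟨j, hj⟩ | ⟨j, hj⟩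
  · exfalso
    have hjpos : 0 < j := by have := orderOf_pos x; omega
    set z := x ^ j
    have hz2 : z * z = 1 := by rw [← pow_add, ← hj, pow_orderOf_eq_one]
    have hz1 : z ≠ 1 := pow_ne_one_of_lt_orderOf hjpos.ne' (by omega)
    have hzi : z⁻¹ = z := inv_eq_of_mul_eq_one_left hz2
    have fixes : ∀ {u : Cfsg.Sz F m} {q : Projectivization F (Fin 4 → F)}, q ∈ Cfsg.suzukiOvoid F m →
        u ≠ 1 → u * u = 1 → u • q = q → u * z * u⁻¹ = z⁻¹ → z • q = q := by
      intro u q hq hu1 hu2 eq ec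
      refine (fixed_point_unique h hu1 (n := 1) (by rw [pow_one, pow_two, hu2]) hq (smul_mem_ovoid z hq) eq ?_).symm
      rw [hzi] at ec
      rw [← mul_smul, show u * z = z * u from mul_inv_eq_iff_eq_mul.mp ec,
        mul_smul, eq]
    exact hne (fixed_point_unique h hz1 (n := 1) (by rw [pow_one, pow_two, hz2]) hp hr
      (fixes hp ht1 htt ep (hxt j)) (fixes hr hs1 hss er (hxs j)))
  · refine ⟨(x ^ (j + 1))⁻¹, M.inv_mem (M.pow_mem (M.mul_mem ht hs) _), ?_⟩
    have h2 : (x ^ (j + 1))⁻¹ * t = t * x ^ (j + 1) := by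
      rw [← hxt, mul_assoc, inv_mul_cancel, mul_one]
    rw [inv_inv, h2, mul_assoc, ← pow_add, show j + 1 + (j + 1) = orderOf x + 1 by omega, pow_succ,
      pow_orderOf_eq_one, one_mul, hx, ← mul_assoc, htt, one_mul]

theorem involutions_conj_in (hns : ¬ Group.IsSolvable M) {t s : Cfsg.Sz F m} (ht : t ∈ M) (hs : s ∈ M)
    (ot : orderOf t = 2) (os : orderOf s = 2) : ∃ y ∈ M, y * t * y⁻¹ = s := by
  obtain ⟨p, hp, ep⟩ := exists_fixed_point h (x := t) (n := 1) (by rw [pow_one, ← ot, pow_orderOf_eq_one])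
  obtain ⟨r, hr, er⟩ := exists_fixed_point h (x := s) (n := 1) (by rw [pow_one, ← os, pow_orderOf_eq_one])
  by_cases hne : p = r
  · subst hne
    obtain ⟨g, hg, hgp⟩ := not_fix_point h M hns hp
    have hu : g * t * g⁻¹ ∈ M := M.mul_mem (M.mul_mem hg ht) (M.inv_mem hg)
    have eu : (g * t * g⁻¹) • (g • p) = g • p := by rw [mul_smul, mul_smul, inv_smul_smul, ep]
    obtain ⟨y, hy, e⟩ := conj_in_of_ne h M hu hs (sq_one_conj ot) os (smul_mem_ovoid g hp) hp eu er hgp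
    exact ⟨y * g, M.mul_mem hy hg, by rw [← e]; group⟩
  · exact conj_in_of_ne h M ht hs ot os hp hr ep er hne

theorem orderOf_T_zero {b : F} (hb : b ≠ 0) : orderOf (T h 0 b) = 2 :=
  orderOf_eq_prime_iff.mpr ⟨by rw [pow_two, T_sq, θ_zero, zero_mul, T_zero],
    fun e => hb ((eq_one_iff_T h).mp e).2⟩

/-! ### The coordinate groups -/

theorem mem_coordU_iff (hns : ¬ Group.IsSolvable M) (hT : T h 0 1 ∈ M) {b : F} (hb : b ≠ 0) :
    b ∈ coordU h M ↔ ∃ k ∈ coordK h M, θ m (k : F) * k = b := by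
  constructor
  · intro hbU
    obtain ⟨y, hy, e⟩ := involutions_conj_in h M hns hT hbU (orderOf_T_zero h one_ne_zero) (orderOf_T_zero h hb)
    have hyb : y ∈ borel F m :=
      fix_pinf_of_conj_mem h ⟨0, 1, rfl⟩ (fun e' => one_ne_zero ((eq_one_iff_T h).mp e').2) (e ▸ ⟨0, b, rfl⟩)
    obtain ⟨p, r, k, rfl⟩ := borel_form h hyb
    rw [TH_conj_zero, mul_one] at e
    exact ⟨k, ⟨p, r, hy⟩, (T_injective h e).2⟩
  · rintro ⟨k, ⟨p, r, hy⟩, rfl⟩
    show T h 0 _ ∈ M
    have := M.mul_mem (M.mul_mem hy hT) (M.inv_mem hy)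
    rwa [TH_conj_zero, mul_one] at this

/-- The subfield attached to a non-solvable subgroup, in the normalised position. -/
theorem coord_facts (hns : ¬ Group.IsSolvable M) (hT : T h 0 1 ∈ M) :
    Nat.card (coordK h M) + 1 = Nat.card (coordU h M) ∧
      (∀ x : F, x ∈ coordU h M ↔ x ^ Nat.card (coordU h M) = x) ∧
      (∀ k : Fˣ, k ∈ coordK h M ↔ (k : F) ∈ coordU h M) := by
  classical
  set U := coordU h M
  set K := coordK h M
  have hmap : ∀ k : K, θ m ((k : Fˣ) : F) * (k : Fˣ) ∈ U ∧ θ m ((k : Fˣ) : F) * (k : Fˣ) ≠ 0 := fun k => by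
    have h0 : θ m ((k : Fˣ) : F) * (k : Fˣ) ≠ 0 := mul_ne_zero (θ_ne_zero m (k : Fˣ).ne_zero) (k : Fˣ).ne_zero
    exact ⟨(mem_coordU_iff h M hns hT h0).mpr ⟨_, k.2, rfl⟩, h0⟩
  let f : K → {u : U // u ≠ 0} := fun k => ⟨⟨_, (hmap k).1⟩, fun e => (hmap k).2 (congrArg Subtype.val e)⟩
  have hf : Function.Bijective f := by
    refine ⟨fun k l e => ?_, fun ⟨⟨u, hu⟩, hu0⟩ => ?_⟩
    · exact Subtype.ext (Units.ext (h.θ_mul_self_injective (k : Fˣ).ne_zero (l : Fˣ).ne_zero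
        (congrArg (fun z : {u : U // u ≠ 0} => ((z.1 : U) : F)) e)))
    · obtain ⟨k, hk, e⟩ := (mem_coordU_iff h M hns hT (fun e => hu0 (Subtype.ext e))).mp hu
      exact ⟨⟨k, hk⟩, Subtype.ext (Subtype.ext e)⟩
  have hcard : Nat.card K + 1 = Nat.card U := by
    rw [Nat.card_eq_of_bijective f hf]
    have : Fintype U := Fintype.ofFinite U
    rw [Nat.card_eq_fintype_card, Nat.card_eq_fintype_card, Fintype.card_subtype_compl, Fintype.card_subtype_eq]
    have := Fintype.card_pos (α := U)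
    omega
  set Q := Nat.card U with hQ
  have hQ2 : 2 ≤ Q := by have := Nat.card_pos (α := K); omega
  have hKfix : ∀ k ∈ K, (k : F) ^ Q = k := fun k hk => by
    have h1 : (⟨k, hk⟩ : K) ^ Nat.card K = 1 := pow_card_eq_one'
    have h2 : k ^ Nat.card K = 1 := congrArg Subtype.val h1
    rw [← hcard, pow_succ, ← Units.val_pow_eq_pow_val, h2, Units.val_one, one_mul]
  have hsub : (U : Set F) ⊆ {x | x ^ Q = x} := fun x hx => by
    by_cases hx0 : x = 0
    · simp [hx0, zero_pow (show Q ≠ 0 by omega)]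
    obtain ⟨k, hk, rfl⟩ := (mem_coordU_iff h M hns hT hx0).mp hx
    show (θ m (k : F) * k) ^ Q = _
    rw [mul_pow, ← θ_pow, hKfix k hk]
  have hfix : {x : F | x ^ Q = x}.ncard ≤ Q := by
    have hne : (Polynomial.X ^ Q - Polynomial.X : Polynomial F) ≠ 0 :=
      FiniteField.X_pow_card_sub_X_ne_zero F (by omega)
    have hs : {x : F | x ^ Q = x} = ((Polynomial.X ^ Q - Polynomial.X : Polynomial F).roots.toFinset : Set F) := by
      ext x
      simp [Multiset.mem_toFinset, Polynomial.mem_roots hne, sub_eq_zero]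
    rw [hs, Set.ncard_coe_finset]
    refine (Multiset.toFinset_card_le _).trans ((Polynomial.card_roots' _).trans ?_)
    rw [FiniteField.X_pow_card_sub_X_natDegree_eq F (by omega)]
  have hUeq : (U : Set F) = {x | x ^ Q = x} :=
    Set.eq_of_subset_of_ncard_le hsub (by rw [← Nat.card_coe_set_eq (U : Set F)]; exact hfix)
  have hU : ∀ x : F, x ∈ U ↔ x ^ Q = x := fun x => Set.ext_iff.mp hUeq x
  refine ⟨hcard, hU, fun k => ⟨fun hk => (hU _).mpr (hKfix k hk), fun hk => ?_⟩⟩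
  let g : K → {u : U // u ≠ 0} := fun l =>
    ⟨⟨((l : Fˣ) : F), (hU _).mpr (hKfix _ l.2)⟩, fun e => (l : Fˣ).ne_zero (congrArg Subtype.val e)⟩
  have hg : Function.Bijective g := (Nat.bijective_iff_injective_and_card g).mpr
    ⟨fun l l' e => Subtype.ext (Units.ext (congrArg (fun z : {u : U // u ≠ 0} => ((z.1 : U) : F)) e)), Nat.card_eq_of_bijective f hf⟩
  obtain ⟨l, hl⟩ := hg.2 ⟨⟨(k : F), hk⟩, fun e => k.ne_zero (congrArg Subtype.val e)⟩
  have : (l : Fˣ) = k := Units.ext (congrArg (fun z : {u : U // u ≠ 0} => ((z.1 : U) : F)) hl)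
  exact this ▸ l.2

/-- The order of the subfield. -/
theorem exists_exponent (hns : ¬ Group.IsSolvable M) (hT : T h 0 1 ∈ M) :
    ∃ e, Nat.card (coordU h M) = 2 ^ e ∧ Odd e ∧ e ∣ 2 * m + 1 := by
  obtain ⟨hcard, hU, hK⟩ := coord_facts h M hns hT
  set U := coordU h M
  have hdvd : Nat.card U ∣ 2 ^ (2 * m + 1) := by
    rw [← h.card, ← Nat.card_eq_fintype_card]; exact AddSubgroup.card_addSubgroup_dvd_card U
  obtain ⟨e, -, he⟩ := (Nat.dvd_prime_pow Nat.prime_two).mp hdvd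
  have hmul : ∀ x y, x ∈ U → y ∈ U → x * y ∈ U := fun x y hx hy => by
    rw [hU] at hx hy ⊢; rw [mul_pow, hx, hy]
  let L : Subfield F :=
    { U with
      mul_mem' := fun {x y} hx hy => hmul x y hx hy
      one_mem' := hT
      inv_mem' := fun x hx => by
        show x⁻¹ ∈ U
        rw [hU] at *
        rw [inv_pow]
        exact congrArg (·⁻¹) ((hU x).mp hx) }
  have : Fintype L := Fintype.ofFinite L
  have h1 : Fintype.card F = Fintype.card L ^ Module.finrank L F := Module.card_eq_pow_finrank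
  have h2 : Fintype.card L = 2 ^ e := by rw [← Nat.card_eq_fintype_card]; exact he
  rw [h.card, h2, ← pow_mul] at h1
  have h3 := Nat.pow_right_injective le_rfl h1
  have hd : e ∣ 2 * m + 1 := ⟨_, h3⟩
  refine ⟨e, he, ?_, hd⟩
  rcases Nat.even_or_odd e with hev | hodd
  · exact absurd (hev.two_dvd.trans hd) (by omega)
  · exact hodd

theorem coordU_closed (hns : ¬ Group.IsSolvable M) (hT : T h 0 1 ∈ M) :
    (∀ x y, x ∈ coordU h M → y ∈ coordU h M → x * y ∈ coordU h M) ∧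
      (∀ x, x ∈ coordU h M → θ m x ∈ coordU h M ∧ x⁻¹ ∈ coordU h M) ∧
      ∀ a, θ m a * a ∈ coordU h M → a ∈ coordU h M := by
  obtain ⟨-, hU, -⟩ := coord_facts h M hns hT
  refine ⟨fun x y hx hy => ?_, fun x hx => ⟨?_, ?_⟩, fun a ha => ?_⟩
  · rw [hU] at hx hy ⊢; rw [mul_pow, hx, hy]
  · rw [hU] at hx ⊢; rw [← θ_pow, hx]
  · rw [hU] at hx ⊢; rw [inv_pow, hx]
  · by_cases ha0 : a = 0
    · rw [ha0]; exact (coordU h M).zero_mem
    rw [hU] at ha ⊢
    rw [mul_pow, ← θ_pow] at ha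
    exact h.θ_mul_self_injective (pow_ne_zero _ ha0) ha0 ha

end Cfsg.Agent.Suzuki
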