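import Cfsg.Agent.Lib.Suzuki.Structure
import Cfsg.Agent.Lib.LocalEven.Basic
import Mathlib.FieldTheory.Finite.Basic
import Mathlib.LinearAlgebra.LinearIndependent.Basic
import Mathlib.LinearAlgebra.FreeModule.Finite.Matrix

/-! The automorphism group of a Sylow 2-subgroup of a Suzuki group. -/

set_option autoImplicit false

namespace Cfsg.Agent.Suzuki

open Finset

variable {F : Type*} [Field F] [Fintype F] {m : ℕ}

/-- `fr u x = x ^ (2 ^ u)` for an exponent `u` taken modulo `2m+1`. -/
def fr (u : ZMod (2 * m + 1)) (x : F) : F := x ^ 2 ^ u.val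

variable (h : SzField F m)

include h

theorem pow_two_pow_mod (k : ℕ) (x : F) : x ^ 2 ^ k = x ^ 2 ^ (k % (2 * m + 1)) := by
  conv_lhs => rw [← Nat.mod_add_div k (2 * m + 1), pow_add, pow_mul, pow_mul, ← h.card]
  rw [FiniteField.pow_card_pow]

theorem fr_natCast (k : ℕ) (x : F) : fr (m := m) (k : ZMod (2 * m + 1)) x = x ^ 2 ^ k := by
  rw [fr, ZMod.val_natCast, ← pow_two_pow_mod h]

theorem fr_add (u v : ZMod (2 * m + 1)) (x : F) : fr (u + v) x = fr v (fr u x) := by
  rw [fr, fr, fr, ← pow_mul, ← pow_add, ZMod.val_add, ← pow_two_pow_mod h]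

theorem fr_zero' (x : F) : fr (0 : ZMod (2 * m + 1)) x = x := by
  simp [fr]

omit h in
theorem fr_mul (u : ZMod (2 * m + 1)) (x y : F) : fr u (x * y) = fr u x * fr u y := mul_pow _ _ _

theorem fr_add_arg (u : ZMod (2 * m + 1)) (x y : F) : fr u (x + y) = fr u x + fr u y := by
  have := h.charP
  exact add_pow_char_pow x y 2 u.val

omit h in
theorem fr_arg_zero (u : ZMod (2 * m + 1)) : fr u (0 : F) = 0 := zero_pow (by positivity)

omit h in
theorem fr_arg_one (u : ZMod (2 * m + 1)) : fr u (1 : F) = 1 := one_pow _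

theorem θ_eq_fr (x : F) : θ m x = fr (((m + 1 : ℕ) : ZMod (2 * m + 1))) x := (fr_natCast h _ x).symm

theorem θ_fr (u : ZMod (2 * m + 1)) (x : F) :
    θ m (fr u x) = fr (u + ((m + 1 : ℕ) : ZMod (2 * m + 1))) x := by
  rw [fr_add h, θ_eq_fr h]

theorem fr_θ (u : ZMod (2 * m + 1)) (x : F) : fr u (θ m x) = θ m (fr u x) := by
  rw [θ_eq_fr h, θ_eq_fr h, ← fr_add h, ← fr_add h, add_comm]

/-- The number of additive self-maps of the field. -/
theorem card_addMonoidHom : Nat.card (F →+ F) = (2 ^ (2 * m + 1)) ^ (2 * m + 1) := by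
  have := h.charP
  let : Algebra (ZMod 2) F := ZMod.algebra F 2
  let b := Module.finBasis (ZMod 2) F
  have hd : Module.finrank (ZMod 2) F = 2 * m + 1 := by
    have h1 := Module.card_eq_pow_finrank (K := ZMod 2) (V := F)
    rw [ZMod.card, h.card] at h1
    exact (Nat.pow_right_injective le_rfl h1).symm
  let e : (F →+ F) ≃ (F →ₗ[ZMod 2] F) :=
    { toFun := fun f => AddMonoidHom.toZModLinearMap 2 f
      invFun := LinearMap.toAddMonoidHom
      left_inv := fun f => rfl
      right_inv := fun f => rfl }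
  rw [Nat.card_congr (e.trans (b.constr (ZMod 2)).toEquiv.symm), Nat.card_fun, Nat.card_fin, hd,
    Nat.card_eq_fintype_card, h.card]

/-- Distinct Frobenius powers are distinct maps. -/
theorem fr_injective {u v : ZMod (2 * m + 1)} (e : ∀ x : F, fr u x = fr v x) : u = v := by
  obtain ⟨k, hk⟩ := IsCyclic.exists_generator (α := Fˣ)
  have ho : orderOf k = 2 ^ (2 * m + 1) - 1 := by
    rw [orderOf_eq_card_of_forall_mem_zpowers hk, h.card_units_natCard]
  have hlt : ∀ w : ZMod (2 * m + 1), 2 ^ w.val ∈ Set.Iio (orderOf k) := fun w => by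
    have h1 : 2 ^ w.val ≤ 2 ^ (2 * m) := Nat.pow_le_pow_right two_pos (Nat.lt_succ_iff.mp (ZMod.val_lt w))
    have h2 : 2 ≤ 2 ^ (2 * m) := Nat.le_self_pow (by have := h.one_le; omega) 2
    rw [Set.mem_Iio, ho, pow_succ]
    omega
  have h3 : k ^ 2 ^ u.val = k ^ 2 ^ v.val := Units.ext (by push_cast; exact e k)
  exact ZMod.val_injective _ (Nat.pow_right_injective le_rfl (pow_injOn_Iio_orderOf (hlt u) (hlt v) h3))

/-- Linearised polynomials of reduced degree represent functions uniquely. -/
theorem lin_unique {c : ZMod (2 * m + 1) → F} (hc : ∀ x, ∑ u, c u * fr u x = 0) : c = 0 := by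
  have hmul : ∀ u : ZMod (2 * m + 1), ∀ x y : F, fr u (x * y) = fr u x * fr u y := fun u => fr_mul u
  let φ : ZMod (2 * m + 1) → F →* F := fun u => powMonoidHom (2 ^ u.val)
  have hφ : Function.Injective φ := fun u v e => fr_injective h fun x => DFunLike.congr_fun e x
  have hli := (linearIndependent_monoidHom F F).comp φ hφ
  funext u
  refine Fintype.linearIndependent_iff.mp hli c ?_ u
  funext x
  rw [Finset.sum_apply]
  exact hc x

/-- Every additive map is given by a linearised polynomial. -/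
theorem exists_lin (A : F →+ F) : ∃ c : ZMod (2 * m + 1) → F, ∀ x, A x = ∑ u, c u * fr u x := by
  classical
  let Φ : (ZMod (2 * m + 1) → F) → (F →+ F) := fun c =>
    AddMonoidHom.mk' (fun x => ∑ u, c u * fr u x) fun x y => by
      simp only [fr_add_arg h, mul_add, Finset.sum_add_distrib]
  have hinj : Function.Injective Φ := fun c d e => by
    refine sub_eq_zero.mp (lin_unique h fun x => ?_)
    have := DFunLike.congr_fun e x
    simp only [Φ, AddMonoidHom.mk'_apply] at this
    simp only [Pi.sub_apply, sub_mul, Finset.sum_sub_distrib, this, sub_self]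
  have hcard : Nat.card (ZMod (2 * m + 1) → F) = Nat.card (F →+ F) := by
    rw [Nat.card_fun, Nat.card_zmod, card_addMonoidHom h, Nat.card_eq_fintype_card, h.card]
  have : Finite (F →+ F) := Finite.of_injective _ DFunLike.coe_injective
  obtain ⟨c, hc⟩ := ((Nat.bijective_iff_injective_and_card Φ).mpr ⟨hinj, hcard⟩).2 A
  exact ⟨c, fun x => (DFunLike.congr_fun hc x).symm⟩

theorem two_mul_shift : 2 * ((m + 1 : ℕ) : ZMod (2 * m + 1)) = 1 := by
  have h1 := ZMod.natCast_self (2 * m + 1)
  push_cast at h1 ⊢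
  linear_combination h1

theorem two_ne_zero_zmod : (2 : ZMod (2 * m + 1)) ≠ 0 := by
  intro e
  have : ((2 : ℕ) : ZMod (2 * m + 1)) = 0 := by exact_mod_cast e
  rw [ZMod.natCast_eq_zero_iff] at this
  have := Nat.le_of_dvd two_pos this
  have := h.one_le
  omega

/-- A symmetric double sum in characteristic two reduces to its diagonal. -/
theorem sum_symm_diag {ι : Type*} [Fintype ι] (f : ι → ι → F) (hf : ∀ u v, f u v = f v u) :
    ∑ u, ∑ v, f u v = ∑ u, f u u := by
  classical
  have h0 : ∑ p ∈ (univ : Finset ι).offDiag, f p.1 p.2 = 0 := by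
    refine Finset.sum_involution (fun p _ => (p.2, p.1)) ?_ ?_ ?_ ?_
    · intro p _
      rw [hf p.2 p.1]
      exact h.add_self _
    · intro p hp _ e
      rw [Finset.mem_offDiag] at hp
      exact hp.2.2 (congrArg Prod.fst e).symm
    · intro p hp
      rw [Finset.mem_offDiag] at hp ⊢
      exact ⟨Finset.mem_univ _, Finset.mem_univ _, hp.2.2.symm⟩
    · intro p _
      rfl
  rw [← Fintype.sum_prod_type' , ← Finset.univ_product_univ, ← Finset.diag_union_offDiag,
    Finset.sum_union (Finset.disjoint_diag_offDiag _), h0, add_zero, Finset.sum_diag]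

/-- An additive map compatible with the squaring form is semilinear. -/
theorem semilinear_of_sq (A B : F →+ F) (hA : A ≠ 0)
    (hsq : ∀ a, B (θ m a * a) = θ m (A a) * A a) :
    ∃ (k : Fˣ) (j : ZMod (2 * m + 1)),
      (∀ x, A x = k * fr j x) ∧ ∀ x, B x = θ m (k : F) * k * fr j x := by
  classical
  obtain ⟨c, hc⟩ := exists_lin h A
  obtain ⟨d, hd⟩ := exists_lin h B
  set r : ZMod (2 * m + 1) := ((m + 1 : ℕ) : ZMod (2 * m + 1)) with hr
  have h2r : 2 * r = 1 := two_mul_shift h
  have h2 : (2 : ZMod (2 * m + 1)) ≠ 0 := two_ne_zero_zmod h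
  have hr0 : r ≠ 0 := fun e => by
    rw [e, mul_zero] at h2r
    exact h2 (by linear_combination (-2 : ZMod (2 * m + 1)) * h2r)
  let e : ZMod (2 * m + 1) → F := fun u => θ m (c (u - r))
  have hθA : ∀ a, θ m (A a) = ∑ u, e u * fr u a := by
    intro a
    rw [hc]
    have hmap : θ m (∑ u, c u * fr u a) = ∑ u, θ m (c u * fr u a) :=
      map_sum (AddMonoidHom.mk' (θ m) h.θ_add) _ _
    rw [hmap]
    refine Fintype.sum_equiv (Equiv.addRight r) _ _ fun u => ?_
    simp only [e, Equiv.coe_addRight, add_sub_cancel_right]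
    rw [θ_mul, θ_fr h]
  let g : ZMod (2 * m + 1) → ZMod (2 * m + 1) → F := fun u v =>
    e u * c v - if u = v + r then d v else 0
  have hsum : ∀ a, ∑ v, ∑ u, g u v * fr u a * fr v a = 0 := by
    intro a
    have h1 : B (θ m a * a) = ∑ v, ∑ u, (if u = v + r then d v else 0) * fr u a * fr v a := by
      rw [hd]
      refine Finset.sum_congr rfl fun v _ => ?_
      rw [Finset.sum_eq_single (v + r) (fun u _ hu => by rw [if_neg hu, zero_mul, zero_mul])
        (fun hu => absurd (Finset.mem_univ _) hu), if_pos rfl, fr_mul, fr_θ h, θ_fr h]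
      ring
    have h2' : θ m (A a) * A a = ∑ v, ∑ u, e u * c v * fr u a * fr v a := by
      rw [hθA, hc, Finset.mul_sum]
      refine Finset.sum_congr rfl fun v _ => ?_
      rw [Finset.sum_mul]
      exact Finset.sum_congr rfl fun u _ => by ring
    simp only [g, sub_mul, Finset.sum_sub_distrib]
    rw [← h1, ← h2', hsq, sub_self]
  have hskew : ∀ u v, g u v + g v u = 0 := by
    have hbil : ∀ a b, ∑ v, (∑ u, (g u v + g v u) * fr u a) * fr v b = 0 := by
      intro a b
      have e0 := hsum (a + b)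
      simp only [fr_add_arg h, mul_add, add_mul, Finset.sum_add_distrib, hsum, zero_add, add_zero] at e0
      simp only [add_mul, Finset.sum_add_distrib, Finset.sum_mul]
      rw [Finset.sum_comm (f := fun v u => g v u * fr u a * fr v b)]
      refine Eq.trans ?_ e0
      rw [add_comm]
      congr 1 <;> refine Finset.sum_congr rfl fun v _ => Finset.sum_congr rfl fun u _ => ?_ <;> ring
    intro u v
    have h1 : ∀ a, (fun v => ∑ u, (g u v + g v u) * fr u a) = 0 := fun a => lin_unique h fun b => hbil a b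
    exact congrFun (lin_unique h fun a => congrFun (h1 a) v) u
  have hsymm : ∀ u v, g u v = g v u := fun u v => (h.eq_iff_add_eq_zero _ _).mpr (hskew u v)
  have hdiag : ∀ u, g u u = 0 := by
    have h1 : (fun w => g (w - 1) (w - 1)) = 0 := by
      refine lin_unique h fun a => ?_
      refine Eq.trans (Fintype.sum_equiv (Equiv.subRight 1) _ (fun u => g u u * fr u a * fr u a) fun w => ?_)
        (Eq.trans (sum_symm_diag h (fun v u => g u v * fr u a * fr v a) fun v u => ?_).symm (hsum a))
      · simp only [Equiv.subRight_apply]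
        rw [mul_assoc, ← pow_two]
        congr 1
        conv_lhs => rw [show w = (w - 1) + ((1 : ℕ) : ZMod (2 * m + 1)) by simp, fr_add h, fr_natCast h]
        norm_num
      · rw [hsymm]; ring
    intro u
    have := congrFun h1 (u + 1)
    simpa using this
  have hec : ∀ u, e u * c u = 0 := fun u => by
    have := hdiag u
    simpa [g, hr0] using this
  have key : ∀ s t, c s ≠ 0 → c t ≠ 0 → s = t ∨ s = t - 1 := by
    intro s t hs ht
    have hev : e (s + r) ≠ 0 := by
      simp only [e, add_sub_cancel_right]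
      exact θ_ne_zero m hs
    have het : e t = 0 := (mul_eq_zero.mp (hec t)).resolve_right ht
    by_contra hcon
    push Not at hcon
    have := hskew (s + r) t
    simp only [g] at this
    rw [if_neg (fun e' => hcon.1 (add_right_cancel e')),
      if_neg (fun e' => hcon.2 (by linear_combination -e' - h2r)), het, zero_mul, sub_zero, sub_zero,
      add_zero] at this
    exact mul_ne_zero hev ht this
  obtain ⟨j, hj⟩ : ∃ j, c j ≠ 0 := by
    by_contra hcon
    push Not at hcon
    exact hA (AddMonoidHom.ext fun x => by rw [hc]; simp [hcon])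
  have huniq : ∀ s, s ≠ j → c s = 0 := by
    intro s hs
    by_contra hcs
    rcases key s j hcs hj with e1 | e1
    · exact hs e1
    rcases key j s hj hcs with e2 | e2
    · exact hs e2.symm
    exact h2 (by linear_combination e1 + e2)
  have hAx : ∀ x, A x = c j * fr j x := fun x => by
    rw [hc]
    exact Finset.sum_eq_single j (fun u _ hu => by rw [huniq u hu, zero_mul])
      (fun hu => absurd (Finset.mem_univ _) hu)
  refine ⟨Units.mk0 (c j) hj, j, fun x => by rw [hAx]; rfl, fun x => ?_⟩
  rw [Units.val_mk0]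
  rcases eq_or_ne x 0 with rfl | hx
  · rw [map_zero, fr_arg_zero, mul_zero]
  obtain ⟨y, _, rfl⟩ := h.θ_mul_self_surjective x hx
  rw [hsq, hAx, fr_mul, fr_θ h, θ_mul]
  ring

/-! ### The automorphism group of the root group -/

/-- Coordinates on the root group. -/
def rt (a b : F) : rootGroup h := ⟨T h a b, a, b, rfl⟩

theorem rt_mul (a b c d : F) : rt h a b * rt h c d = rt h (a + c) (b + d + θ m a * c) :=
  Subtype.ext (T_mul h a b c d)

theorem rt_inj {a b c d : F} (e : rt h a b = rt h c d) : a = c ∧ b = d :=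
  T_injective h (congrArg Subtype.val e)

theorem rt_surj (x : rootGroup h) : ∃ a b, x = rt h a b := by
  obtain ⟨_, a, b, rfl⟩ := x
  exact ⟨a, b, rfl⟩

/-- Coordinates as an equivalence. -/
noncomputable def rtEquiv : F × F ≃ rootGroup h :=
  Equiv.ofBijective (fun p => rt h p.1 p.2)
    ⟨fun p q e => Prod.ext (rt_inj h e).1 (rt_inj h e).2, fun x => by
      obtain ⟨a, b, rfl⟩ := rt_surj h x
      exact ⟨(a, b), rfl⟩⟩

/-- The endomorphism attached to an additive map, a scalar and a Frobenius power. -/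
noncomputable def autHom (f : F →+ F) (k : Fˣ) (j : ZMod (2 * m + 1)) : rootGroup h →* rootGroup h :=
  MonoidHom.mk' (fun x =>
    rt h (k * fr j ((rtEquiv h).symm x).1)
      (θ m (k : F) * k * fr j ((rtEquiv h).symm x).2 + f ((rtEquiv h).symm x).1)) <| by
    intro x y
    obtain ⟨⟨a, b⟩, rfl⟩ := (rtEquiv h).surjective x
    obtain ⟨⟨c, d⟩, rfl⟩ := (rtEquiv h).surjective y
    have e : rtEquiv h (a, b) * rtEquiv h (c, d) = rtEquiv h (a + c, b + d + θ m a * c) := rt_mul h a b c d
    rw [e]
    simp only [Equiv.symm_apply_apply, rt_mul, fr_add_arg h, fr_mul, map_add, θ_mul, fr_θ h]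
    congr 1 <;> ring

theorem autHom_rt (f : F →+ F) (k : Fˣ) (j : ZMod (2 * m + 1)) (a b : F) :
    autHom h f k j (rt h a b) = rt h (k * fr j a) (θ m (k : F) * k * fr j b + f a) := by
  have e : rt h a b = rtEquiv h (a, b) := rfl
  rw [e]
  simp only [autHom, MonoidHom.mk'_apply, Equiv.symm_apply_apply]

theorem fr_eq_zero {j : ZMod (2 * m + 1)} {x : F} : fr j x = 0 ↔ x = 0 :=
  pow_eq_zero_iff (by positivity)

theorem autHom_injective (f : F →+ F) (k : Fˣ) (j : ZMod (2 * m + 1)) : Function.Injective (autHom h f k j) := by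
  rw [injective_iff_map_eq_one]
  intro x hx
  obtain ⟨a, b, rfl⟩ := rt_surj h x
  have e1 : (1 : rootGroup h) = rt h 0 0 := Subtype.ext (T_zero h).symm
  rw [autHom_rt, e1] at hx
  obtain ⟨ha, hb⟩ := rt_inj h hx
  obtain rfl : a = 0 := (fr_eq_zero h).mp ((mul_eq_zero.mp ha).resolve_left k.ne_zero)
  rw [map_zero, add_zero] at hb
  obtain rfl : b = 0 := (fr_eq_zero h).mp
    ((mul_eq_zero.mp hb).resolve_left (mul_ne_zero (θ_ne_zero m k.ne_zero) k.ne_zero))
  rw [e1]

/-- The automorphism attached to an additive map, a scalar and a Frobenius power. -/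
noncomputable def autOf (f : F →+ F) (k : Fˣ) (j : ZMod (2 * m + 1)) : MulAut (rootGroup h) :=
  have : Finite (rootGroup h) := Finite.of_equiv _ (rtEquiv h)
  MulEquiv.ofBijective (autHom h f k j) (Finite.injective_iff_bijective.mp (autHom_injective h f k j))

theorem autOf_rt (f : F →+ F) (k : Fˣ) (j : ZMod (2 * m + 1)) (a b : F) :
    autOf h f k j (rt h a b) = rt h (k * fr j a) (θ m (k : F) * k * fr j b + f a) :=
  autHom_rt h f k j a b

theorem exists_autOf (α : MulAut (rootGroup h)) : ∃ f k j, α = autOf h f k j := by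
  have hA' : ∀ a, ∃ p : F × F, α (rt h a 0) = rt h p.1 p.2 := fun a => by
    obtain ⟨x, y, e⟩ := rt_surj h (α (rt h a 0)); exact ⟨(x, y), e⟩
  choose P hP using hA'
  have hZ : ∀ b, ∃ b', α (rt h 0 b) = rt h 0 b' := fun b => by
    have h1 : rt h 0 b ∈ Subgroup.center (rootGroup h) := by
      rw [center_rootGroup, Subgroup.mem_subgroupOf]; exact ⟨b, rfl⟩
    have h2 := (Subgroup.characteristic_iff_le_comap.mp (inferInstance : (Subgroup.center (rootGroup h)).Characteristic)
      α) h1
    rw [Subgroup.mem_comap, center_rootGroup, Subgroup.mem_subgroupOf] at h2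
    obtain ⟨b', e⟩ := h2
    exact ⟨b', Subtype.ext e⟩
  choose B hB using hZ
  have hα : ∀ a b, α (rt h a b) = rt h (P a).1 (B b + (P a).2) := fun a b => by
    have e : rt h a b = rt h 0 b * rt h a 0 := by rw [rt_mul]; simp
    rw [e, map_mul, hB, hP, rt_mul]; simp
  have hmul : ∀ a c, (P (a + c)).1 = (P a).1 + (P c).1 ∧
      B (θ m a * c) + (P (a + c)).2 = (P a).2 + (P c).2 + θ m (P a).1 * (P c).1 := fun a c => by
    have e := map_mul α (rt h a 0) (rt h c 0)
    rw [rt_mul, add_zero, zero_add, hα, hP, hP, rt_mul] at e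
    exact rt_inj h e
  have hBadd : ∀ b d, B (b + d) = B b + B d := fun b d => by
    have e := map_mul α (rt h 0 b) (rt h 0 d)
    rw [rt_mul, θ_zero, zero_mul, add_zero, add_zero, hB, hB, hB, rt_mul, θ_zero, zero_mul, add_zero] at e
    simpa using (rt_inj h e).2
  let A0 : F →+ F := AddMonoidHom.mk' (fun a => (P a).1) fun a c => (hmul a c).1
  let B0 : F →+ F := AddMonoidHom.mk' B hBadd
  have hP0 : P 0 = (0, 0) := by
    have e : α (rt h 0 0) = rt h 0 0 := by
      rw [show rt h 0 0 = 1 from Subtype.ext (T_zero h), map_one]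
    rw [hP] at e
    exact Prod.ext (rt_inj h e).1 (rt_inj h e).2
  have hsq : ∀ a, B0 (θ m a * a) = θ m (A0 a) * A0 a := fun a => by
    have e := (hmul a a).2
    rw [h.add_self, hP0, h.add_self] at e
    simpa [A0, B0] using e
  have hA : A0 ≠ 0 := fun e => by
    have h1 : (P 1).1 = 0 := DFunLike.congr_fun e 1
    have h2 : α (rt h 1 0) ∈ Subgroup.center (rootGroup h) := by
      rw [center_rootGroup, Subgroup.mem_subgroupOf, hP, h1]; exact ⟨_, rfl⟩
    have h3 := (Subgroup.characteristic_iff_le_comap.mp (inferInstance : (Subgroup.center (rootGroup h)).Characteristic)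
      α.symm) h2
    rw [Subgroup.mem_comap, center_rootGroup, Subgroup.mem_subgroupOf] at h3
    obtain ⟨b', e'⟩ := h3
    simp only [MulEquiv.coe_toMonoidHom, MulEquiv.symm_apply_apply] at e'
    exact one_ne_zero (T_injective h e').1
  obtain ⟨k, j, hk1, hk2⟩ := semilinear_of_sq h A0 B0 hA hsq
  have hA0 : ∀ a, (P a).1 = k * fr j a := hk1
  have hB0 : ∀ b, B b = θ m (k : F) * k * fr j b := hk2
  let f : F →+ F := AddMonoidHom.mk' (fun a => (P a).2) fun a c => by
    have e := (hmul a c).2
    rw [hB0, hA0, hA0, fr_mul, fr_θ h, θ_mul] at e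
    linear_combination e
  refine ⟨f, k, j, MulEquiv.ext fun x => ?_⟩
  obtain ⟨a, b, rfl⟩ := rt_surj h x
  rw [hα, autOf_rt, hA0, hB0]
  rfl

theorem autOf_injective {f f' : F →+ F} {k k' : Fˣ} {j j' : ZMod (2 * m + 1)}
    (e : autOf h f k j = autOf h f' k' j') : f = f' ∧ k = k' ∧ j = j' := by
  have h1 : ∀ a, (k : F) * fr j a = k' * fr j' a ∧ f a = f' a := fun a => by
    have e1 := DFunLike.congr_fun e (rt h a 0)
    rw [autOf_rt, autOf_rt, fr_arg_zero, fr_arg_zero, mul_zero, mul_zero, zero_add, zero_add] at e1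
    exact rt_inj h e1
  have hk : k = k' := Units.ext (by simpa [fr_arg_one] using (h1 1).1)
  subst hk
  exact ⟨AddMonoidHom.ext fun a => (h1 a).2, rfl,
    fr_injective h fun x => mul_left_cancel₀ k.ne_zero (h1 x).1⟩

theorem card_mulAut_rootGroup :
    Nat.card (MulAut (rootGroup h)) =
      2 ^ ((2 * m + 1) ^ 2) * ((2 * m + 1) * (2 ^ (2 * m + 1) - 1)) := by
  let Φ : (F →+ F) × ZMod (2 * m + 1) × Fˣ → MulAut (rootGroup h) := fun p => autOf h p.1 p.2.2 p.2.1
  have hΦ : Function.Bijective Φ := by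
    refine ⟨fun p q e => ?_, fun α => ?_⟩
    · obtain ⟨e1, e2, e3⟩ := autOf_injective h e
      exact Prod.ext e1 (Prod.ext e3 e2)
    · obtain ⟨f, k, j, rfl⟩ := exists_autOf h α
      exact ⟨(f, j, k), rfl⟩
  rw [← Nat.card_eq_of_bijective Φ hΦ, Nat.card_prod, Nat.card_prod, Nat.card_zmod, card_addMonoidHom h,
    h.card_units_natCard, ← pow_mul, ← sq]

theorem autOf_one_mul (f g : F →+ F) : autOf h f 1 0 * autOf h g 1 0 = autOf h (f + g) 1 0 := by
  refine MulEquiv.ext fun x => ?_
  obtain ⟨a, b, rfl⟩ := rt_surj h x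
  simp only [MulAut.mul_apply, autOf_rt, Units.val_one, θ_one, one_mul, fr_zero' h, AddMonoidHom.add_apply]
  congr 1; ring

/-- The automorphisms trivial on the quotient by the centre. -/
noncomputable def centralAut : Multiplicative (F →+ F) →* MulAut (rootGroup h) :=
  MonoidHom.mk' (fun f => autOf h f.toAdd 1 0) fun f g => (autOf_one_mul h f.toAdd g.toAdd).symm

theorem centralAut_apply (f : Multiplicative (F →+ F)) : centralAut h f = autOf h f.toAdd 1 0 := rfl

theorem centralAut_normal : (centralAut h).range.Normal := by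
  refine ⟨?_⟩
  rintro _ ⟨f, rfl⟩ β
  obtain ⟨φ, k, j, rfl⟩ := exists_autOf h β
  obtain ⟨f', k', j', e⟩ := exists_autOf h (autOf h φ k j * centralAut h f * (autOf h φ k j)⁻¹)
  have e' : autOf h f' k' j' * autOf h φ k j = autOf h φ k j * centralAut h f := by
    rw [← e, inv_mul_cancel_right]
  have h1 : ∀ a, (k' : F) * fr j' ((k : F) * fr j a) = k * fr j a := fun a => by
    have e1 := DFunLike.congr_fun e' (rt h a 0)
    simp only [MulAut.mul_apply, centralAut_apply, autOf_rt, Units.val_one, one_mul, fr_zero' h] at e1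
    exact (rt_inj h e1).1
  have hsur : ∀ y, ∃ a, (k : F) * fr j a = y := fun y =>
    ⟨fr (-j) ((k : F)⁻¹ * y), by
      rw [← fr_add h, neg_add_cancel, fr_zero' h, mul_inv_cancel_left₀ k.ne_zero]⟩
  have h2 : ∀ y, (k' : F) * fr j' y = y := fun y => by
    obtain ⟨a, rfl⟩ := hsur y; exact h1 a
  have hk' : k' = 1 := Units.ext (by simpa [fr_arg_one] using h2 1)
  subst hk'
  have hj' : j' = 0 := fr_injective h fun x => by
    rw [fr_zero' h]; simpa using h2 x
  subst hj'
  exact ⟨Multiplicative.ofAdd f', e.symm⟩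

theorem card_centralAut_range : Nat.card (centralAut h).range = 2 ^ ((2 * m + 1) ^ 2) := by
  have hinj : Function.Injective (centralAut h) := fun f g e => Multiplicative.toAdd.injective (autOf_injective h e).1
  rw [← Nat.card_congr (MonoidHom.ofInjective hinj).toEquiv, Nat.card_congr Multiplicative.toAdd,
    card_addMonoidHom h, ← pow_mul, ← sq]

theorem centralAut_elementary : Cfsg.IsElementaryAbelian 2 (centralAut h).range := by
  refine ⟨⟨⟨?_⟩⟩, ?_⟩
  · rintro ⟨_, f, rfl⟩ ⟨_, g, rfl⟩
    apply Subtype.ext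
    show centralAut h f * centralAut h g = centralAut h g * centralAut h f
    rw [← map_mul, ← map_mul, mul_comm]
  · rintro _ ⟨f, rfl⟩
    rw [pow_two, ← map_mul, show f * f = 1 from Multiplicative.toAdd.injective
      (AddMonoidHom.ext fun a => h.add_self (f.toAdd a)), map_one]

theorem pCore_mulAut_rootGroup : Cfsg.pCore 2 (MulAut (rootGroup h)) = (centralAut h).range := by
  have : Fact (Nat.Prime 2) := ⟨Nat.prime_two⟩
  have hpos : Nat.card (MulAut (rootGroup h)) ≠ 0 := by
    rw [card_mulAut_rootGroup]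
    have : 1 < 2 ^ (2 * m + 1) := Nat.one_lt_two_pow (by omega)
    exact mul_ne_zero (by positivity) (mul_ne_zero (by omega) (by omega))
  have : Finite (MulAut (rootGroup h)) := Nat.finite_of_card_ne_zero hpos
  have hp : IsPGroup 2 (centralAut h).range := IsPGroup.of_card (card_centralAut_range h)
  have hle := LEBasic.le_pCore (centralAut_normal h) hp
  refine (Subgroup.eq_of_le_of_card_ge hle ?_).symm
  obtain ⟨l, hl⟩ := IsPGroup.iff_card.mp (LEBasic.pCore_isPGroup (p := 2) (G := MulAut (rootGroup h)))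
  have hdvd : 2 ^ l ∣ 2 ^ ((2 * m + 1) ^ 2) * ((2 * m + 1) * (2 ^ (2 * m + 1) - 1)) := by
    rw [← hl, ← card_mulAut_rootGroup h]; exact Subgroup.card_subgroup_dvd_card _
  have hodd : Odd ((2 * m + 1) * (2 ^ (2 * m + 1) - 1)) :=
    (odd_two_mul_add_one m).mul (Nat.Even.sub_odd Nat.one_le_two_pow ((even_two.pow_of_ne_zero (by omega))) odd_one)
  have hcop : Nat.Coprime (2 ^ l) ((2 * m + 1) * (2 ^ (2 * m + 1) - 1)) :=
    (Nat.coprime_two_left.mpr hodd).pow_left l
  rw [hl, card_centralAut_range]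
  exact Nat.le_of_dvd (by positivity) (hcop.dvd_of_dvd_mul_right hdvd)

end Cfsg.Agent.Suzuki
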